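import Cfsg.Agent.FusT.C

/-! A model of the Sylow `p`-subgroup of `G₂(q)`. -/

set_option autoImplicit false
set_option linter.style.haveILetI false
set_option linter.unusedSimpArgs false

namespace CF.FusG

open Cfsg Cfsg.FusionSystem Subgroup CF.Fus CF.FusD CF.FusU Function

/-- the model of the Sylow subgroup -/
@[ext] structure Gu (K : Type*) [Field K] where
  a : K
  t : K
  b : K
  c : K
  s : K
  z : K

namespace Gu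

variable {K : Type*} [Field K]

instance instMulGu : Mul (Gu K) := ⟨fun x y =>
  ⟨x.a + y.a, x.t + y.t, x.b + y.b + y.t * x.a, x.c + y.c + 2 * x.a * y.b + y.t * x.a ^ 2,
    x.s + y.s + 3 * x.a * y.c + 3 * x.a ^ 2 * y.b + y.t * x.a ^ 3,
    x.z + y.z + y.t ^ 2 * x.a ^ 3 + 3 * x.a * y.b ^ 2 + 3 * y.t * x.a ^ 2 * y.b + 3 * (y.b + y.t * x.a) * x.c -
      y.t * x.s⟩⟩
instance instOneGu : One (Gu K) := ⟨⟨0, 0, 0, 0, 0, 0⟩⟩
instance instInvGu : Inv (Gu K) := ⟨fun x => ⟨-x.a, -x.t, -x.b + x.t * x.a, -x.c + 2 * x.a * x.b - x.t * x.a ^ 2,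
  -x.s + 3 * x.a * x.c - 3 * x.a ^ 2 * x.b + x.t * x.a ^ 3,
  -x.z + 3 * x.b * x.c - x.t * x.s - x.t ^ 2 * x.a ^ 3 - 3 * x.a * x.b ^ 2 + 3 * x.t * x.a ^ 2 * x.b⟩⟩

@[simp] theorem mul_a (x y : Gu K) : (x * y).a = x.a + y.a := rfl
@[simp] theorem mul_t (x y : Gu K) : (x * y).t = x.t + y.t := rfl
@[simp] theorem mul_b (x y : Gu K) : (x * y).b = x.b + y.b + y.t * x.a := rfl
@[simp] theorem mul_c (x y : Gu K) : (x * y).c = x.c + y.c + 2 * x.a * y.b + y.t * x.a ^ 2 := rfl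
@[simp] theorem mul_s (x y : Gu K) :
    (x * y).s = x.s + y.s + 3 * x.a * y.c + 3 * x.a ^ 2 * y.b + y.t * x.a ^ 3 := rfl
@[simp] theorem mul_z (x y : Gu K) : (x * y).z = x.z + y.z + y.t ^ 2 * x.a ^ 3 + 3 * x.a * y.b ^ 2 +
    3 * y.t * x.a ^ 2 * y.b + 3 * (y.b + y.t * x.a) * x.c - y.t * x.s := rfl
@[simp] theorem one_a : (1 : Gu K).a = 0 := rfl
@[simp] theorem one_t : (1 : Gu K).t = 0 := rfl
@[simp] theorem one_b : (1 : Gu K).b = 0 := rfl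
@[simp] theorem one_c : (1 : Gu K).c = 0 := rfl
@[simp] theorem one_s : (1 : Gu K).s = 0 := rfl
@[simp] theorem one_z : (1 : Gu K).z = 0 := rfl
@[simp] theorem inv_a (x : Gu K) : x⁻¹.a = -x.a := rfl
@[simp] theorem inv_t (x : Gu K) : x⁻¹.t = -x.t := rfl
@[simp] theorem inv_b (x : Gu K) : x⁻¹.b = -x.b + x.t * x.a := rfl
@[simp] theorem inv_c (x : Gu K) : x⁻¹.c = -x.c + 2 * x.a * x.b - x.t * x.a ^ 2 := rfl
@[simp] theorem inv_s (x : Gu K) : x⁻¹.s = -x.s + 3 * x.a * x.c - 3 * x.a ^ 2 * x.b + x.t * x.a ^ 3 := rfl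
@[simp] theorem inv_z (x : Gu K) : x⁻¹.z = -x.z + 3 * x.b * x.c - x.t * x.s - x.t ^ 2 * x.a ^ 3 - 3 * x.a * x.b ^ 2 +
    3 * x.t * x.a ^ 2 * x.b := rfl

instance instGroupGu : Group (Gu K) := Group.ofLeftAxioms
  (fun _ _ _ => by ext <;> simp <;> ring) (fun _ => by ext <;> simp) fun _ => by ext <;> simp <;> ring

/-- coordinates -/
def equiv (K : Type*) [Field K] : Gu K ≃ K × K × K × K × K × K :=
  ⟨fun x => (x.a, x.t, x.b, x.c, x.s, x.z), fun v => ⟨v.1, v.2.1, v.2.2.1, v.2.2.2.1, v.2.2.2.2.1, v.2.2.2.2.2⟩,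
    fun _ => rfl, fun _ => rfl⟩

instance instFiniteGu [Finite K] : Finite (Gu K) := Finite.of_equiv _ (equiv K).symm
instance instFintypeGu [Fintype K] : Fintype (Gu K) := Fintype.ofEquiv _ (equiv K).symm
instance instDecEqGu [DecidableEq K] : DecidableEq (Gu K) := fun _ _ => decidable_of_iff _ Gu.ext_iff.symm

theorem card : Nat.card (Gu K) = Nat.card K ^ 6 := by
  rw [Nat.card_congr (equiv K)]; simp only [Nat.card_prod]; ring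

variable (x y : Gu K)

@[simp] theorem cm_a : (cm x y).a = 0 := by simp [cm]
@[simp] theorem cm_t : (cm x y).t = 0 := by simp [cm]
theorem cm_b : (cm x y).b = x.t * y.a - y.t * x.a := by simp [cm]; ring
theorem cm_c : (cm x y).c = 2 * y.a * x.b - 2 * x.a * y.b + x.t * y.a ^ 2 + y.t * x.a ^ 2 - 2 * x.a * x.t * y.a := by
  simp [cm]; ring
theorem cm_s : (cm x y).s = 3 * y.a * x.c - 3 * x.a * y.c + 3 * y.a ^ 2 * x.b + 3 * x.a ^ 2 * y.b + x.t * y.a ^ 3 -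
    y.t * x.a ^ 3 - 6 * x.a * x.b * y.a - 3 * x.a * x.t * y.a ^ 2 + 3 * x.a ^ 2 * x.t * y.a := by
  simp [cm]; ring
theorem cm_z : (cm x y).z = x.s * y.t - x.t * y.s + 3 * x.b * y.c - 3 * x.c * y.b + 3 * x.a * y.b ^ 2 +
    3 * x.b ^ 2 * y.a - 6 * x.b * y.a * y.b - 6 * x.a * x.b * y.a * y.t - 3 * x.a * x.t * y.a ^ 2 * y.t -
    3 * x.a * x.t ^ 2 * y.a ^ 2 - 3 * x.a * y.c * y.t + 6 * x.a ^ 2 * x.t * y.a * y.t + 3 * x.a ^ 2 * y.b * y.t -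
    2 * x.a ^ 3 * y.t ^ 2 + 3 * x.b * x.t * y.a ^ 2 + 3 * x.b * y.a ^ 2 * y.t - 3 * x.c * x.t * y.a +
    3 * x.c * y.a * y.t + 3 * x.t * y.a * y.c - 3 * x.t * y.a ^ 2 * y.b + x.t * y.a ^ 3 * y.t + x.t ^ 2 * y.a ^ 3 := by
  simp [cm]; ring

end Gu

open Gu

variable {K : Type*} [Field K] {x y z r u : Gu K}

/-- the subgroup on which `a` vanishes -/
def Q1 (K : Type*) [Field K] : Subgroup (Gu K) where
  carrier := {x | x.a = 0}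
  one_mem' := rfl
  mul_mem' := fun {x y} h k => by simp_all
  inv_mem' := fun {x} h => by simp_all

/-- the subgroup on which `t` vanishes -/
def Q2 (K : Type*) [Field K] : Subgroup (Gu K) where
  carrier := {x | x.t = 0}
  one_mem' := rfl
  mul_mem' := fun {x y} h k => by simp_all
  inv_mem' := fun {x} h => by simp_all

/-- roots `b c s z` -/
def Z4 (K : Type*) [Field K] : Subgroup (Gu K) where
  carrier := {x | x.a = 0 ∧ x.t = 0}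
  one_mem' := ⟨rfl, rfl⟩
  mul_mem' := fun {x y} h k => by simp_all
  inv_mem' := fun {x} h => by simp_all

/-- roots `c s z` -/
def Z3 (K : Type*) [Field K] : Subgroup (Gu K) where
  carrier := {x | x.a = 0 ∧ x.t = 0 ∧ x.b = 0}
  one_mem' := ⟨rfl, rfl, rfl⟩
  mul_mem' := fun {x y} h k => by simp_all
  inv_mem' := fun {x} h => by simp_all

/-- roots `s z` -/
def Z2 (K : Type*) [Field K] : Subgroup (Gu K) where
  carrier := {x | x.a = 0 ∧ x.t = 0 ∧ x.b = 0 ∧ x.c = 0}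
  one_mem' := ⟨rfl, rfl, rfl, rfl⟩
  mul_mem' := fun {x y} h k => by simp_all
  inv_mem' := fun {x} h => by simp_all

/-- root `z` -/
def Z1 (K : Type*) [Field K] : Subgroup (Gu K) where
  carrier := {x | x.a = 0 ∧ x.t = 0 ∧ x.b = 0 ∧ x.c = 0 ∧ x.s = 0}
  one_mem' := ⟨rfl, rfl, rfl, rfl, rfl⟩
  mul_mem' := fun {x y} h k => by simp_all
  inv_mem' := fun {x} h => by simp_all

/-- roots `b s z` -/
def B3 (K : Type*) [Field K] : Subgroup (Gu K) where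
  carrier := {x | x.a = 0 ∧ x.t = 0 ∧ x.c = 0}
  one_mem' := ⟨rfl, rfl, rfl⟩
  mul_mem' := fun {x y} h k => by simp_all
  inv_mem' := fun {x} h => by simp_all

/-- roots `b c z` -/
def A1 (K : Type*) [Field K] : Subgroup (Gu K) where
  carrier := {x | x.a = 0 ∧ x.t = 0 ∧ x.s = 0}
  one_mem' := ⟨rfl, rfl, rfl⟩
  mul_mem' := fun {x y} h k => by simp_all
  inv_mem' := fun {x} h => by simp_all

/-- roots `c z` -/
def ZS (K : Type*) [Field K] : Subgroup (Gu K) where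
  carrier := {x | x.a = 0 ∧ x.t = 0 ∧ x.b = 0 ∧ x.s = 0}
  one_mem' := ⟨rfl, rfl, rfl, rfl⟩
  mul_mem' := fun {x y} h k => by simp_all
  inv_mem' := fun {x} h => by simp_all

theorem mem_Q1 : x ∈ Q1 K ↔ x.a = 0 := Iff.rfl
theorem mem_Q2 : x ∈ Q2 K ↔ x.t = 0 := Iff.rfl
theorem mem_Z4 : x ∈ Z4 K ↔ x.a = 0 ∧ x.t = 0 := Iff.rfl
theorem mem_Z3 : x ∈ Z3 K ↔ x.a = 0 ∧ x.t = 0 ∧ x.b = 0 := Iff.rfl
theorem mem_Z2 : x ∈ Z2 K ↔ x.a = 0 ∧ x.t = 0 ∧ x.b = 0 ∧ x.c = 0 := Iff.rfl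
theorem mem_Z1 : x ∈ Z1 K ↔ x.a = 0 ∧ x.t = 0 ∧ x.b = 0 ∧ x.c = 0 ∧ x.s = 0 := Iff.rfl
theorem mem_B3 : x ∈ B3 K ↔ x.a = 0 ∧ x.t = 0 ∧ x.c = 0 := Iff.rfl
theorem mem_A1 : x ∈ A1 K ↔ x.a = 0 ∧ x.t = 0 ∧ x.s = 0 := Iff.rfl
theorem mem_ZS : x ∈ ZS K ↔ x.a = 0 ∧ x.t = 0 ∧ x.b = 0 ∧ x.s = 0 := Iff.rfl

theorem l12 : Z1 K ≤ Z2 K := fun _ h => ⟨h.1, h.2.1, h.2.2.1, h.2.2.2.1⟩
theorem l23 : Z2 K ≤ Z3 K := fun _ h => ⟨h.1, h.2.1, h.2.2.1⟩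
theorem l34 : Z3 K ≤ Z4 K := fun _ h => ⟨h.1, h.2.1⟩
theorem l13 : Z1 K ≤ Z3 K := l12.trans l23
theorem l24 : Z2 K ≤ Z4 K := l23.trans l34
theorem l41 : Z4 K ≤ Q1 K := fun _ h => h.1
theorem l42 : Z4 K ≤ Q2 K := fun _ h => h.2
theorem of4 (h : x ∈ Z4 K) (e : x.b = 0) : x ∈ Z3 K := ⟨h.1, h.2, e⟩
theorem of3 (h : x ∈ Z3 K) (e : x.c = 0) : x ∈ Z2 K := ⟨h.1, h.2.1, h.2.2, e⟩
theorem of2 (h : x ∈ Z2 K) (e : x.s = 0) : x ∈ Z1 K := ⟨h.1, h.2.1, h.2.2.1, h.2.2.2, e⟩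

theorem Z1_ext (h : x ∈ Z1 K) (k : y ∈ Z1 K) (e : x.z = y.z) : x = y :=
  Gu.ext (h.1.trans k.1.symm) (h.2.1.trans k.2.1.symm) (h.2.2.1.trans k.2.2.1.symm) (h.2.2.2.1.trans k.2.2.2.1.symm)
    (h.2.2.2.2.trans k.2.2.2.2.symm) e

theorem of1 (h : x ∈ Z1 K) (e : x.z = 0) : x = 1 := Z1_ext h (one_mem _) e

theorem Z2_ext (h : x ∈ Z2 K) (k : y ∈ Z2 K) (e : x.s = y.s) (e' : x.z = y.z) : x = y :=
  Gu.ext (h.1.trans k.1.symm) (h.2.1.trans k.2.1.symm) (h.2.2.1.trans k.2.2.1.symm) (h.2.2.2.trans k.2.2.2.symm) e e'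

theorem cm4 (x y : Gu K) : cm x y ∈ Z4 K := ⟨cm_a x y, cm_t x y⟩
theorem cm3 (h : x ∈ Z4 K) (y : Gu K) : cm x y ∈ Z3 K := of4 (cm4 x y) (by simp [cm_b, h.1, h.2])
theorem cm3' (x : Gu K) (h : y ∈ Z4 K) : cm x y ∈ Z3 K := of4 (cm4 x y) (by simp [cm_b, h.1, h.2])
theorem cm_c4 (h : x ∈ Z4 K) (y : Gu K) : (cm x y).c = 2 * y.a * x.b := by simp [cm_c, h.1, h.2]
theorem cm_c4' (x : Gu K) (h : y ∈ Z4 K) : (cm x y).c = -(2 * x.a * y.b) := by simp [cm_c, h.1, h.2]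
theorem cm_s1 (h : x ∈ Q1 K) (y : Gu K) : (cm x y).s = 3 * y.a * x.c + 3 * y.a ^ 2 * x.b + x.t * y.a ^ 3 := by
  simp [cm_s, mem_Q1.1 h]
theorem cm_s4' (x : Gu K) (h : y ∈ Z4 K) : (cm x y).s = 3 * x.a ^ 2 * y.b - 3 * x.a * y.c := by
  simp [cm_s, h.1, h.2]; ring
theorem cm2 (h : x ∈ Z3 K) (y : Gu K) : cm x y ∈ Z2 K := of3 (cm3 (l34 h) y) (by simp [cm_c4 (l34 h), h.2.2])
theorem cm2' (x : Gu K) (h : y ∈ Z3 K) : cm x y ∈ Z2 K := of3 (cm3' x (l34 h)) (by simp [cm_c4' x (l34 h), h.2.2])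
theorem cm_s3 (h : x ∈ Z3 K) (y : Gu K) : (cm x y).s = 3 * y.a * x.c := by simp [cm_s1 h.1, h.2.1, h.2.2]
theorem cm_s3' (x : Gu K) (h : y ∈ Z3 K) : (cm x y).s = -(3 * x.a * y.c) := by simp [cm_s4' x (l34 h), h.2.2]
theorem cm_z3 (h : x ∈ Z3 K) (y : Gu K) : (cm x y).z = y.t * x.s + 3 * y.t * y.a * x.c - 3 * y.b * x.c := by
  simp [cm_z, h.1, h.2.1, h.2.2]; ring
theorem cm_z3' (x : Gu K) (h : y ∈ Z3 K) : (cm x y).z = 3 * x.b * y.c - x.t * y.s := by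
  simp [cm_z, h.1, h.2.1, h.2.2]; ring
theorem cm1 (h : x ∈ Z2 K) (y : Gu K) : cm x y ∈ Z1 K := of2 (cm2 (l23 h) y) (by simp [cm_s3 (l23 h), h.2.2.2])
theorem cm1' (x : Gu K) (h : y ∈ Z2 K) : cm x y ∈ Z1 K := of2 (cm2' x (l23 h)) (by simp [cm_s3' x (l23 h), h.2.2.2])
theorem cm_z2 (h : x ∈ Z2 K) (y : Gu K) : (cm x y).z = y.t * x.s := by simp [cm_z3 (l23 h), h.2.2.2]
theorem cm_z2' (x : Gu K) (h : y ∈ Z2 K) : (cm x y).z = -(x.t * y.s) := by simp [cm_z3' x (l23 h), h.2.2.2]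

theorem Z1_comm (h : z ∈ Z1 K) (x : Gu K) : x * z = z * x := by
  ext <;> simp [h.1, h.2.1, h.2.2.1, h.2.2.2.1, h.2.2.2.2, add_comm]

theorem cm0 (h : z ∈ Z1 K) (x : Gu K) : cm z x = 1 := cm_eq_one.2 (Z1_comm h x).symm

theorem Z3_comm (h : y ∈ Z3 K) : x * y = y * x ↔ 3 * x.a * y.c = 0 ∧ 3 * x.b * y.c = x.t * y.s := by
  rw [← cm_eq_one, ← sub_eq_zero (a := 3 * x.b * _), ← cm_z3' x h, ← neg_eq_zero (a := 3 * x.a * _), ← cm_s3' x h]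
  exact ⟨fun e => by rw [e]; exact ⟨rfl, rfl⟩, fun e => of1 (of2 (cm2' x h) e.1) e.2⟩

theorem Z2_comm (h : y ∈ Z2 K) : x * y = y * x ↔ x.t * y.s = 0 := by simp [Z3_comm (l23 h), h.2.2.2, eq_comm]

theorem Z33 (h : x ∈ Z3 K) (k : y ∈ Z3 K) : x * y = y * x := by simp [Z3_comm k, h.1, h.2.1, h.2.2]

theorem Q22 (h : x ∈ Q2 K) (k : y ∈ Z2 K) : x * y = y * x := by simp [Z2_comm k, mem_Q2.1 h]

theorem cmQ1 (h : x ∈ Q1 K) (k : y ∈ Q1 K) : cm x y ∈ Z1 K :=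
  ⟨cm_a x y, cm_t x y, by simp [cm_b, mem_Q1.1 h, mem_Q1.1 k], by simp [cm_c, mem_Q1.1 h, mem_Q1.1 k],
    by simp [cm_s1 h, mem_Q1.1 k]⟩

theorem cm_z1 (h : x ∈ Q1 K) (k : y ∈ Q1 K) :
    (cm x y).z = x.s * y.t - x.t * y.s + 3 * x.b * y.c - 3 * x.c * y.b := by
  simp [cm_z, mem_Q1.1 h, mem_Q1.1 k]

theorem cmQ2 (h : x ∈ Q2 K) (k : y ∈ Q2 K) : cm x y ∈ Z3 K := of4 (cm4 x y) (by simp [cm_b, mem_Q2.1 h, mem_Q2.1 k])

theorem cm_c2 (h : x ∈ Q2 K) (k : y ∈ Q2 K) : (cm x y).c = 2 * y.a * x.b - 2 * x.a * y.b := by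
  simp [cm_c, mem_Q2.1 h, mem_Q2.1 k]

theorem nrm [Finite K] {P : Subgroup (Gu K)} (h : ∀ x ∈ P, ∀ y, cm x y ∈ P) (t : Gu K) :
    t ∈ normalizer (P : Set (Gu K)) := norm_of_cm (S := ⊤) le_top fun x hx => h x hx t

theorem nQ1 [Finite K] (t : Gu K) : t ∈ normalizer (Q1 K : Set (Gu K)) := nrm (fun x _ y => cm_a x y) t
theorem nQ2 [Finite K] (t : Gu K) : t ∈ normalizer (Q2 K : Set (Gu K)) := nrm (fun x _ y => cm_t x y) t
theorem nZ1 [Finite K] (t : Gu K) : t ∈ normalizer (Z1 K : Set (Gu K)) := nrm (fun _ h y => cm1 (l12 h) y) t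
theorem nZ2 [Finite K] (t : Gu K) : t ∈ normalizer (Z2 K : Set (Gu K)) := nrm (fun _ h y => l12 (cm1 h y)) t
theorem nZ3 [Finite K] (t : Gu K) : t ∈ normalizer (Z3 K : Set (Gu K)) := nrm (fun _ h y => l23 (cm2 h y)) t
theorem nZ4 [Finite K] (t : Gu K) : t ∈ normalizer (Z4 K : Set (Gu K)) := nrm (fun x _ y => cm4 x y) t

theorem comm_b (h : x * y = y * x) : y.t * x.a = x.t * y.a := by
  have := congrArg Gu.b h
  simp only [mul_b] at this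
  linear_combination this

/-- root elements -/
@[simps] def xa (a : K) : Gu K := ⟨a, 0, 0, 0, 0, 0⟩
/-- root elements -/
@[simps] def xt (t : K) : Gu K := ⟨0, t, 0, 0, 0, 0⟩
/-- root elements -/
@[simps] def xb (b : K) : Gu K := ⟨0, 0, b, 0, 0, 0⟩
/-- root elements -/
@[simps] def xc (c : K) : Gu K := ⟨0, 0, 0, c, 0, 0⟩
/-- root elements -/
@[simps] def xs (s : K) : Gu K := ⟨0, 0, 0, 0, s, 0⟩
/-- root elements -/
@[simps] def xz (z : K) : Gu K := ⟨0, 0, 0, 0, 0, z⟩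

theorem xb_mem (b : K) : xb b ∈ Z4 K := ⟨rfl, rfl⟩
theorem xc_mem (c : K) : xc c ∈ Z3 K := ⟨rfl, rfl, rfl⟩
theorem xs_mem (s : K) : xs s ∈ Z2 K := ⟨rfl, rfl, rfl, rfl⟩
theorem xz_mem (s : K) : xz s ∈ Z1 K := ⟨rfl, rfl, rfl, rfl, rfl⟩

theorem prod_x (x : Gu K) : x = xt x.t * xb x.b * xc x.c * xs x.s * xz x.z * xa x.a := by ext <;> simp

theorem exists_cm2 (hx : x.t ≠ 0) (hz : z ∈ Z1 K) : ∃ a ∈ Z2 K, cm x a = z :=
  ⟨_, xs_mem (-z.z / x.t), Z1_ext (cm1' x (xs_mem _)) hz (by rw [cm_z2' x (xs_mem _), xs_s]; field_simp)⟩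

theorem t_zero (h : x * xs 1 = xs 1 * x) : x.t = 0 := by simpa using (Z2_comm (xs_mem 1)).1 h

theorem CS_Q2 : CS ⊤ (Q2 K) ≤ Q2 K := fun _ h => t_zero (h.2 _ (xs_mem 1).2.1).symm

theorem CS_Q1 : CS ⊤ (Q1 K) ≤ Q1 K := fun _ h => by simpa [mem_Q1] using (comm_b (h.2 (xt 1) rfl)).symm

theorem pg [Finite K] {p : ℕ} [Fact p.Prime] [CharP K p] : IsPGroup p (⊤ : Subgroup (Gu K)) := by
  haveI := Fintype.ofFinite K
  obtain ⟨n, -, e⟩ := FiniteField.card K p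
  exact .of_card (n := n * 6) (by rw [card_top, card, Nat.card_eq_fintype_card, e, pow_mul])

variable {α β γ δ : K} {υ τ : K ≃+* K}

/-- diagonal and field automorphisms -/
def dg (α β : K) (τ : K ≃+* K) : Gu K →* Gu K := MonoidHom.mk' (fun x =>
  ⟨α * τ x.a, β * τ x.t, α * β * τ x.b, α ^ 2 * β * τ x.c, α ^ 3 * β * τ x.s, α ^ 3 * β ^ 2 * τ x.z⟩)
  fun x y => by ext <;> simp [map_ofNat] <;> ring

@[simp] theorem dg_a : (dg α β τ x).a = α * τ x.a := rfl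
@[simp] theorem dg_t : (dg α β τ x).t = β * τ x.t := rfl
@[simp] theorem dg_b : (dg α β τ x).b = α * β * τ x.b := rfl
@[simp] theorem dg_c : (dg α β τ x).c = α ^ 2 * β * τ x.c := rfl
@[simp] theorem dg_s : (dg α β τ x).s = α ^ 3 * β * τ x.s := rfl
@[simp] theorem dg_z : (dg α β τ x).z = α ^ 3 * β ^ 2 * τ x.z := rfl

theorem dg_dg (x : Gu K) : dg α β υ (dg γ δ τ x) = dg (α * υ γ) (β * υ δ) (υ * τ) x := by
  ext <;> simp [RingAut.mul_apply] <;> ring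

theorem dg_one (x : Gu K) : dg 1 1 1 x = x := by ext <;> simp

theorem dg_inv (hα : α ≠ 0) (hβ : β ≠ 0) (x : Gu K) : dg (τ⁻¹ α⁻¹) (τ⁻¹ β⁻¹) τ⁻¹ (dg α β τ x) = x := by
  rw [dg_dg, ← map_mul, ← map_mul, inv_mul_cancel₀ hα, inv_mul_cancel₀ hβ, map_one, inv_mul_cancel, dg_one]

theorem piso_dg [Finite K] (hα : α ≠ 0) (hβ : β ≠ 0) : PIso (dg α β τ) ⊤ ⊤ :=
  piso_self_of_maps (mulOn_hom _ ⊤) (fun _ _ _ _ e => LeftInverse.injective (dg_inv hα hβ) e) fun _ _ => trivial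

/-- the reflection on `Q1` -/
@[simps] def W1 (x : Gu K) : Gu K := ⟨0, x.s, -x.c, x.b, -x.t, x.z + x.t * x.s - 3 * x.b * x.c⟩
/-- the reflection on `Q2` -/
@[simps] def W2 (x : Gu K) : Gu K := ⟨x.b, 0, -x.a, x.c - 2 * x.a * x.b, -x.z + 3 * x.b * x.c - 3 * x.a * x.b ^ 2,
  x.s - 3 * x.a * x.c + 3 * x.a ^ 2 * x.b⟩

theorem W1_W1 (h : x ∈ Q1 K) : W1 (W1 x) = dg 1 (-1) 1 x := by ext <;> simp [mem_Q1.1 h]; ring
theorem W2_W2 (h : x ∈ Q2 K) : W2 (W2 x) = dg (-1) 1 1 x := by ext <;> simp [mem_Q2.1 h] <;> ring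
theorem mulOn_W1 : MulOn W1 (Q1 K) := fun x h y k => by ext <;> simp [mem_Q1.1 h, mem_Q1.1 k] <;> ring
theorem mulOn_W2 : MulOn W2 (Q2 K) := fun x h y k => by ext <;> simp [mem_Q2.1 h, mem_Q2.1 k] <;> ring
theorem W1_dg (hα : α ≠ 0) (x : Gu K) : W1 (dg α β τ x) = dg α⁻¹ (α ^ 3 * β) τ (W1 x) := by
  ext <;> simp [map_ofNat] <;> field_simp <;> simp
theorem W2_dg (hβ : β ≠ 0) (x : Gu K) : W2 (dg α β τ x) = dg (α * β) β⁻¹ τ (W2 x) := by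
  ext <;> simp [map_ofNat] <;> field_simp <;> simp

theorem piso_W1 [Finite K] : PIso W1 (Q1 K) (Q1 K) := piso_self_of_maps mulOn_W1 (fun x h y k e =>
  (piso_dg (τ := 1) one_ne_zero (neg_ne_zero.2 one_ne_zero)).inj trivial trivial
    ((W1_W1 h).symm.trans ((congrArg W1 e).trans (W1_W1 k)))) fun _ _ => rfl
theorem piso_W2 [Finite K] : PIso W2 (Q2 K) (Q2 K) := piso_self_of_maps mulOn_W2 (fun x h y k e =>
  (piso_dg (τ := 1) (neg_ne_zero.2 one_ne_zero) one_ne_zero).inj trivial trivial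
    ((W2_W2 h).symm.trans ((congrArg W2 e).trans (W2_W2 k)))) fun _ _ => rfl

/-- the reflection on `Q1` -/
noncomputable def w1 (K : Type*) [Field K] [Finite K] : MulAut (Q1 K) := piso_W1.exists_aut.choose
/-- the reflection on `Q2` -/
noncomputable def w2 (K : Type*) [Field K] [Finite K] : MulAut (Q2 K) := piso_W2.exists_aut.choose
theorem fn_w1 [Finite K] (h : x ∈ Q1 K) : fn (w1 K) x = W1 x := piso_W1.exists_aut.choose_spec x h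
theorem fn_w2 [Finite K] (h : x ∈ Q2 K) : fn (w2 K) x = W2 x := piso_W2.exists_aut.choose_spec x h

/-- the graph automorphism in characteristic three -/
@[simps] def gr (x : Gu K) : Gu K := ⟨x.t, x.a ^ 3, x.a ^ 3 * x.t - x.s, x.a ^ 3 * x.t ^ 2 + x.s * x.t + x.z,
  x.a ^ 3 * x.t ^ 3 - x.b ^ 3, x.a ^ 3 * x.b ^ 3 + x.a ^ 6 * x.t ^ 3 + x.c ^ 3⟩

theorem gr_mul (h : (3 : K) = 0) (x y : Gu K) : gr (x * y) = gr x * gr y := by
  ext <;> simp <;> grind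

theorem gr_gr (h : (3 : K) = 0) (x : Gu K) : gr (gr x) = ⟨x.a ^ 3, x.t ^ 3, x.b ^ 3, x.c ^ 3, x.s ^ 3, x.z ^ 3⟩ := by
  ext <;> simp <;> grind

theorem cube_inj (h : (3 : K) = 0) (e : α ^ 3 = β ^ 3) : α = β :=
  sub_eq_zero.1 (pow_eq_zero_iff three_ne_zero |>.1 (by linear_combination e + (α * β ^ 2 - α ^ 2 * β) * h))

theorem piso_gr [Finite K] (h : (3 : K) = 0) : PIso (gr (K := K)) ⊤ ⊤ :=
  piso_self_of_maps (fun x _ y _ => gr_mul h x y) (fun x _ y _ e => by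
    have := (gr_gr h x).symm.trans ((congrArg gr e).trans (gr_gr h y))
    simp only [Gu.mk.injEq] at this
    exact Gu.ext (cube_inj h this.1) (cube_inj h this.2.1) (cube_inj h this.2.2.1) (cube_inj h this.2.2.2.1)
      (cube_inj h this.2.2.2.2.1) (cube_inj h this.2.2.2.2.2)) fun _ _ => trivial

theorem gr_dg (x : Gu K) : gr (dg α β τ x) = dg β (α ^ 3) τ (gr x) := by ext <;> simp <;> ring

theorem gr_W2 (h : (3 : K) = 0) (hx : x ∈ Q2 K) : gr (W2 x) = dg 1 (-1) 1 (W1 (gr x)) := by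
  ext <;> simp [mem_Q2.1 hx] <;> grind

end CF.FusG
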