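import Cfsg.Agent.FusG.A

/-! Fusion systems on a Sylow `p`-subgroup of `G₂(q)`: definitions. -/

set_option autoImplicit false
set_option linter.style.haveILetI false
set_option linter.unusedSimpArgs false

namespace CF.FusG

open Cfsg Cfsg.FusionSystem Subgroup CF.Fus CF.FusD CF.FusU Function Gu Matrix

variable {K : Type*} [Field K] {x y : Gu K} {α β : K} {τ : K ≃+* K}

/-- coordinates on `Q1 / Z1` -/
def p1 (x : Gu K) : Fin 4 → K := ![x.t, x.b, x.c, x.s]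
/-- the action of `xa a` -/
def uM (a : K) : Matrix (Fin 4) (Fin 4) K := !![1, 0, 0, 0; a, 1, 0, 0; a ^ 2, 2 * a, 1, 0; a ^ 3, 3 * a ^ 2, 3 * a, 1]
/-- the action of `dg α β 1` -/
def dM (α β : K) : Matrix (Fin 4) (Fin 4) K := !![β, 0, 0, 0; 0, α * β, 0, 0; 0, 0, α ^ 2 * β, 0; 0, 0, 0, α ^ 3 * β]
/-- the action of `W1` -/
def wM (K : Type*) [Field K] : Matrix (Fin 4) (Fin 4) K := !![0, 0, 0, 1; 0, 0, -1, 0; 0, 1, 0, 0; -1, 0, 0, 0]
/-- the commutator form -/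
def om (v w : Fin 4 → K) : K := v 3 * w 0 - v 0 * w 3 + 3 * v 1 * w 2 - 3 * v 2 * w 1
/-- the squaring form in characteristic two -/
def qf (v : Fin 4 → K) : K := 3 * v 1 * v 2 - v 0 * v 3

theorem uM_mul (a b : K) : uM a * uM b = uM (a + b) := by
  ext i j; fin_cases i <;> fin_cases j <;> simp [uM, Matrix.mul_apply, Fin.sum_univ_four] <;> ring
theorem uM_zero : uM (0 : K) = 1 := by ext i j; fin_cases i <;> fin_cases j <;> simp [uM]
theorem dM_mul (α β γ δ : K) : dM α β * dM γ δ = dM (α * γ) (β * δ) := by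
  ext i j; fin_cases i <;> fin_cases j <;> simp [dM, Matrix.mul_apply, Fin.sum_univ_four] <;> ring
theorem dM_one : dM (1 : K) 1 = 1 := by ext i j; fin_cases i <;> fin_cases j <;> simp [dM]
theorem wM_wM : wM K * wM K = -1 := by
  ext i j; fin_cases i <;> fin_cases j <;> simp [wM, Matrix.mul_apply, Fin.sum_univ_four]
theorem uM_mulVec (a : K) (v : Fin 4 → K) : uM a *ᵥ v =
    ![v 0, v 1 + a * v 0, v 2 + 2 * a * v 1 + a ^ 2 * v 0, v 3 + 3 * a * v 2 + 3 * a ^ 2 * v 1 + a ^ 3 * v 0] := by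
  ext i; fin_cases i <;> simp [uM, mulVec, dotProduct, Fin.sum_univ_four] <;> ring
theorem dM_mulVec (α β : K) (v : Fin 4 → K) :
    dM α β *ᵥ v = ![β * v 0, α * β * v 1, α ^ 2 * β * v 2, α ^ 3 * β * v 3] := by
  ext i; fin_cases i <;> simp [dM, mulVec, dotProduct, Fin.sum_univ_four]
theorem wM_mulVec (v : Fin 4 → K) : wM K *ᵥ v = ![v 3, -v 2, v 1, -v 0] := by
  ext i; fin_cases i <;> simp [wM, mulVec, dotProduct, Fin.sum_univ_four]

/-- `uM` as an invertible matrix -/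
@[simps] def uG (a : K) : GL (Fin 4) K :=
  ⟨uM a, uM (-a), by rw [uM_mul, add_neg_cancel, uM_zero], by rw [uM_mul, neg_add_cancel, uM_zero]⟩
/-- `dM` as an invertible matrix -/
@[simps] def dG (α β : Kˣ) : GL (Fin 4) K :=
  ⟨dM α β, dM (α⁻¹ : Kˣ) (β⁻¹ : Kˣ), by rw [dM_mul, α.mul_inv, β.mul_inv, dM_one], by
    rw [dM_mul, α.inv_mul, β.inv_mul, dM_one]⟩
/-- `wM` as an invertible matrix -/
@[simps] def wG (K : Type*) [Field K] : GL (Fin 4) K :=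
  ⟨wM K, -wM K, by rw [Matrix.mul_neg, wM_wM, neg_neg], by rw [Matrix.neg_mul, wM_wM, neg_neg]⟩

/-- the group of the `uM a` -/
def PU (K : Type*) [Field K] : Subgroup (GL (Fin 4) K) where
  carrier := {g | ∃ a, g = uG a}
  one_mem' := ⟨0, Units.ext uM_zero.symm⟩
  mul_mem' := by rintro _ _ ⟨a, rfl⟩ ⟨b, rfl⟩; exact ⟨a + b, Units.ext (uM_mul a b)⟩
  inv_mem' := by rintro _ ⟨a, rfl⟩; exact ⟨-a, Units.ext rfl⟩

/-- the group of the `dM α β` -/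
def DT (K : Type*) [Field K] : Subgroup (GL (Fin 4) K) where
  carrier := {g | ∃ α β, g = dG α β}
  one_mem' := ⟨1, 1, Units.ext dM_one.symm⟩
  mul_mem' := by rintro _ _ ⟨a, b, rfl⟩ ⟨c, d, rfl⟩; exact ⟨a * c, b * d, Units.ext (dM_mul ..)⟩
  inv_mem' := by rintro _ ⟨a, b, rfl⟩; exact ⟨a⁻¹, b⁻¹, Units.ext rfl⟩

theorem p1_mul (hx : x ∈ Q1 K) (y : Gu K) : p1 (x * y) = p1 x + p1 y := by
  ext i; fin_cases i <;> simp [p1, mem_Q1.1 hx]
theorem p1_cj (hx : x ∈ Q1 K) (t : Gu K) : p1 (t * x * t⁻¹) = uM t.a *ᵥ p1 x := by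
  rw [uM_mulVec]; ext i; fin_cases i <;> simp [p1, mem_Q1.1 hx] <;> ring
theorem p1_dg (x : Gu K) : p1 (dg α β 1 x) = dM α β *ᵥ p1 x := by
  rw [dM_mulVec]; ext i; fin_cases i <;> simp [p1]
theorem p1_W1 (x : Gu K) : p1 (W1 x) = wM K *ᵥ p1 x := by rw [wM_mulVec]; ext i; fin_cases i <;> simp [p1]
theorem p1_sur (v : Fin 4 → K) : ∃ x ∈ Q1 K, p1 x = v :=
  ⟨⟨0, v 0, v 1, v 2, v 3, 0⟩, rfl, by ext i; fin_cases i <;> rfl⟩
theorem p1_ext_iff : p1 x = p1 y ↔ x.t = y.t ∧ x.b = y.b ∧ x.c = y.c ∧ x.s = y.s := by simp [p1]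
theorem Z1_of_p1 (hx : x ∈ Q1 K) (e : p1 x = 0) : x ∈ Z1 K :=
  ⟨hx, congrFun e 0, congrFun e 1, congrFun e 2, congrFun e 3⟩
theorem p1_Z1 (h : x ∈ Z1 K) : p1 x = 0 := by
  ext i; fin_cases i; exacts [h.2.1, h.2.2.1, h.2.2.2.1, h.2.2.2.2]
theorem cm_om (hx : x ∈ Q1 K) (hy : y ∈ Q1 K) : (cm x y).z = om (p1 x) (p1 y) := by simp [cm_z1 hx hy, om, p1]

/-- linear groups with `PU` as a Sylow subgroup -/
structure Lg (p : ℕ) (Γ : Subgroup (GL (Fin 4) K)) : Prop where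
  syl : SylIn p (PU K) Γ
  tor : DT K ≤ Γ
  sim : ∀ g ∈ Γ, ∃ μ : K, (∀ v w, om (g.1 *ᵥ v) (g.1 *ᵥ w) = μ * om v w) ∧
    ((2 : K) = 0 → ∀ v, qf (g.1 *ᵥ v) = μ * qf v)
  nrm : ∀ g ∈ Γ, g ∈ normalizer (PU K : Set (GL (Fin 4) K)) → ∃ a α β, g = uG a * dG α β
  nn : ¬ Γ ≤ normalizer (PU K : Set (GL (Fin 4) K))

/-- the Bruhat decomposition -/
def Br (Γ : Subgroup (GL (Fin 4) K)) : Prop := wG K ∈ Γ ∧ ∀ g ∈ Γ, g ∈ normalizer (PU K : Set (GL (Fin 4) K)) ∨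
  ∃ t ∈ PU K, (wG K)⁻¹ * t * g ∈ normalizer (PU K : Set (GL (Fin 4) K))

/-- the orbit of the highest weight vector -/
def Om (Γ : Subgroup (GL (Fin 4) K)) (v : Fin 4 → K) : Prop := ∃ g ∈ Γ, g.1 *ᵥ ![0, 0, 0, 1] = v

/-- the normal closure of `PU` -/
def Cl (Γ : Subgroup (GL (Fin 4) K)) : Subgroup (GL (Fin 4) K) := closure {m | ∃ g ∈ Γ, ∃ a, m = g * uG a * g⁻¹}

variable (F : FusionSystem (⊤ : Subgroup (Gu K)))

/-- the linear maps induced on `Q1 / Z1` -/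
def GF : Subgroup (GL (Fin 4) K) where
  carrier := {g | ∃ φ ∈ F.autGroup (Q1 K), ∀ x ∈ Q1 K, p1 (fn φ x) = g.1 *ᵥ p1 x}
  one_mem' := ⟨1, one_mem _, fun x _ => by simp [fn_one]⟩
  mul_mem' := by
    rintro g h ⟨φ, a, b⟩ ⟨ψ, c, d⟩
    exact ⟨_, mul_mem a c, fun x hx => by rw [fn_mul, b _ (fn_mem ψ hx), d x hx, mulVec_mulVec]; rfl⟩
  inv_mem' := by
    rintro g ⟨φ, a, b⟩
    refine ⟨_, inv_mem a, fun x hx => ?_⟩
    rw [← congrArg p1 (fn_fn_inv φ x), b _ (fn_mem _ hx), mulVec_mulVec, ← Units.val_mul, inv_mul_cancel]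
    simp

/-- diagonal, field and graph automorphisms -/
def Dh (d : Gu K → Gu K) : Prop := ∃ α β τ, α ≠ 0 ∧ β ≠ 0 ∧
  ((∀ x, d x = dg α β τ x) ∨ (3 : K) = 0 ∧ ∀ x, d x = dg α β τ (gr x))

/-- only `Q1` and `Q2` are essential -/
def Es (p : ℕ) : Prop := ∀ P, F.IsEssential p P → P = Q1 K ∨ P = Q2 K

/-- conjugacy of elements -/
def Cj (x y : Gu K) : Prop := ∃ f, Mor F (zpowers x) f ∧ f x = y

/-- no abelian normal subgroup contains the long root subgroup `Z1` -/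
def Na : Prop := ∀ N, F.IsNormal N → Z1 K ≤ N → ∃ x ∈ N, ∃ y ∈ N, x * y ≠ y * x

/-- the automizer of `P` is generated by `m` and the normalizer of the Sylow subgroup -/
def Gn (P : Subgroup (Gu K)) (m : MulAut P) : Prop := m ∈ F.autGroup P ∧ ∀ H : Subgroup (MulAut P), m ∈ H →
  F.autGroup P ⊓ normalizer (autInducedBy ⊤ P : Set (MulAut P)) ≤ H → F.autGroup P ≤ H

/-- the whole torus acts -/
def Tor : Prop := ∀ α β : K, α ≠ 0 → β ≠ 0 → Mor F ⊤ (dg α β 1)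

/-- the order of the automizer of `Q1` -/
noncomputable def nn : ℕ := Nat.card (F.autGroup (Q1 K))

/-- normalized systems -/
structure Nm (p : ℕ) : Prop where
  sat : Sat F p
  es : Es F p
  e1 : F.IsEssential p (Q1 K)
  e2 : F.IsEssential p (Q2 K)
  top : ∀ f, Mor F ⊤ f → ∃ t d, Dh d ∧ Mor F ⊤ d ∧ ∀ x, f x = t * d x * t⁻¹
  s3 : F.autGroup (Q2 K) ≤ stab (Q2 K) (Z3 K)

/-- standard systems -/
structure Sd [Finite K] (p : ℕ) : Prop extends Nm F p where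
  tor : Tor F
  g1 : Gn F (Q1 K) (w1 K)
  g2 : Gn F (Q2 K) (w2 K)

variable {G : Type*} [Group G]

/-- groups with the model as a Sylow subgroup in which two conjugates of elements of `Z1` do not commute -/
structure Gs (p : ℕ) (ι : Gu K →* G) : Prop where
  fin : Finite G
  inj : Injective ι
  syl : SylIn p ι.range ⊤
  nc : ∃ z ∈ Z1 K, ∃ z' ∈ Z1 K, ∃ (g g' : G) (x y : Gu K), g * ι z * g⁻¹ = ι x ∧ g' * ι z' * g'⁻¹ = ι y ∧ x * y ≠ y * x

/-- groups with the model as a Sylow subgroup and enough automorphisms -/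
structure Ge (p : ℕ) (ι : Gu K →* G) : Prop extends Gs p ι where
  nrm : ∀ (g : G) (f : Gu K → Gu K), (∀ x, g * ι x * g⁻¹ = ι (f x)) →
    ∃ t α β τ, α ≠ 0 ∧ β ≠ 0 ∧ ∀ x, f x = t * dg α β τ x * t⁻¹
  ab : ∀ g k : G, g ∈ normalizer (ι.range : Set G) → k ∈ normalizer (ι.range : Set G) → g * k * g⁻¹ * k⁻¹ ∈ ι.range
  aut : ∀ d, Dh d → ∃ θ : MulAut G, ∀ x, θ (ι x) = ι (d x)

/-- matrices over `ZMod p` whose power `n + 1` is the identity -/
def gl {p : ℕ} (n : ℕ) (m : Matrix (Fin 4) (Fin 4) (ZMod p)) (h : m ^ (n + 1) = 1) : GL (Fin 4) (ZMod p) :=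
  ⟨m, m ^ n, by rw [← pow_succ', h], by rw [← pow_succ, h]⟩

instance fact5 : Fact (Nat.Prime 5) := ⟨by norm_num⟩

/-- an involution which fixes the line through the third and the fourth base point -/
def j3 : GL (Fin 4) (ZMod 5) := gl 1 !![0, 3, 0, 0; 2, 0, 0, 0; 0, 0, 0, 1; 0, 0, 1, 0] (by decide)
/-- an involution in `2^4 : 20` -/
def jf : GL (Fin 4) (ZMod 5) := gl 1 !![0, 0, 2, 0; 0, 0, 0, 1; 3, 0, 0, 0; 0, 1, 0, 0] (by decide)
/-- overgroups of the Borel subgroup -/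
def G5 (s : Set (GL (Fin 4) (ZMod 5))) : Subgroup (GL (Fin 4) (ZMod 5)) := PU _ ⊔ DT _ ⊔ closure s

/-- an element of order three without fixed points: the type of `M₁₂` -/
def rM : GL (Fin 4) (ZMod 2) := gl 2 !![0, 0, 1, 0; 0, 0, 0, 1; 1, 0, 1, 0; 0, 1, 0, 1] (by decide)
/-- an element of order three without fixed points: the type of `2³·L₃(2)` -/
def rL : GL (Fin 4) (ZMod 2) := gl 2 !![0, 1, 0, 0; 1, 1, 0, 0; 0, 0, 0, 1; 0, 0, 1, 1] (by decide)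
/-- an involution: the second type of `G₂(2)` -/
def rW : GL (Fin 4) (ZMod 2) := gl 1 !![0, 1, 0, 1; 1, 0, 1, 0; 0, 0, 0, 1; 0, 0, 1, 0] (by decide)

end CF.FusG
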