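import Cfsg.Agent.FusG.CH
import Cfsg.Agent.Coprime.Glauberman

/-! Fusion systems on a Sylow `p`-subgroup of `G₂(q)`: generalities. -/

set_option autoImplicit false
set_option linter.style.haveILetI false
set_option linter.unusedSimpArgs false
set_option linter.unusedSectionVars false

namespace CF.FusG

open Cfsg Cfsg.FusionSystem Subgroup CF.Fus CF.FusD CF.FusU Function Gu Matrix

variable {K : Type} [Field K] [Finite K] {p : ℕ} [Fact p.Prime] [CharP K p]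
  {E F : FusionSystem (⊤ : Subgroup (Gu K))} {G : Type} [Group G] {ι : Gu K →* G} {f : Gu K → Gu K}
  {Γ : Subgroup (GL (Fin 4) K)} {P : Subgroup (Gu K)} {α β μ : K}

theorem ext_S {Ω : Type*} [Group Ω] {S P : Subgroup Ω} {F : FusionSystem S} {f : Ω → Ω} (hF : Sat F p)
    (I : Subgroup Ω → Prop) (mono : ∀ P Q, P ≤ Q → I P → I Q)
    (inv : ∀ α ∈ F.autGroup S, ∀ P ≤ S, I P → I (img (fn α) P)) (ne : ∀ P, F.IsEssential p P → ¬ I P) (hP : I P)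
    (hf : Mor F P f) : ∃ α ∈ F.autGroup S, ∀ x ∈ P, fn α x = f x := by
  refine hF.alperin (M := fun P f => I P → ∃ α ∈ F.autGroup S, ∀ x ∈ P, fn α x = f x) (fun _ m l e i => ?_)
    (fun m _ a b e i => ?_) (fun P h α hα i => ?_) P f hf hP
  · obtain ⟨α, hα, q⟩ := m (mono _ _ l i)
    exact ⟨α, hα, fun x hx => (q x (l hx)).trans (e x hx).symm⟩
  · obtain ⟨α, hα, q⟩ := a i
    obtain ⟨β, hβ, q'⟩ := b (mono _ _ (img_le_iff.2 fun x hx => q x hx ▸ e x hx) (inv α hα _ m.le i))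
    exact ⟨_, mul_mem hβ hα, fun x hx => by rw [fn_mul, q x hx, q' _ (e x hx)]; rfl⟩
  · rcases h with rfl | h
    · exact ⟨α, hα, fun _ _ => rfl⟩
    · exact (ne P h i).elim

theorem exists_mn2 {Ω : Type*} [Group Ω] {S P : Subgroup Ω} {F : FusionSystem S} (hF : Sat F p)
    (hE : F.IsEssential p P) : ∃ Y M, Mn p S P Y M ∧ SylIn p (autInducedBy S P) Y ∧ Y ≤ F.autGroup P := by
  haveI := hF.fin
  have l := (hF.ess_lt hE).le
  haveI := fin_of_le l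
  obtain ⟨h1, h2⟩ := hF.ess_Gam hE
  have sy := hF.ess_syl hE
  have m := le_Gam sy.le h1
  obtain ⟨Y, ⟨y1, y2, y3⟩, y4⟩ := WellFounded.has_min (wellFounded_lt (α := Subgroup (MulAut P)))
    {Y | autInducedBy S P ≤ Y ∧ Y ≤ F.autGroup P ∧ ¬ Y ≤ Gam (F.autGroup P) (autInducedBy S P) (Inn P)}
    ⟨_, sy.le, le_rfl, fun e => h2 (le_antisymm Gam_le e)⟩
  have k : ∀ g ∈ Y, ∀ t ∈ NS S P, t ∉ P → g * cA P t * g⁻¹ ∈ autInducedBy S P →
      g ∈ Gam (F.autGroup P) (autInducedBy S P) (Inn P) := fun g hg t ht tn e =>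
    mem_Gam_of_elt sy (Inn_norm _) h1.le (cA_mem_autInducedBy ht.1)
      (mt (mem_of_cA_mem_Inn l (hF.ess_centric hE) ht) tn) (y2 hg) e
  refine ⟨Y, _, ⟨l, hF.fin, hF.pg, hF.ess_centric hE, (SetLike.lt_iff_le_and_exists.1 (hF.ess_NS hE)).2,
    SetLike.not_le_iff_exists.1 y3, y1, m, fun g hg gn t ht tn H h3 h4 => by_contra fun c => ?_,
    fun s hs h3 => by_contra fun c => ?_⟩, sy.mono y1 y2, y2⟩
  · have a : H ⊓ Y ≤ Gam (F.autGroup P) (autInducedBy S P) (Inn P) := by_contra fun a =>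
      y4 _ ⟨le_inf h3 y1, inf_le_right.trans y2, a⟩ (inf_lt_right.2 c)
    have t0 := cA_mem_autInducedBy (P := P) ht.1
    obtain ⟨j, hj⟩ := isPGroup_iff_mem.1 sy.pg _ t0
    obtain ⟨b, b1, b2⟩ := (sy.mono m Gam_le).exists_conj_elt (a ⟨h4, mul_mem (mul_mem hg (y1 t0)) (Y.inv_mem hg)⟩)
      (k := j) (by rw [conj_pow, hj]; simp)
    have := mem_Gam_of_elt sy (Inn_norm _) h1.le t0 (mt (mem_of_cA_mem_Inn l (hF.ess_centric hE) ht) tn)
      (mul_mem (Gam_le b1) (y2 hg)) (by simpa [mul_assoc] using b2)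
    exact gn (by simpa using mul_mem (inv_mem b1) this)
  · exact y3 fun g hg => k g hg s hs c ((sy.mono y1 y2).OpIn_le (conj_mem_of_norm (le_norm_OpIn hg) h3))

theorem aut_real (r : Real E p ι ⊤) {φ : MulAut P} :
    φ ∈ E.autGroup P ↔ ∃ g, ∀ x ∈ P, g * ι x * g⁻¹ = ι (fn φ x) :=
  ⟨fun h => let ⟨g, _, e⟩ := r.real (mor_fn le_top h); ⟨g, e⟩,
    fun ⟨g, e⟩ => (r.mor' le_top (mem_top g) (fun _ _ => trivial) e).aut_mem⟩

theorem cj_real (r : Real E p ι ⊤) {x y : Gu K} : Cj E x y ↔ ∃ g, g * ι x * g⁻¹ = ι y := by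
  refine ⟨fun ⟨f, m, e⟩ => let ⟨g, _, q⟩ := r.real m; ⟨g, e ▸ q x (mem_zpowers x)⟩, fun ⟨g, q⟩ => ?_⟩
  obtain ⟨f, f1, f2⟩ := r.mor (P := zpowers x) le_top (mem_top g) (by
    rintro _ ⟨k, rfl⟩
    rw [map_zpow, ← conj_zpow, q, ← map_zpow]
    exact mem_img_of_mem trivial)
  exact ⟨f, f1, r.inj' trivial trivial ((f2 x (mem_zpowers x)).symm.trans q)⟩

theorem Gs.real (h : Gs p ι) : ∃ E : FusionSystem (⊤ : Subgroup (Gu K)), Real E p ι ⊤ ∧ Na E := by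
  haveI := h.fin
  have i : PIso ι ⊤ ι.range := ι.range_eq_map ▸ piso_hom ι h.inj ⊤
  obtain ⟨E, e⟩ := exists_fiso (FG ⊤ ι.range le_top) i.symm
  have r := (e.symm' fun x hx => i.apply_pinv hx).toReal (p := p) h.syl
  refine ⟨E, r, fun N n l => ?_⟩
  have k : ∀ x ∈ N, ∀ y g, g * ι x * g⁻¹ = ι y → y ∈ N := fun x hx y g q => by
    obtain ⟨f, f1, rfl⟩ := (cj_real r).2 ⟨g, q⟩
    exact sc_maps (sc_of_normal n) f1 (mem_zpowers x) hx
  obtain ⟨z, hz, z', hz', g, g', x, y, e1, e2, c⟩ := h.nc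
  exact ⟨x, k z (l hz) x g e1, y, k z' (l hz') y g' e2, c⟩

theorem card_real (r : Real E p ι ⊤) (P : Subgroup (Gu K)) :
    Nat.card (E.autGroup P) * Nat.card (centralizer (P.map ι : Set G)) = Nat.card (normalizer (P.map ι : Set G)) := by
  have j : Injective ι := fun _ _ => r.inj' trivial trivial
  have e := card_NS (P := P.map ι) ⊤
  rw [show NS ⊤ (P.map ι) = normalizer (P.map ι : Set G) from top_inf_eq _,
    show CS ⊤ (P.map ι) = centralizer (P.map ι : Set G) from top_inf_eq _] at e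
  rw [(r.iso.piso_autGroup le_top (piso_hom ι j P)).card_eq, autGroup_ofSubgroup _ (img_hom ι P ▸ img_mono le_top),
    mul_comm, e]

theorem le_real {H : Type} [Group H] {j : G →* H} (r : Real E p ι ⊤) (r' : Real F p (j.comp ι) ⊤)
    (P : Subgroup (Gu K)) : E.autGroup P ≤ F.autGroup P := fun _ h =>
  let ⟨g, e⟩ := (aut_real r).1 h
  (aut_real r').2 ⟨j g, fun x hx => by simp only [MonoidHom.comp_apply, ← e x hx, map_mul, map_inv]⟩

theorem na_of_core (h : F.core = ⊥) : Na F := fun _ n l =>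
  absurd (congrArg Gu.z (mem_bot.1 (h.le (le_core n (l (xz_mem 1)))))) one_ne_zero

theorem Na.not_normal (h : Na F) (n : F.IsNormal P) (l : Z1 K ≤ P) : False := by
  obtain ⟨x, hx, y, hy, c⟩ := h (CS P P) (normal_of_inv n inf_le_left fun φ _ => mem_stab_of_maps inf_le_left
    fun x hx => ⟨fn_mem φ hx.1, fun y hy => fn_comm φ hx.1 hx.2 hy⟩) fun z hz => ⟨l hz, fun y _ => Z1_comm hz y⟩
  exact c (hy.2 x hx.1)

theorem both (hF : Sat F p) (he : Es F p) (h : Na F) : F.IsEssential p (Q1 K) ∧ F.IsEssential p (Q2 K) := by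
  have k : ∀ Q, Z1 K ≤ Q → (∀ P, F.IsEssential p P → P = Q) → False := fun Q l u => by
    by_cases c : F.IsEssential p Q
    · refine h.not_normal (hF.normal_of_ess fun P hP => ?_) l
      rcases hP with rfl | hP
      · exact ⟨le_top, fun φ hφ => (mem_stab_iff_img le_top).2 (u _ ((mor_fn le_rfl hφ).fiso.ess hF c))⟩
      · obtain rfl := u P hP
        exact ⟨le_rfl, stab_self.ge.trans' le_top⟩
    · exact h.not_normal (hF.normal_top_of_no_ess fun P hP => c (u P hP ▸ hP)) le_top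
  exact ⟨by_contra fun c => k (Q2 K) (fun _ h => h.2.1) fun P hP => (he P hP).resolve_left fun e => c (e ▸ hP),
    by_contra fun c => k (Q1 K) (fun _ h => h.1) fun P hP => (he P hP).resolve_right fun e => c (e ▸ hP)⟩

theorem na_fiso (h3 : (3 : K) ≠ 0) (i : FIso F f E) (h : Na F) : Na E := fun N n l => by
  obtain ⟨x, hx, y, hy, c⟩ := h _ (i.symm.normal n) fun z hz =>
    i.piso.pinv_apply (mem_top z) ▸ mem_img_of_mem (l (map_Z1 h3 i.piso z hz))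
  have k : ∀ x ∈ img (pinv f ⊤) N, f x ∈ N := fun x hx => i.img_img_pinv (P' := N) le_top ▸ mem_img_of_mem hx
  exact ⟨_, k x hx, _, k y hy, fun e => c (i.piso.inj trivial trivial (by rwa [CH.pm i.piso, CH.pm i.piso]))⟩

theorem nn_fiso (h3 : (3 : K) ≠ 0) (i : FIso F f E) : nn E = nn F :=
  (i.piso_autGroup le_top (CH.piso_of i.piso (map_Q1 h3 i.piso))).card_eq.symm

theorem img_Q (h : PIso f ⊤ ⊤) :
    img f (Q1 K) = Q1 K ∧ img f (Q2 K) = Q2 K ∨ img f (Q1 K) = Q2 K ∧ img f (Q2 K) = Q1 K := by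
  by_cases h3 : (3 : K) = 0
  · refine (map_Q3 h3 h).imp (fun e => ⟨(CH.piso_of h e.1).img_eq, (CH.piso_of h e.2).img_eq⟩) fun e => ?_
    have k : ∀ A B : Subgroup (Gu K), (∀ x ∈ A, f x ∈ B) → (∀ x ∈ B, f x ∈ A) → img f A = B := fun A B a b =>
      le_antisymm (img_le_iff.2 a) fun y hy => by
        obtain ⟨x, hx, rfl⟩ := (CH.piso_of (h.trans h) fun x hx => a _ (b x hx)).surj hy
        exact mem_img_of_mem (b x hx)
    exact ⟨k _ _ e.1 e.2, k _ _ e.2 e.1⟩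
  · exact .inl ⟨(CH.piso_of h (map_Q1 h3 h)).img_eq, (CH.piso_of h (map_Q2 h3 h)).img_eq⟩

theorem es_fiso (hF : Sat F p) (i : FIso F f E) (h : Es F p) : Es E p := fun P hP => by
  rw [← i.img_img_pinv (P' := P) le_top]
  rcases h _ (i.symm.ess (i.sat' hF) hP) with e | e <;> rw [e] <;> rcases img_Q i.piso with q | q
  exacts [.inl q.1, .inr q.1, .inr q.2, .inl q.2]

theorem not_norm (hF : Sat F p) (h : F.IsEssential p P) (hP : ∀ t, t ∈ normalizer (P : Set (Gu K))) :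
    ¬ F.autGroup P ≤ normalizer (autInducedBy ⊤ P : Set (MulAut P)) := fun n =>
  (hF.ess_lt h).not_ge fun s hs => hF.ess_mem h ⟨hs, hP s⟩
    (le_OpIn (autInducedBy_le F le_top) n (hF.ess_syl h).pg (cA_mem_autInducedBy hs))

theorem Gn.le {m : MulAut P} (g : Gn E P m) (hE : Sat E p) (hP : ∀ t, t ∈ normalizer (P : Set (Gu K)))
    (hm : m ∈ F.autGroup P) (top : ∀ f, Mor E ⊤ f → Mor F ⊤ f) : E.autGroup P ≤ F.autGroup P :=
  g.2 _ hm fun _ h =>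
    let ⟨g, g1, g2⟩ := ext_top hE le_top (fun s _ => hP s) h.1 h.2
    ((top g g1).mono le_top).aut_mem' fun x hx => (g2 x hx).symm

theorem sub_of (hE : Sat E p) (es : Es E p) (top : ∀ f, Mor E ⊤ f → Mor F ⊤ f)
    (h1 : E.autGroup (Q1 K) ≤ F.autGroup (Q1 K)) (h2 : E.autGroup (Q2 K) ≤ F.autGroup (Q2 K)) :
    E.IsSubsystemOf F := hE.alperin_sub fun P hP φ hφ => by
  rcases hP with rfl | hP
  · exact top _ (mor_fn le_rfl hφ)
  · rcases es P hP with rfl | rfl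
    exacts [mor_fn le_top (h1 hφ), mor_fn le_top (h2 hφ)]

theorem Sd.eq (hE : Sd E p) (hF : Sd F p) (top : ∀ f, Mor E ⊤ f ↔ Mor F ⊤ f) : E = F :=
  have k : ∀ {E F : FusionSystem (⊤ : Subgroup (Gu K))}, Sd E p → Sd F p → (∀ f, Mor E ⊤ f → Mor F ⊤ f) →
      E.IsSubsystemOf F := fun hE hF top =>
    sub_of hE.sat hE.es top (hE.g1.le hE.sat nQ1 hF.g1.1 top) (hE.g2.le hE.sat nQ2 hF.g2.1 top)
  eq_of_sub (k hE hF fun f => (top f).1) (k hF hE fun f => (top f).2)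

theorem Nm.ext (h : Nm F p) (hP : ∀ t, t ∈ normalizer (P : Set (Gu K))) {φ : MulAut P} (h1 : φ ∈ F.autGroup P)
    (h2 : φ ∈ normalizer (autInducedBy ⊤ P : Set (MulAut P)))
    (n : ∀ α β τ, α ≠ 0 → β ≠ 0 → ∃ x ∈ P, dg α β τ (gr x) ∉ P) :
    ∃ t α β τ, α ≠ 0 ∧ β ≠ 0 ∧ Mor F ⊤ (dg α β τ) ∧ ∀ x ∈ P, fn φ x = t * dg α β τ x * t⁻¹ := by
  obtain ⟨g, g1, g2⟩ := ext_top h.sat le_top (fun s _ => hP s) h1 h2
  obtain ⟨t, d, ⟨α, β, τ, a0, b0, e | ⟨-, e⟩⟩, m, q⟩ := h.top g g1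
  · exact ⟨t, α, β, τ, a0, b0, m.congr fun x _ => (e x).symm, fun x hx => by rw [← g2 x hx, q, e]⟩
  · obtain ⟨x, hx, c⟩ := n α β τ a0 b0
    have := conj_mem_of_norm' (hP t) (fn_mem φ hx)
    rw [← g2 x hx, q, e] at this
    exact (c (by simpa [mul_assoc] using this)).elim

theorem Nm.ext1 (h : Nm F p) {φ : MulAut (Q1 K)} (h1 : φ ∈ F.autGroup (Q1 K))
    (h2 : φ ∈ normalizer (autInducedBy ⊤ (Q1 K) : Set (MulAut (Q1 K)))) :
    ∃ t α β τ, α ≠ 0 ∧ β ≠ 0 ∧ Mor F ⊤ (dg α β τ) ∧ ∀ x ∈ Q1 K, fn φ x = t * dg α β τ x * t⁻¹ :=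
  h.ext nQ1 h1 h2 fun _ _ _ a0 _ => ⟨xt 1, rfl, by simp [mem_Q1, a0]⟩

theorem Nm.ext2 (h : Nm F p) {φ : MulAut (Q2 K)} (h1 : φ ∈ F.autGroup (Q2 K))
    (h2 : φ ∈ normalizer (autInducedBy ⊤ (Q2 K) : Set (MulAut (Q2 K)))) :
    ∃ t α β τ, α ≠ 0 ∧ β ≠ 0 ∧ Mor F ⊤ (dg α β τ) ∧ ∀ x ∈ Q2 K, fn φ x = t * dg α β τ x * t⁻¹ :=
  h.ext nQ2 h1 h2 fun _ _ _ _ b0 => ⟨xa 1, rfl, by simp [mem_Q2, b0]⟩

theorem cop_dg {H : Subgroup (MulAut P)} (hH : ∀ φ ∈ H, ∃ α β, α ≠ 0 ∧ β ≠ 0 ∧ ∀ x ∈ P, fn φ x = dg α β 1 x) :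
    (Nat.card H).Coprime p := ((Fact.out : p.Prime).coprime_iff_not_dvd.2 fun c => by
  obtain ⟨⟨φ, hφ⟩, o⟩ := exists_prime_orderOf_dvd_card' p c
  obtain ⟨α, β, a0, b0, e⟩ := hH φ hφ
  haveI := Fintype.ofFinite K
  have k : ∀ n, ∀ x ∈ P, fn (φ ^ n) x = dg (α ^ n) (β ^ n) 1 x := fun n x hx => by
    induction n with
    | zero => simp [dg_one]
    | succ n ih => rw [fn_pow_succ, e _ (fn_mem _ hx), ih, dg_dg, pow_succ', pow_succ']; rfl
  have := orderOf_dvd_of_pow_eq_one (aut_ext fun x hx => (k (Fintype.card K - 1) x hx).trans (by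
    rw [FiniteField.pow_card_sub_one_eq_one α a0, FiniteField.pow_card_sub_one_eq_one β b0, dg_one, fn_one]))
  rw [← orderOf_coe] at o
  rw [o, Nat.dvd_sub_iff_right Fintype.card_pos ((CharP.cast_eq_zero_iff K p _).1 (FiniteField.cast_card_eq_zero K))] at this
  exact (Fact.out : p.Prime).one_lt.ne' (Nat.dvd_one.1 this)).symm

/-- `H` is any group of diagonal automorphisms of `P` -/
theorem lift {H : Subgroup (MulAut P)} (hH : ∀ φ ∈ H, ∃ α β, α ≠ 0 ∧ β ≠ 0 ∧ ∀ x ∈ P, fn φ x = dg α β 1 x)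
    {m n : MulAut P} (h : ∀ φ ∈ H, ∃ ψ, m * φ * m⁻¹ * ψ⁻¹ ∈ Inn P ∧ n * φ * n⁻¹ * ψ⁻¹ ∈ Inn P) :
    ∃ k ∈ Inn P, ∀ φ ∈ H, ∀ x, fn φ (fn (k * (n⁻¹ * m)) x) = fn (k * (n⁻¹ * m)) (fn φ x) := by
  obtain ⟨p, hp⟩ := CharP.exists K
  haveI : Fact p.Prime := ⟨CharP.char_is_prime K p⟩
  have hP : IsPGroup p P := pg.to_le le_top
  haveI := (isPGroup_Inn hP).isNilpotent
  obtain ⟨k, hk, e⟩ := CF.Coprime.exists_mul_mem_centralizer H (Inn P) (Inn_norm _)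
    (CF.Coprime.coprime_card_of_isPGroup (isPGroup_Inn hP) (cop_dg hH)) (.inr inferInstance) (n⁻¹ * m) fun φ hφ => by
      obtain ⟨ψ, h1, h2⟩ := h _ (inv_mem hφ)
      have := conj_mem_of_norm (Inn_norm ⊤ (mem_top (φ * n⁻¹))) (mul_mem h1 (inv_mem h2))
      simpa [mul_assoc] using this
  exact ⟨k, hk, fun φ hφ x => by rw [← fn_mul, e φ hφ, fn_mul]⟩

theorem mor_dg_mul {γ δ : K} {υ τ : K ≃+* K} (h1 : Mor F ⊤ (dg α β υ)) (h2 : Mor F ⊤ (dg γ δ τ)) :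
    Mor F ⊤ (dg (α * υ γ) (β * υ δ) (υ * τ)) :=
  (h2.comp h1 fun _ _ => trivial).congr fun x _ => (dg_dg x).symm

theorem aut_Q1 {τ : K ≃+* K} (h : Mor F ⊤ (dg α β τ)) : ∃ φ ∈ F.autGroup (Q1 K), ∀ x ∈ Q1 K, fn φ x = dg α β τ x :=
  ((h.mono le_top).iso_self fun x hx => by simp [mem_Q1, mem_Q1.1 hx]).exists_aut

theorem aut_Q2 {τ : K ≃+* K} (h : Mor F ⊤ (dg α β τ)) : ∃ φ ∈ F.autGroup (Q2 K), ∀ x ∈ Q2 K, fn φ x = dg α β τ x :=
  ((h.mono le_top).iso_self fun x hx => by simp [mem_Q2, mem_Q2.1 hx]).exists_aut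

end CF.FusG
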