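import Cfsg.Agent.FusG.C

/-! Fusion systems on a Sylow `p`-subgroup of `G₂(q)`: transport of structure. -/

set_option autoImplicit false
set_option linter.style.haveILetI false
set_option linter.unusedSimpArgs false
set_option linter.unusedSectionVars false

namespace CF.FusG

open Cfsg Cfsg.FusionSystem Subgroup CF.Fus CF.FusD CF.FusU Function Gu Matrix

variable {K : Type} [Field K] [Finite K] {p : ℕ} [Fact p.Prime] [CharP K p]
  {E F : FusionSystem (⊤ : Subgroup (Gu K))} {f g g' : Gu K → Gu K} {P R : Subgroup (Gu K)} {α β μ : K}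

theorem push_top (i : FIso F f E) (m : Mor F ⊤ g) (e : ∀ x, g' (f x) = f (g x)) : Mor E ⊤ g' := by
  obtain ⟨k, k1, k2⟩ := i.mph.push m
  rw [i.img_eq] at k1
  refine k1.congr fun y hy => ?_
  obtain ⟨x, -, rfl⟩ := i.piso.surj hy
  rw [e, k2 x trivial]

theorem pull_top (i : FIso F f E) (m : Mor E ⊤ g') : ∃ g, Mor F ⊤ g ∧ ∀ x, g' (f x) = f (g x) :=
  let ⟨g, g1, g2⟩ := i.pull le_rfl (f' := g') (by rwa [i.img_eq])
  ⟨g, g1, fun x => g2 x trivial⟩

/-- transport along a map which commutes with the top -/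
theorem top_iff (i : FIso F f E) (c : ∀ g, Mor F ⊤ g → ∀ x, g (f x) = f (g x)) (g : Gu K → Gu K) :
    Mor E ⊤ g ↔ Mor F ⊤ g := by
  refine ⟨fun m => ?_, fun m => push_top i m (c g m)⟩
  obtain ⟨k, k1, k2⟩ := pull_top i m
  refine k1.congr fun y hy => ?_
  obtain ⟨x, -, rfl⟩ := i.piso.surj hy
  rw [k2, c k k1]

theorem Nm.of_top (h : Nm F p) (i : FIso F f E) (s3 : E.autGroup (Q2 K) ≤ stab (Q2 K) (Z3 K))
    (top : ∀ d, Dh d → Mor F ⊤ d → ∃ d', Dh d' ∧ ∀ x, d' (f x) = f (d x)) : Nm E p := by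
  have a1 := i.ess h.sat h.e1
  have a2 := i.ess h.sat h.e2
  have a : E.IsEssential p (Q1 K) ∧ E.IsEssential p (Q2 K) := by
    rcases img_Q i.piso with q | q <;> rw [q.1] at a1 <;> rw [q.2] at a2
    exacts [⟨a1, a2⟩, ⟨a2, a1⟩]
  refine ⟨i.sat' h.sat, es_fiso h.sat i h.es, a.1, a.2, fun g m => ?_, s3⟩
  obtain ⟨k, k1, k2⟩ := pull_top i m
  obtain ⟨t, d, d1, d2, d3⟩ := h.top k k1
  obtain ⟨d', e1, e2⟩ := top d d1 d2
  refine ⟨f t, d', e1, push_top i d2 e2, fun y => ?_⟩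
  obtain ⟨x, -, rfl⟩ := i.piso.surj (mem_top y)
  rw [k2, d3, e2, i.piso.mul.map_conj trivial trivial]

theorem map_ind (h : PIso f ⊤ ⊤) (hp : PIso f P R) :
    (autInducedBy ⊤ P).map hp.autCongr.toMonoidHom = autInducedBy ⊤ R := by
  refine le_antisymm ?_ fun φ hφ => ?_
  · rintro _ ⟨φ, hφ, rfl⟩
    obtain ⟨t, -, e⟩ := mem_autInducedBy'.1 hφ
    refine mem_autInducedBy'.2 ⟨f t, trivial, fun y hy => ?_⟩
    obtain ⟨x, hx, rfl⟩ := hp.surj hy
    exact (hp.fn_autCongr φ hx).trans (by rw [e x hx, h.mul.map_conj trivial trivial])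
  · obtain ⟨s, -, e⟩ := mem_autInducedBy'.1 hφ
    obtain ⟨t, -, rfl⟩ := h.surj (mem_top s)
    refine ⟨hp.autCongr.symm φ, mem_autInducedBy'.2 ⟨t, trivial, fun x hx => h.inj trivial trivial ?_⟩, by simp⟩
    rw [hp.fn_autCongr_symm φ hx, e _ (hp.maps hx), h.mul.map_conj trivial trivial]

theorem Gn.pull (i : FIso F f E) (hp : PIso f P R) {m : MulAut P} (g : Gn E R (hp.autCongr m)) : Gn F P m := by
  refine ⟨(i.autCongr_mem_iff le_top hp).1 g.1, fun H hm l φ hφ => ?_⟩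
  obtain ⟨ψ, h1, h2⟩ := g.2 (H.map hp.autCongr.toMonoidHom) (mem_map_of_mem _ hm) (fun ψ hψ => by
    obtain ⟨χ, rfl⟩ := hp.autCongr.surjective ψ
    refine mem_map_of_mem _ (l ⟨(i.autCongr_mem_iff le_top hp).1 hψ.1, ?_⟩)
    have := hψ.2
    rw [← map_ind i.piso hp, ← map_equiv_normalizer_eq] at this
    exact (mem_map_iff_mem hp.autCongr.injective).1 this) ((i.autCongr_mem_iff le_top hp).2 hφ)
  exact hp.autCongr.injective h2 ▸ h1

end CF.FusG
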