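import Cfsg.Agent.FusG.E5b

/-! Essential subgroups of a Sylow `p`-subgroup of `G₂(q)`, `p ≥ 5`, `q ≠ 7`. -/

set_option autoImplicit false
set_option linter.style.haveILetI false
set_option linter.unusedSimpArgs false

namespace CF.FusG

open Cfsg Cfsg.FusionSystem Subgroup CF.Fus CF.FusD CF.FusU Function Gu Matrix

namespace E5

variable {K : Type} [Field K] [Finite K] {p : ℕ} [Fact p.Prime] {F : FusionSystem (⊤ : Subgroup (Gu K))}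
  {E : Subgroup (Gu K)} {Y M : Subgroup (MulAut E)} {x u : Gu K}
  (h2 : (2 : K) ≠ 0) (h3 : (3 : K) ≠ 0)
include h2 h3

omit [Finite K] in
theorem fix4 (h4 : u ∈ Z4 K) (a0 : x.a ≠ 0) (e : cm u x ∈ Z1 K) : u ∈ Z2 K :=
  have m3 := of4 h4 (by simpa [cm_c4 h4, h2, a0] using e.2.2.2.1)
  of3 m3 (by simpa [cm_s3 m3, h3, a0] using e.2.2.2.2)

variable (h : Mn p ⊤ E Y M) (l2 : Z2 K ≤ E)
include h

omit h2 h3 in
theorem eqQ1 (i1 : Y ≤ stab E (Z1 K)) (l : E ≤ Q1 K) : E = Q1 K :=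
  le_antisymm l fun t ht => h.ch2 i1 (h.mem_NS trivial fun _ hx => E2.leZ1 h (cmQ1 (l hx) ht))
    (fun _ hx => cmQ1 (l hx) ht) fun _ _ hx => cm0 hx t

include l2

theorem alpha (c : ¬ Y ≤ stab E (Z1 K)) : E = Q2 K ∨ ∃ u, (∀ x, x ∈ E ↔ u * x = x * u) ∧ u.t = 0 ∧ u.a ≠ 0 := by
  obtain ⟨g, hg, gn⟩ := h.exg
  obtain ⟨z, hz, n⟩ := h.moves (E2.leZ1 h) (fun n _ x hx => cm1 (l12 hx) n) c hg gn
  obtain ⟨C, c1, c2, c3⟩ := E2.dZ1 h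
  have z1 := E2.leZ1 h hz
  have hE : ∀ x, x ∈ E ↔ fn g z * x = x * fn g z := fun x => ⟨fun m => (E2.cenZ h hz g m).symm, fun m =>
    FusT.eq_cen h (D := ⊥) (fn_mem g z1) (nrm fun x hx y => by rw [mem_bot.1 hx]; simp [cm])
      (fun e he => mem_bot.2 (cm_eq_one.2 (E2.cenZ h hz g he).symm)) (fun t ht e => by_contra fun tn =>
        n (by rwa [c2 z ((c3 z hz g hg gn t ht tn).1 (cm_eq_one.1 e)) g hg])) trivial (mem_bot.2 (cm_eq_one.2 m))⟩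
  have t0 := t_zero ((hE _).1 (l2 (xs_mem 1)))
  refine or_iff_not_imp_right.2 fun k => ?_
  have u4 : fn g z ∈ Z4 K := ⟨by_contra fun a0 => k ⟨_, hE, t0, a0⟩, t0⟩
  have u2 : fn g z ∈ Z2 K := by_contra fun u2 => by
    have l : E ≤ Q1 K := fun x hx => by_contra fun a0 =>
      u2 (fix4 h2 h3 u4 a0 (by rw [cm_eq_one.2 ((hE x).1 hx)]; exact one_mem _))
    obtain ⟨b, c, e⟩ : ∃ b c, (fn g z).s + 3 * (fn g z).b * c - 3 * (fn g z).c * b = 0 := by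
      by_cases b0 : (fn g z).b = 0
      · have c0 := mt (of3 (of4 u4 b0)) u2
        exact ⟨(fn g z).s / (3 * (fn g z).c), 0, by field_simp; ring⟩
      · exact ⟨0, -(fn g z).s / (3 * (fn g z).b), by field_simp; ring⟩
    have m := (hE ⟨0, 1, b, c, 0, 0⟩).2 (cm_eq_one.1 (of1 (cmQ1 u4.1 rfl) (by
      rw [cm_z1 u4.1 rfl]; linear_combination e)))
    obtain ⟨a, ha, rfl⟩ := exists_cm2 (x := (⟨0, 1, b, c, 0, 0⟩ : Gu K)) one_ne_zero hz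
    exact n (fn_cm g m (l2 ha) ▸ cmQ1 (l (fn_mem g m)) (l (fn_mem g (l2 ha))))
  exact Subgroup.ext fun x => by rw [hE, eq_comm, Z2_comm u2, mul_eq_zero_iff_right (mt (of2 u2) n), mem_Q2]

variable (i1 : Y ≤ stab E (Z1 K))
include i1

theorem beta (c : ¬ Y ≤ stab E (Z2 K)) : E = Q1 K ∨ (∃ u, (∀ x, x ∈ E ↔ u * x = x * u) ∧ u.t = 0 ∧ u.a ≠ 0) ∨
    ¬ Z3 K ≤ E ∧ ∃ g ∈ Y, g ∉ M ∧ ∃ y ∈ Z2 K, (fn g y).a ≠ 0 ∧ (fn g y).t ≠ 0 := by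
  obtain ⟨g, hg, gn⟩ := h.exg
  obtain ⟨y, hy, n⟩ := h.moves l2 (fun n _ x hx => l12 (cm1 hx n)) c hg gn
  obtain ⟨C, c0, c1, c2, c3⟩ := FusT.d0 h l2 i1 (fun t _ => nZ1 t) l12 fun n _ x hx => cm1 hx n
  have k0 : ∀ x ∈ E, cm (fn g y) x ∈ Z1 K := fun x => E2.cm_fn (i1 hg) (l2 hy) (cm1 hy)
  have hE : ∀ x, cm (fn g y) x ∈ Z1 K → x ∈ E := fun x => FusT.eq_cen h (fn_mem g (l2 hy)) nZ1 k0
    (fun t ht e => by_contra fun tn => n (by simpa using mul_mem hy (l12 (c2 y ((c3 y hy g hg gn t ht tn).1 e) g hg))))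
    trivial
  by_cases a0 : (fn g y).a = 0
  · exact .inl (eqQ1 h i1 fun x hx => by_contra fun x0 => n (fix4 h2 h3
      ⟨a0, by simpa [cm_b, a0, show x.a ≠ 0 from x0] using (k0 x hx).2.2.1⟩ x0 (k0 x hx)))
  by_cases t0 : (fn g y).t = 0
  · exact .inr (.inl ⟨_, fun x => ⟨fun hx => (fn_comm g (l2 hy) (fun e he => Q22 (by
      simpa [cm_b, t0, a0, mem_Q2] using (k0 e he).2.2.1) hy) hx).symm,
        fun m => hE x (by rw [cm_eq_one.2 m]; exact one_mem _)⟩, t0, a0⟩)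
  exact .inr (.inr ⟨fun l => by simpa [cm_s3' _ (xc_mem (1 : K)), h3, a0] using (k0 _ (l (xc_mem 1))).2.2.2.2,
    g, hg, gn, y, hy, a0, t0⟩)

theorem gamma (i2 : Y ≤ stab E (Z2 K)) (kd : Z3 K ≤ E → E ≤ Q2 K → ¬ E ≤ Q1 K → Y ≤ stab E (Z3 K)) :
    E = Q1 K ∨ E = Q2 K := by
  have l3 : Z3 K ≤ E := fun t ht => h.ch2 i2 (h.mem_NS trivial fun x _ => l2 (cm2' x ht)) (fun x _ => cm2' x ht)
    fun x _ hx => cm_eq_one.2 (Z33 (l23 hx) ht)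
  refine or_iff_not_imp_left.2 fun n => ?_
  have n1 := mt (eqQ1 h i1) n
  have l : E ≤ Q2 K := fun e he => by_contra fun e0 => by
    obtain ⟨d, hd, d0⟩ := SetLike.not_le_iff_exists.1 n1
    have j2 : Y ≤ stab E (E ⊓ Q2 K) := stab_of_char inf_le_left le_stab_top i2 le_stab_bot fun x hx =>
      ⟨fun m => ⟨trivial, fun y _ hy => mem_bot.2 (cm_eq_one.2 (Q22 m.2 hy))⟩,
        fun m => ⟨hx, t_zero (cm_eq_one.1 (mem_bot.1 (m.2 _ (l2 (xs_mem 1)) (xs_mem 1))))⟩⟩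
    have k : ∀ x ∈ Q2 K, (cm x e).b = 0 → x ∈ Z4 K := fun x hx q =>
      ⟨by simpa [cm_b, mem_Q2.1 hx, show e.t ≠ 0 from e0] using q, hx⟩
    have j3 : Y ≤ stab E (Z3 K) := stab_of_char l3 j2 le_stab_top i2 fun x hx =>
      ⟨fun m => ⟨⟨hx, m.2.1⟩, fun y _ _ => cm2 m y⟩, fun m =>
        have m4 := k x m.1.2 (m.2 e he trivial).2.2.1
        of4 m4 (by simpa [cm_c4 m4, h2, show d.a ≠ 0 from d0] using (m.2 d hd trivial).2.2.2)⟩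
    have j4 : Y ≤ stab E (E ⊓ Z4 K) := stab_of_char inf_le_left j2 le_stab_top j3 fun x hx =>
      ⟨fun m => ⟨⟨hx, m.2.2⟩, fun y _ _ => cm3 m.2 y⟩, fun m => ⟨hx, k x m.1.2 (m.2 e he trivial).2.2⟩⟩
    obtain ⟨t, ht, tn⟩ := h.ext
    exact tn (FusT.ch6 h i1 i1 i2 j3 j4 ht (fun x hx => ⟨cm_mem hx ht.2, cm4 x t⟩) (fun x _ hx => cm3 hx.2 t)
      (fun x _ hx => cm2 hx t) (fun x _ hx => cm1 hx t) (fun x _ hx => cm1 (l12 hx) t) fun x _ hx => cm0 hx t)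
  exact le_antisymm l fun t ht => h.ch3 i2 (kd l3 l n1) (h.mem_NS trivial fun _ hx => l3 (cmQ2 (l hx) ht))
    (fun _ hx => cmQ2 (l hx) ht) (fun x _ hx => cm2 hx t) fun x _ hx => cm_eq_one.2 (Q22 ht hx).symm

omit h l2 i1

theorem st1 [CharP K p] (hF : Sat F p) (hE : F.IsEssential p E) (l2 : Z2 K ≤ E) (L : Z3 K ≤ E ∨ Lz F p (Z3 K)) :
    E = Q1 K ∨ E = Q2 K := by
  obtain ⟨Y, M, h, sy, yl⟩ := exists_mn2 hF hE
  have kb : ¬ ∃ u, (∀ x, x ∈ E ↔ u * x = x * u) ∧ u.t = 0 ∧ u.a ≠ 0 := fun ⟨u, u1, u2, u3⟩ => u3 (L.elim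
    (fun l => by simpa [h3] using ((Z3_comm (xc_mem 1)).1 ((u1 _).1 (l (xc_mem 1)))).1)
    fun L => killB h2 h3 hF hE h sy yl L u1 u2)
  by_cases i1 : Y ≤ stab E (Z1 K)
  · by_cases i2 : Y ≤ stab E (Z2 K)
    · exact gamma h2 h3 h l2 i1 i2 (killD h2 h3 hF hE h sy yl i2)
    · rcases beta h2 h3 h l2 i1 i2 with e | e | ⟨n, g, hg, gn, y, hy, a0, t0⟩
      exacts [.inl e, (kb e).elim, (t0 (killC h2 h3 hF hE h sy yl (L.resolve_left n) i1 l2 hg gn hy a0)).elim]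
  · exact .inr ((alpha h2 h3 h l2 i1).resolve_right kb)

end E5

variable {K : Type} [Field K] [Finite K] {p : ℕ} [Fact p.Prime] [CharP K p] {F : FusionSystem (⊤ : Subgroup (Gu K))}

theorem es5 (h2 : (2 : K) ≠ 0) (h3 : (3 : K) ≠ 0) (h7 : Nat.card K ≠ 7) (hF : Sat F p) : Es F p := fun P hP => by
  have L : E5.Lz F p (Z2 K) := fun P hP l => E5.st1 h2 h3 hF hP l
    (.inr fun P hP l => E5.st1 h2 h3 hF hP (l23.trans l) (.inl l))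
  obtain ⟨Y, M, h, sy, yl⟩ := exists_mn2 hF hP
  exact L P hP (E5.killA h2 h3 hF hP h sy yl h7 L)

end CF.FusG
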