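import Cfsg.Agent.FusG.C

/-! Fusion systems on a Sylow `p`-subgroup of `G₂(q)`: realization by extensions. -/

set_option autoImplicit false
set_option linter.style.haveILetI false
set_option linter.unusedSimpArgs false
set_option linter.unusedSectionVars false

namespace CF.FusG

open Cfsg Cfsg.FusionSystem Subgroup CF.Fus CF.FusD CF.FusU Function Gu Matrix

variable {K : Type} [Field K] [Finite K] {p : ℕ} [Fact p.Prime] [CharP K p]
  {E F : FusionSystem (⊤ : Subgroup (Gu K))} {G : Type} [Group G] {ι : Gu K →* G} {f : Gu K → Gu K}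
  {Γ : Subgroup (GL (Fin 4) K)} {P : Subgroup (Gu K)} {α β μ : K}

namespace RZ

variable {d e : Gu K → Gu K} {τ : K ≃+* K}

theorem exists_cover [Finite G] {B C : Subgroup G} (n : B ≤ normalizer (C : Set G)) (l : C ≤ B)
    (h : ∀ g ∈ B, ∀ k, g ^ p ^ k = 1 → g ∈ C) : ∃ H ≤ B, ¬ p ∣ Nat.card H ∧ ∀ g ∈ B, ∃ c ∈ C, c * g ∈ H := by
  obtain ⟨P, hP⟩ := exists_sylIn p B
  have a : P ≤ C := fun g hg => let ⟨k, e⟩ := isPGroup_iff_mem.1 hP.pg g hg; h g (hP.le hg) k e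
  have s := hP.mono (le_inf hP.le le_normalizer) inf_le_left
  obtain ⟨H, h1, -, h2, h3⟩ := CF.Solv.exists_complement_of_coprime s.le inf_le_right
    (CF.Coprime.coprime_card_of_isPGroup hP.pg s.coprime_relIndex).symm
  refine ⟨H, h1.trans inf_le_left, h3 ▸ s.not_dvd_relIndex, fun g hg => ?_⟩
  obtain ⟨c, c1, c2⟩ := (hP.mono a l).frattini (n hg)
  obtain ⟨u, u1, v, v1, e⟩ := (mem_sup_of_norm' (h1.trans inf_le_right)).1 (h2.ge ⟨mul_mem (l c1) hg, c2⟩)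
  exact ⟨u⁻¹ * c, mul_mem (inv_mem (a u1)) c1, by rwa [mul_assoc, ← e, inv_mul_cancel_left]⟩

theorem frob (h : (3 : K) = 0) : ∃ φ : K ≃+* K, ∀ x : Gu K, gr (gr x) = dg 1 1 φ x := by
  let ψ : K →+* K :=
    { toFun := fun x => x ^ 3
      map_one' := one_pow 3
      map_mul' := fun x y => mul_pow x y 3
      map_zero' := by simp
      map_add' := fun x y => by linear_combination (x ^ 2 * y + x * y ^ 2) * h }
  exact ⟨RingEquiv.ofBijective ψ (Finite.injective_iff_bijective.1 ψ.injective), fun x => by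
    rw [gr_gr h]; ext <;> simp [ψ]⟩

theorem dh_dg (a0 : α ≠ 0) (b0 : β ≠ 0) : Dh (dg α β τ) := ⟨α, β, τ, a0, b0, .inl fun _ => rfl⟩

theorem comp (h : Dh d) (h' : Dh e) : Dh fun x => d (e x) := by
  obtain ⟨α, β, υ, a0, b0, h⟩ := h
  obtain ⟨γ, δ, τ, c0, d0, h'⟩ := h'
  have n : ∀ {x y : K}, x ≠ 0 → y ≠ 0 → x * υ y ≠ 0 := fun a b => mul_ne_zero a (υ.map_ne_zero_iff.2 b)
  rcases h with h | ⟨h3, h⟩ <;> rcases h' with h' | ⟨h3', h'⟩
  · exact ⟨_, _, _, n a0 c0, n b0 d0, .inl fun x => by beta_reduce; rw [h, h', dg_dg]⟩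
  · exact ⟨_, _, _, n a0 c0, n b0 d0, .inr ⟨h3', fun x => by beta_reduce; rw [h, h', dg_dg]⟩⟩
  · exact ⟨_, _, _, n a0 d0, n b0 (pow_ne_zero 3 c0), .inr ⟨h3, fun x => by beta_reduce; rw [h, h', gr_dg, dg_dg]⟩⟩
  · obtain ⟨φ, hφ⟩ := frob h3
    exact ⟨_, _, _, mul_ne_zero (n a0 d0) ((υ * τ).map_ne_zero_iff.2 one_ne_zero),
      mul_ne_zero (n b0 (pow_ne_zero 3 c0)) ((υ * τ).map_ne_zero_iff.2 one_ne_zero),
      .inl fun x => by beta_reduce; rw [h, h', gr_dg, dg_dg, hφ, dg_dg]⟩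

theorem piso (h : Dh d) : PIso d ⊤ ⊤ := by
  obtain ⟨α, β, τ, a0, b0, h | ⟨h3, h⟩⟩ := h <;> rw [show d = _ from funext h]
  exacts [piso_dg a0 b0, (piso_gr h3).trans (piso_dg a0 b0)]

theorem eq_self (h : Dh d) {t : Gu K} (e : ∀ x, d x = t * x * t⁻¹) (x : Gu K) : d x = x := by
  obtain ⟨α, β, τ, a0, b0, h | ⟨-, h⟩⟩ := h
  · have k : ∀ s, α * τ s = s := fun s => by simpa [h, xa] using congrArg Gu.a (e (xa s))
    obtain rfl : α = 1 := by simpa using k 1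
    obtain rfl : β = 1 := by simpa [h, xt] using congrArg Gu.t (e (xt 1))
    obtain rfl : τ = 1 := RingEquiv.ext fun s => by simpa using k s
    rw [h, dg_one]
  · simpa [h, xa] using congrArg Gu.a (e (xa 1))

theorem nm_of (h : Gs p ι) (nrm : ∀ (g : G) (f : Gu K → Gu K), (∀ x, g * ι x * g⁻¹ = ι (f x)) →
      ∃ t d, Dh d ∧ ∀ x, f x = t * d x * t⁻¹) (s3 : ∀ E : FusionSystem (⊤ : Subgroup (Gu K)), Sat E p →
      E.IsEssential p (Q2 K) → E.autGroup (Q2 K) ≤ stab (Q2 K) (Z3 K))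
    (es : ∀ E : FusionSystem (⊤ : Subgroup (Gu K)), Sat E p → Es E p) :
    ∃ E : FusionSystem (⊤ : Subgroup (Gu K)), Real E p ι ⊤ ∧ Nm E p := by
  obtain ⟨E, r, n⟩ := h.real
  obtain ⟨e1, e2⟩ := both r.sat (es E r.sat) n
  refine ⟨E, r, r.sat, es E r.sat, e1, e2, fun f hf => ?_, s3 E r.sat e2⟩
  obtain ⟨g, -, q⟩ := r.real hf
  obtain ⟨t, d, a, e⟩ := nrm g f fun x => q x trivial
  exact ⟨t, d, a, (hf.cj_comp (mem_top t⁻¹)).congr fun x _ => by simp [e, mul_assoc], e⟩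

theorem norm (h : Gs p ι) {g : G} (e : ∀ x, g * ι x * g⁻¹ = ι (f x)) : g ∈ normalizer (ι.range : Set G) :=
  haveI := h.fin
  mem_normalizer_fintype (by rintro _ ⟨x, rfl⟩; exact ⟨_, (e x).symm⟩)

theorem lin (h : Ge p ι) (r : Real E p ι ⊤) (n : Tor E) {g : G} {t : Gu K} (a0 : α ≠ 0)
    (e : ∀ x, g * ι x * g⁻¹ = ι (t * dg α β τ x * t⁻¹)) : τ = 1 := RingEquiv.ext fun γ => by
  rcases eq_or_ne γ 0 with rfl | c0
  · simp
  obtain ⟨k, -, q⟩ := r.real (n γ 1 c0 one_ne_zero)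
  obtain ⟨u, hu⟩ := h.ab g k (norm h.toGs e) (norm h.toGs fun x => q x trivial)
  have : g * (k * ι (xa 1) * k⁻¹) * g⁻¹ = ι u * (k * (g * ι (xa 1) * g⁻¹) * k⁻¹) * (ι u)⁻¹ := by rw [hu]; group
  rw [q _ trivial, e, e, q _ trivial, ← map_inv, ← map_mul, ← map_mul] at this
  have := congrArg Gu.a (h.inj this)
  simp [xa] at this
  exact mul_left_cancel₀ a0 (this.trans (mul_comm ..))

variable (ι) in
/-- the automorphisms which induce diagonal, field and graph automorphisms of the system -/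
def Mo (F : FusionSystem (⊤ : Subgroup (Gu K))) : Submonoid (MulAut G) where
  carrier := {θ | ∃ d, Dh d ∧ Mor F ⊤ d ∧ ∀ x, θ (ι x) = ι (d x)}
  one_mem' := ⟨_, dh_dg (τ := 1) one_ne_zero one_ne_zero, mor_of_eq_self F le_rfl fun x _ => dg_one x, fun x => by
    rw [dg_one]; rfl⟩
  mul_mem' := by
    rintro θ η ⟨d, a, m, e⟩ ⟨d', a', m', e'⟩
    exact ⟨_, comp a a', m'.comp m fun _ _ => trivial, fun x => by rw [MulAut.mul_apply, e', e]⟩

variable (ι) in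
/-- the same as a group -/
def Ga [Finite G] (F : FusionSystem (⊤ : Subgroup (Gu K))) : Subgroup (MulAut G) :=
  { Mo ι F with
    inv_mem' := fun {θ} h => by
      have o := isOfFinOrder_of_finite θ
      rw [show θ⁻¹ = θ ^ (orderOf θ - 1) from inv_eq_of_mul_eq_one_right (by
        rw [← pow_succ', Nat.sub_add_cancel o.orderOf_pos, pow_orderOf_eq_one])]
      exact (Mo ι F).pow_mem h _ }

theorem exists_Ha [Finite G] (j : Injective ι) (hF : Sat F p) : ∃ H ≤ Ga ι F, ¬ p ∣ Nat.card H ∧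
    ∀ θ ∈ Ga ι F, ∃ η ∈ H, ∀ x, η (ι x) = θ (ι x) := by
  obtain ⟨H, h1, h2, h3⟩ := exists_cover (p := p) (B := Ga ι F) (C := Ga ι F ⊓ fixingSubgroup _ (Set.range ι))
    (fun θ hθ => mem_normalizer_fintype fun η hη => ⟨mul_mem (mul_mem hθ hη.1) (Subgroup.inv_mem _ hθ), by
      rintro ⟨_, x, rfl⟩
      obtain ⟨d, -, -, e⟩ := inv_mem hθ
      show θ (η (θ⁻¹ (ι x))) = ι x
      rw [e, show η (ι _) = ι _ from hη.2 ⟨_, _, rfl⟩, ← e, MulAut.apply_inv_self]⟩) inf_le_left fun θ hθ k o => ⟨hθ, by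
      obtain ⟨d, a, m, e⟩ := hθ
      obtain ⟨ψ, h1, h2⟩ := m.iso_top.exists_aut
      have k : ∀ (n : ℕ) x, (θ ^ n) (ι x) = ι (fn (ψ ^ n) x) := fun n x => by
        induction n with
        | zero => simp
        | succ n ih => rw [pow_succ', MulAut.mul_apply, ih, e, fn_pow_succ, h2 _ trivial]
      obtain ⟨t, -, rfl⟩ := mem_Inn.1 (hF.mem_Inn_top h1 (aut_ext fun x _ => j (by rw [← k, o, fn_one]; rfl)))
      rintro ⟨_, x, rfl⟩
      show θ (ι x) = ι x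
      rw [e, eq_self a (t := t) fun x => by rw [← h2 x trivial, fn_cA (le_normalizer (mem_top t)) trivial]]⟩
  refine ⟨H, h1, h2, fun θ hθ => ?_⟩
  obtain ⟨c, c1, c2⟩ := h3 θ hθ
  obtain ⟨d, -, -, e⟩ := hθ
  exact ⟨_, c2, fun x => by rw [MulAut.mul_apply, e]; exact c1.2 ⟨_, _, rfl⟩⟩

end RZ

open RZ in
theorem Nm.rz0 (h : Nm F p) (d : Ge p ι) (s3 : ∀ E : FusionSystem (⊤ : Subgroup (Gu K)), Sat E p →
      E.IsEssential p (Q2 K) → E.autGroup (Q2 K) ≤ stab (Q2 K) (Z3 K))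
    (es : ∀ E : FusionSystem (⊤ : Subgroup (Gu K)), Sat E p → Es E p)
    (std : ∀ F : FusionSystem (⊤ : Subgroup (Gu K)), Nm F p → ∃ (E : FusionSystem (⊤ : Subgroup (Gu K)))
      (f : Gu K → Gu K), FIso F f E ∧ Sd E p ∧ ∀ g, Mor E ⊤ g ↔ Mor F ⊤ g) : Rz F p := by
  haveI := d.fin
  have tor : ∀ {F : FusionSystem (⊤ : Subgroup (Gu K))}, Nm F p → Tor F := fun h α β a0 b0 =>
    let ⟨_, _, _, s, e⟩ := std _ h; (e _).1 (s.tor α β a0 b0)
  obtain ⟨E₀, r₀, n₀⟩ := nm_of d.toGs (fun g f q =>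
    let ⟨t, _, _, _, a0, b0, e⟩ := d.nrm g f q; ⟨t, _, dh_dg a0 b0, e⟩) s3 es
  obtain ⟨H, h1, h3, h5⟩ := exists_Ha d.inj h.sat
  let φ : Gu K →* G ⋊[H.subtype] H := SemidirectProduct.inl.comp ι
  have cj1 : ∀ (g : G ⋊[H.subtype] H) a, g * .inl a * g⁻¹ =
      .inl (g.left * (g.right : MulAut G) a * g.left⁻¹) := fun g a => by ext <;> simp [mul_assoc]
  have k : ∀ (g : G ⋊[H.subtype] H) (f : Gu K → Gu K), (∀ x, g * φ x * g⁻¹ = φ (f x)) →
      ∃ t c, Dh c ∧ Mor F ⊤ c ∧ ∀ x, f x = t * c x * t⁻¹ := fun g f q => by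
    obtain ⟨c, a, m, e⟩ := h1 g.right.2
    have q1 : ∀ x, g.left * ι (c x) * g.left⁻¹ = ι (f x) := fun x => by
      rw [← e]; exact SemidirectProduct.inl_injective ((cj1 ..).symm.trans (q x))
    have i := piso a
    have q2 : ∀ x, g.left * ι x * g.left⁻¹ = ι (f (pinv c ⊤ x)) := fun x => by
      rw [← q1, i.apply_pinv trivial]
    obtain ⟨t, γ, δ, υ, c0, d0, e1⟩ := d.nrm _ _ q2
    obtain rfl := lin d r₀ (tor n₀) c0 fun x => (q2 x).trans (congrArg ι (e1 x))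
    exact ⟨t, _, comp (dh_dg (τ := 1) c0 d0) a, m.comp (tor h γ δ c0 d0) fun _ _ => trivial, fun x => by
      rw [← e1, i.pinv_apply trivial]⟩
  obtain ⟨E, r, n⟩ := nm_of (p := p) (ι := φ) ⟨Finite.of_equiv _ SemidirectProduct.equivProd.symm,
    SemidirectProduct.inl_injective.comp d.inj, by
      rw [MonoidHom.range_comp]
      refine SylIn.of_not_dvd le_top (d.syl.pg.map _) ?_
      rw [relIndex_top_right, index_map_of_injective _ SemidirectProduct.inl_injective,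
        SemidirectProduct.range_inl_eq_ker_rightHom, index_ker,
        MonoidHom.range_eq_top.2 SemidirectProduct.rightHom_surjective, card_top, (Fact.out : p.Prime).dvd_mul, not_or,
        ← relIndex_top_right]
      exact ⟨d.syl.not_dvd_relIndex, h3⟩,
    let ⟨z, hz, z', hz', g, g', x, y, e, e', c⟩ := d.nc
    ⟨z, hz, z', hz', .inl g, .inl g', x, y, by simp only [φ, MonoidHom.comp_apply, ← map_inv, ← map_mul, e],
      by simp only [φ, MonoidHom.comp_apply, ← map_inv, ← map_mul, e'], c⟩⟩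
    (fun g f q => let ⟨t, c, a, _, e⟩ := k g f q; ⟨t, c, a, e⟩) s3 es
  have top : ∀ f, Mor E ⊤ f ↔ Mor F ⊤ f := fun f => ⟨fun hf => by
    obtain ⟨g, -, q⟩ := r.real hf
    obtain ⟨t, c, -, m, e⟩ := k g f fun x => q x trivial
    exact (m.cj_comp (mem_top t)).congr fun x _ => e x, fun hf => by
    obtain ⟨t, c, a, m, q⟩ := h.top f hf
    obtain ⟨θ, hθ⟩ := d.aut c a
    obtain ⟨η, e1, e2⟩ := h5 θ ⟨c, a, m, hθ⟩
    refine ((r.mor' (f := c) le_rfl (mem_top (.inr ⟨η, e1⟩)) (fun _ _ => trivial)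
      fun x _ => ?_).cj_comp (mem_top t)).congr fun x _ => q x
    simp [φ, cj1, e2, hθ]⟩
  obtain ⟨E₁, f₁, i₁, s₁, t₁⟩ := std E n
  obtain ⟨F₁, f₂, i₂, s₂, t₂⟩ := std F h
  obtain rfl := s₁.eq s₂ fun g => (t₁ g).trans ((top g).trans (t₂ g).symm)
  exact (Rz.of_fiso ⟨_, _, φ, r⟩ i₁.symm).of_fiso i₂

end CF.FusG
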