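import Cfsg.Agent.FusG.NM2
import Cfsg.Agent.FusG.RZ0

/-! Fusion systems on a Sylow `p`-subgroup of `G₂(q)`: normalization. -/

set_option autoImplicit false
set_option linter.style.haveILetI false
set_option linter.unusedSimpArgs false
set_option linter.unusedSectionVars false

namespace CF.FusG

open Cfsg Cfsg.FusionSystem Subgroup CF.Fus CF.FusD CF.FusU Function Gu Matrix

namespace NM

open CH

variable {K : Type} [Field K] [Finite K] {x y u v w : Gu K} {p : ℕ} [Fact p.Prime] [CharP K p]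
  {E F : FusionSystem (⊤ : Subgroup (Gu K))} {f : Gu K → Gu K}

theorem map_Z4 (h : PIso f ⊤ ⊤) : ∀ x ∈ Z4 K, f x ∈ Z4 K := fun x hx => by
  have a : f x ∈ img f (Q1 K) := mem_img_of_mem hx.1
  have b : f x ∈ img f (Q2 K) := mem_img_of_mem hx.2
  rcases img_Q h with q | q <;> rw [q.1] at a <;> rw [q.2] at b
  exacts [⟨a, b⟩, ⟨b, a⟩]

theorem four (q : (2 : K) = 0) (h2 : Nat.card K ≠ 2) : ∃ a : K, a ≠ 0 ∧ a ≠ 1 := by
  by_contra c
  push Not at c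
  refine h2 (Nat.card_eq_two_iff.2 ⟨0, 1, zero_ne_one, Set.eq_univ_of_forall fun a => ?_⟩)
  by_cases a0 : a = 0
  exacts [.inl a0, .inr (c a a0)]

theorem cm4_3 (h3 : (3 : K) = 0) (hx : x ∈ Z4 K) (y : Gu K) : cm x y = ⟨0, 0, 0, 2 * y.a * x.b, 0, y.t * x.s⟩ := by
  ext <;> simp [cm_b, cm_c, cm_s, cm_z, hx.1, hx.2, h3, mul_comm, show (6 : K) = 0 by linear_combination 2 * h3]

section
variable (h : PIso f ⊤ ⊤) (h1 : ∀ x, (f x).a = x.a ∧ (f x).t = x.t)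
include h h1

theorem tv2 (q : (2 : K) = 0) (h2 : Nat.card K ≠ 2) (hx : x ∈ Z4 K) : (f x).b = x.b ∧ (f x).c = x.c := by
  obtain ⟨a, a0, a1⟩ := four q h2
  have k : ∀ t a : K, (f (cm (xt t) (xa a))).b = t * a ∧ (f (cm (xt t) (xa a))).c = t * a ^ 2 := fun t a => by
    simp [pc h, cm_b, cm_c, h1, q]
  obtain ⟨r, e⟩ : ∃ r, r * (a * (a - 1)) = x.c - x.b := ⟨_, div_mul_cancel₀ _ (mul_ne_zero a0 (sub_ne_zero.2 a1))⟩
  have m := map_Z2 (three q) h (x⁻¹ * (cm (xt (x.b - r * a)) (xa 1) * cm (xt r) (xa a))) ⟨by simp [hx.1],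
    by simp [hx.2], by simp [hx.1, cm_b], by simp [hx.1, cm_c]; linear_combination e⟩
  have b := m.2.2.1
  have c := m.2.2.2
  simp only [pi h, pm h, mul_b, mul_c, inv_a, inv_b, inv_c, k, h1, hx.1, cm_a] at b c
  exact ⟨by linear_combination -b, by linear_combination e - c⟩

theorem tv (h3 : (3 : K) ≠ 0) (h2 : Nat.card K ≠ 2) : (∀ x ∈ Z4 K, (f x).b = x.b) ∧ (∀ x ∈ Z3 K, (f x).c = x.c) ∧
    (∀ x ∈ Z2 K, (f x).s = x.s) ∧ ∀ x ∈ Z1 K, (f x).z = x.z := by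
  by_cases q : (2 : K) = 0
  · have m3 : ∀ x ∈ Z3 K, f x ∈ Z3 K := fun x hx =>
      of4 (map_Z4 h x (l34 hx)) ((tv2 h h1 q h2 (l34 hx)).1.trans hx.2.2)
    have es : ∀ x ∈ Z2 K, (f x).s = x.s := fun x hx => by
      rw [eq_s h (map_Z2 h3 h) (map_Z1 h3 h) hx (cm2 (xc_mem (x.s / 3)) (xa 1)) (by
        simp [cm_s3 (xc_mem _)]; field_simp), pc h, cm_s3 (m3 _ (xc_mem _)), (tv2 h h1 q h2 (l34 (xc_mem _))).2]
      simp [h1]; field_simp
    refine ⟨fun x hx => (tv2 h h1 q h2 hx).1, fun x hx => (tv2 h h1 q h2 (l34 hx)).2, es, fun x hx => ?_⟩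
    rw [Z1_ext hx (cm1 (xs_mem x.z) (xt 1)) (by simp [cm_z2 (xs_mem _)]), pc h, cm_z2 (map_Z2 h3 h _ (xs_mem _)),
      es _ (xs_mem _), cm_z2 (xs_mem _), (h1 _).2]
  · obtain ⟨α, β, τ, a0, -, e, eb, ec, es, ez⟩ := wts q h3 h
    obtain ⟨rfl, rfl⟩ := QB.eq_one_of (τ := τ) (β := 1) a0 fun s => by simpa [h1] using (e (xa s)).1.symm
    obtain rfl : β = 1 := by simpa [h1] using (e (xt 1)).2.symm
    exact ⟨by simpa using eb, by simpa using ec, by simpa using es, by simpa using ez⟩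

theorem tvS (h3 : (3 : K) = 0) (hx : x ∈ ZS K) : f x = x := by
  have h2 : (2 : K) ≠ 0 := fun q => three q h3
  have k : ∀ (t : K) y, f (cm (cm (xt t) (xa 1)) y) = ⟨0, 0, 0, 2 * y.a * t, 0, y.t * t⟩ := fun t y => by
    rw [pc h, cm4_3 h3 (map_Z4 h _ (cm4 ..)), pc h]
    simp [cm_b, cm_s, h1, h3]
  have e : x = cm (cm (xt (x.c / 2)) (xa 1)) (xa 1) * cm (cm (xt x.z) (xa 1)) (xt 1) := by
    rw [cm4_3 h3 (cm4 ..), cm4_3 h3 (cm4 ..)]
    ext <;> simp [cm_b, cm_s, hx.1, hx.2.1, hx.2.2.1, hx.2.2.2]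
    field_simp
  conv_lhs => rw [e, pm h, k, k]
  ext <;> simp [hx.1, hx.2.1, hx.2.2.1, hx.2.2.2]
  field_simp

theorem tv3 (h3 : (3 : K) = 0) (hx : x ∈ Z4 K) : (f x).b = x.b ∧ (f x).s = x.s := by
  have h2 : (2 : K) ≠ 0 := fun q => three q h3
  have k : ∀ y, cm (f x) (f y) = cm x y := fun y => by
    rw [← pc h, tvS h h1 h3 (by rw [cm4_3 h3 hx]; exact ⟨rfl, rfl, rfl, rfl⟩)]
  exact ⟨by simpa [cm4_3 h3 hx, cm4_3 h3 (map_Z4 h x hx), h1, h2] using congrArg Gu.c (k (xa 1)),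
    by simpa [cm4_3 h3 hx, cm4_3 h3 (map_Z4 h x hx), h1] using congrArg Gu.z (k (xt 1))⟩

theorem tvb (h2 : Nat.card K ≠ 2) (hx : x ∈ Z4 K) : (f x).b = x.b := by
  by_cases h3 : (3 : K) = 0
  exacts [(tv3 h h1 h3 hx).1, (tv h h1 h3 h2).1 x hx]

end

/-- automorphisms which are trivial modulo the derived subgroup -/
abbrev Tr (K : Type) [Field K] : Subgroup (MulAut (⊤ : Subgroup (Gu K))) := trivOn ⊤ ⊤ (Z4 K)

theorem mem_Tr {φ : MulAut (⊤ : Subgroup (Gu K))} : φ ∈ Tr K ↔ ∀ x, (fn φ x).a = x.a ∧ (fn φ x).t = x.t :=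
  ⟨fun h x => by simpa [mem_Z4, add_eq_zero_iff_eq_neg'] using h.2 x trivial trivial, fun h =>
    ⟨mem_stab_of_maps le_top (map_Z4 (piso_fn φ)), fun x _ _ => by simp [mem_Z4, h]⟩⟩

theorem pg_Tr (h2 : Nat.card K ≠ 2) : IsPGroup p (Tr K) := by
  refine isPGroup_of_coprime fun φ hφ c => aut_ext fun x hx => Eq.trans ?_ (fn_one x).symm
  have h := piso_fn φ
  have h1 := mem_Tr.1 hφ
  by_cases h3 : (3 : K) = 0
  · refine fix_of_chain pg c (fun j => match j with | 0 => ZS K | 1 => Z4 K | _ => ⊤)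
      (fun x _ => tvS h h1 h3) 2 (fun j hj => ?_) x hx trivial
    interval_cases j
    exacts [fun x _ m => have k := mul_mem (inv_mem m) (map_Z4 h x m)
      ⟨k.1, k.2, by simp [m.1, tv3 h h1 h3 m], by simp [m.1, tv3 h h1 h3 m]⟩, hφ.2]
  · obtain ⟨eb, ec, es, ez⟩ := tv h h1 h3 h2
    refine fix_of_chain pg c (fun j => match j with | 0 => Z1 K | 1 => Z2 K | 2 => Z3 K | 3 => Z4 K | _ => ⊤)
      (fun x _ m => Z1_ext (map_Z1 h3 h x m) m (ez x m)) 4 (fun j hj => ?_) x hx trivial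
    interval_cases j
    exacts [fun x _ m => of2 (mul_mem (inv_mem m) (map_Z2 h3 h x m)) (by simp [m.1, es x m]),
      fun x _ m => of3 (mul_mem (inv_mem m) (of4 (map_Z4 h x (l34 m)) ((eb x (l34 m)).trans m.2.2)))
        (by simp [m.1, ec x m]),
      fun x _ m => of4 (mul_mem (inv_mem m) (map_Z4 h x m)) (by simp [m.1, eb x m]), hφ.2]

/-- the monoid of diagonal, field and graph automorphisms -/
def Dm (K : Type) [Field K] [Finite K] : Submonoid (MulAut (⊤ : Subgroup (Gu K))) where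
  carrier := {φ | Dh (fn φ)}
  one_mem' := ⟨1, 1, 1, one_ne_zero, one_ne_zero, .inl fun x => by rw [fn_one, dg_one]⟩
  mul_mem' := fun {φ ψ} a b => show Dh _ from funext (fn_mul φ ψ) ▸ RZ.comp a b

/-- the same as a group -/
def Dg (K : Type) [Field K] [Finite K] : Subgroup (MulAut (⊤ : Subgroup (Gu K))) :=
  { Dm K with
    inv_mem' := fun {θ} h => Submonoid.powers_le.2 h (mem_powers_iff_mem_zpowers.2 (inv_mem (mem_zpowers θ))) }

theorem exists_dh (h : PIso f ⊤ ⊤) (s : ∀ φ : MulAut (Q2 K), (∀ x ∈ Q2 K, fn φ x = f x) → φ ∈ stab (Q2 K) (Z3 K)) :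
    ∃ d, Dh d ∧ ∀ x, (f x).a = (d x).a ∧ (f x).t = (d x).t := by
  have k : ∀ {f : Gu K → Gu K}, PIso f ⊤ ⊤ → (∀ x ∈ Q1 K, f x ∈ Q1 K) → (∀ x ∈ Q2 K, f x ∈ Q2 K) →
      (∀ φ : MulAut (Q2 K), (∀ x ∈ Q2 K, fn φ x = f x) → φ ∈ stab (Q2 K) (Z3 K)) →
      ∃ (α β : K) (τ : K ≃+* K), α ≠ 0 ∧ β ≠ 0 ∧ ∀ x, (f x).a = α * τ x.a ∧ (f x).t = β * τ x.t := fun h a b s =>
    let ⟨φ, e⟩ := (piso_of h b).exists_aut
    exists_dg h a b fun x hx => e x hx.2.1 ▸ stab_maps (s φ e) hx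
  have k' : (∀ x ∈ Q1 K, f x ∈ Q1 K) → (∀ x ∈ Q2 K, f x ∈ Q2 K) →
      ∃ d, Dh d ∧ ∀ x, (f x).a = (d x).a ∧ (f x).t = (d x).t := fun a b =>
    let ⟨_, _, _, a0, b0, e⟩ := k h a b s
    ⟨_, RZ.dh_dg a0 b0, e⟩
  by_cases h3 : (3 : K) = 0
  · refine (map_Q3 h3 h).elim (fun a => k' a.1 a.2) fun a => ?_
    have i := piso_gr h3
    obtain ⟨α, β, τ, a0, b0, e⟩ := k (i.symm.trans h)
      (fun y hy => a.2 _ ((congrArg Gu.a (i.apply_pinv (mem_top y))).trans hy))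
      (fun y hy => a.1 _ (pow_eq_zero_iff three_ne_zero |>.1 ((congrArg Gu.t (i.apply_pinv (mem_top y))).trans hy)))
      fun φ _ => s3_odd (fun q => three q h3) φ
    exact ⟨fun x => dg α β τ (gr x), ⟨α, β, τ, a0, b0, .inr ⟨h3, fun _ => rfl⟩⟩, fun x => by
      simpa [i.pinv_apply (mem_top x)] using e (gr x)⟩
  · exact k' (map_Q1 h3 h) (map_Q2 h3 h)

theorem nm_of (hF : Sat F p) (es : Es F p) (e1 : F.IsEssential p (Q1 K)) (e2 : F.IsEssential p (Q2 K))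
    (h2 : Nat.card K ≠ 2) (s3 : F.autGroup (Q2 K) ≤ stab (Q2 K) (Z3 K)) :
    ∃ (E : FusionSystem (⊤ : Subgroup (Gu K))) (f : Gu K → Gu K), FIso F f E ∧ Nm E p := by
  obtain ⟨H, a1, -, a2, a3⟩ := CF.Solv.exists_complement_of_coprime (Inn_le_autGroup F le_rfl) (Inn_norm _)
    (CF.Coprime.coprime_card_of_isPGroup (isPGroup_Inn hF.pg) hF.syl_top.coprime_relIndex).symm
  haveI := (pg_Tr (p := p) h2).isNilpotent
  obtain ⟨k, k1, hk⟩ := CF.Coprime.exists_conj_mem_of_mul H (Tr K) (fun φ _ => le_norm_trivOn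
    ⟨fun _ => Iff.rfl, mem_stab_of_maps le_top (map_Z4 (piso_fn φ))⟩)
    (CF.Coprime.coprime_card_of_isPGroup (pg_Tr h2) (a3 ▸ hF.syl_top.coprime_relIndex)) (.inr inferInstance)
    (Dg K) fun φ hφ => by
      obtain ⟨d, d1, e⟩ := exists_dh (piso_fn φ) fun ψ e => s3 (((mor_fn le_rfl (a1 hφ)).mono le_top).aut_mem' e)
      obtain ⟨ψ, e'⟩ := (RZ.piso d1).exists_aut
      refine ⟨φ * ψ⁻¹, mem_Tr.2 fun x => ?_, ?_⟩
      · rw [fn_mul, (e _).1, (e _).2, ← e' _ trivial, fn_fn_inv]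
        exact ⟨rfl, rfl⟩
      · rw [_root_.mul_inv_rev, inv_inv, inv_mul_cancel_right]
        exact show Dh _ from funext (e' · trivial) ▸ d1
  obtain ⟨E, i⟩ := exists_fiso F (piso_fn k⁻¹)
  have t1 := mem_Tr.1 (inv_mem k1)
  have m1 : ∀ x ∈ Q1 K, fn k⁻¹ x ∈ Q1 K := fun x hx => (t1 x).1.trans hx
  have m2 : ∀ x ∈ Q2 K, fn k⁻¹ x ∈ Q2 K := fun x hx => (t1 x).2.trans hx
  have m3 : ∀ x ∈ Z3 K, fn k⁻¹ x ∈ Z3 K := fun x hx =>
    ⟨m1 x hx.1, m2 x hx.2.1, (tvb i.piso t1 h2 (l34 hx)).trans hx.2.2⟩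
  refine ⟨E, _, i, i.sat' hF, es_fiso hF i es, (piso_of i.piso m1).img_eq ▸ i.ess hF e1,
    (piso_of i.piso m2).img_eq ▸ i.ess hF e2, fun f hf => ?_,
    s3_fiso i m2 (l34.trans l42) s3 m3 fun y hy => (piso_of i.piso m3).surj hy⟩
  obtain ⟨g, g1, g2⟩ := i.pull le_rfl (f' := f) (by rwa [i.img_eq])
  obtain ⟨φ, hφ, e⟩ := g1.iso_top.exists_aut
  obtain ⟨_, c1, ψ, c2, rfl⟩ := (mem_sup_of_norm' (Inn_norm H)).1 (a2.ge hφ)
  obtain ⟨t, -, rfl⟩ := mem_Inn.1 c1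
  refine ⟨fn k⁻¹ t, _, hk ψ c2, (i.symm' fun x _ => fn_fn_inv k x).mor_of le_rfl (fun _ _ => trivial)
    ((mor_fn le_rfl (a1 c2)).mono le_top) fun x _ => by rw [fn_mul, fn_mul, fn_fn_inv], fun x => ?_⟩
  rw [← fn_inv_fn k x, g2 _ trivial, ← e _ trivial, fn_mul, fn_cA (le_normalizer (mem_top t)) trivial,
    (mulOn_fn k⁻¹).map_conj trivial trivial, fn_mul, fn_mul, fn_fn_inv]

end NM

variable {K : Type} [Field K] [Finite K] {p : ℕ} [Fact p.Prime] [CharP K p]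
  {E F : FusionSystem (⊤ : Subgroup (Gu K))}

theorem exists_nm (hF : Sat F p) (es : Es F p) (e1 : F.IsEssential p (Q1 K)) (e2 : F.IsEssential p (Q2 K))
    (h2 : Nat.card K ≠ 2) : ∃ (E : FusionSystem (⊤ : Subgroup (Gu K))) (f : Gu K → Gu K), FIso F f E ∧ Nm E p := by
  obtain ⟨E, f, i, m1, m2, s3⟩ := NM.exists_s3 hF h2
  obtain ⟨D, g, j, n⟩ := NM.nm_of (i.sat' hF) (es_fiso hF i es) ((CH.piso_of i.piso m1).img_eq ▸ i.ess hF e1)
    ((CH.piso_of i.piso m2).img_eq ▸ i.ess hF e2) h2 s3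
  exact ⟨D, _, i.trans j, n⟩

end CF.FusG
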