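import Cfsg.Agent.FusG.C5a
import Cfsg.Agent.FusG.E5
import Cfsg.Agent.FusG.NM

/-! The saturated fusion systems on a Sylow `5`-subgroup of `G₂(5)`. -/

set_option autoImplicit false
set_option linter.style.haveILetI false
set_option linter.unusedSimpArgs false

namespace CF.FusG

open Cfsg Cfsg.FusionSystem Subgroup CF.Fus CF.FusD CF.FusU Function Gu Matrix

namespace C5

variable {F : FusionSystem (⊤ : Subgroup (Gu K5))}

theorem nm5 (hF : Sat F 5) (h : Na F) :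
    ∃ (E : FusionSystem (⊤ : Subgroup (Gu K5))) (f : Gu K5 → Gu K5), FIso F f E ∧ Nm E 5 ∧ Na E := by
  have es := es5 h2 h3 (by rw [c5]; norm_num) hF
  obtain ⟨e1, e2⟩ := both hF es h
  obtain ⟨E, f, i, n⟩ := exists_nm hF es e1 e2 (by rw [c5]; norm_num)
  exact ⟨E, f, i, n, na_fiso h3 i h⟩

theorem nn_lr (hF : Sat F 5) (h : Na F) (lr : Lr F) : nn F = 480 * 625 := by
  obtain ⟨E, f, i, n, na⟩ := nm5 hF h
  obtain ⟨a, p⟩ := ty n na
  have k := fun γ => no_j n a (lr_pull i.symm lr) (γ := γ)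
  rw [← nn_fiso h3 i]
  rcases p with p | p | p | p | p
  · exact p.2.2
  · exact absurd (k j3 (p.1 ▸ mem_sup_right (subset_closure (Set.mem_insert_of_mem _ rfl))) rfl).2 (by decide)
  · exact absurd (k jf (p.1 ▸ mem_sup_right (subset_closure rfl)) rfl).1 (by decide)
  · exact absurd (k jf (p.1 ▸ mem_sup_right (subset_closure rfl)) rfl).1 (by decide)
  · exact absurd (k j3 (p.1 ▸ mem_sup_right (subset_closure (Set.mem_insert _ _))) rfl).2 (by decide)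

end C5

open C5

variable {E F : FusionSystem (⊤ : Subgroup (Gu (ZMod 5)))}

theorem uq5 (hE : Sat E 5) (hE' : Na E) (hF : Sat F 5) (hF' : Na F) (e : nn E = nn F) : ∃ f, FIso F f E := by
  obtain ⟨E', f, i, n, na⟩ := nm5 hE hE'
  obtain ⟨F', g, j, m, ma⟩ := nm5 hF hF'
  obtain rfl := eq5 n na m ma (by rw [nn_fiso h3 i, nn_fiso h3 j, e])
  exact ⟨_, j.trans i.symm⟩

theorem wG5 : ∃ ι : Gu (ZMod 5) →* Lie.G2 (ZMod 5), Gs 5 ι ∧ ∀ E, Real E 5 ι ⊤ → nn E = 480 * 625 := by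
  obtain ⟨ι, g, k⟩ := sy5
  obtain ⟨E₀, r, na⟩ := g.real
  refine ⟨ι, g, fun E r' => ?_⟩
  rw [← nn_lr r.sat na (k _ r), nn, nn, le_antisymm (le_real (j := .id _) r' r _) (le_real (j := .id _) r r' _)]

theorem cls5 (hF : Sat F 5) (h : Na F) : nn F = 480 * 625 ∧ (∀ z ∈ Z1 _, ∀ x ∈ Z4 _, Cj F z x → x ∈ Z2 _) ∨
    nn F = 2880 * 625 ∨ nn F = 640 * 625 ∧ Nat.card (F.autGroup ⊤) = 8 * 5 ^ 5 ∨ nn F = 1280 * 625 ∨
      nn F = 7680 * 625 := by
  obtain ⟨E, f, i, n, na⟩ := nm5 hF h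
  obtain ⟨a, p⟩ := ty n na
  rw [nn_fiso h3 i] at p
  rcases p with p | p | p | p | p
  · obtain ⟨ι, g, k⟩ := sy5
    obtain ⟨E₀, r, na₀⟩ := g.real
    obtain ⟨f, j⟩ := uq5 r.sat na₀ hF h ((nn_lr r.sat na₀ (k _ r)).trans p.2.2.symm)
    exact .inl ⟨p.2.2, lr_pull j (k _ r)⟩
  · exact .inr (.inl p.2.2)
  · exact .inr (.inr (.inl ⟨p.2.2, (i.piso_autGroup le_rfl i.piso).card_eq.trans (card_top5 n a p.2.1)⟩))
  · exact .inr (.inr (.inr (.inl p.2.2)))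
  · exact .inr (.inr (.inr (.inr p.2.2)))

end CF.FusG
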