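import Cfsg.Agent.FusG.B

/-! The linear group: the stabilizer of the highest weight line. -/

set_option autoImplicit false
set_option linter.style.haveILetI false
set_option linter.unusedSimpArgs false

namespace CF.FusG

open Subgroup CF.Fus Function Matrix

namespace LA

section
variable {K : Type} [Field K] {g k : GL (Fin 4) K} {μ ν l : K} {v w : Fin 4 → K}

theorem u_smul (a : K) (v : Fin 4 → K) : uG a • v =
    ![v 0, v 1 + a * v 0, v 2 + 2 * a * v 1 + a ^ 2 * v 0, v 3 + 3 * a * v 2 + 3 * a ^ 2 * v 1 + a ^ 3 * v 0] :=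
  uM_mulVec a v
theorem d_smul (α β : Kˣ) (v : Fin 4 → K) :
    dG α β • v = ![β * v 0, α * β * v 1, α ^ 2 * β * v 2, α ^ 3 * β * v 3] := dM_mulVec _ _ v
theorem w_smul (v : Fin 4 → K) : wG K • v = ![v 3, -v 2, v 1, -v 0] := wM_mulVec v
theorem sm (g : GL (Fin 4) K) (c : K) (v : Fin 4 → K) : g • c • v = c • g • v := mulVec_smul _ _ _
theorem vext (h0 : v 0 = w 0) (h1 : v 1 = w 1) (h2 : v 2 = w 2) (h3 : v 3 = w 3) : v = w := by
  ext i; fin_cases i; exacts [h0, h1, h2, h3]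
theorem gext (h : ∀ v : Fin 4 → K, g • v = k • v) : g = k := Units.ext (mulVec_injective (funext h))
theorem uG_mul (a b : K) : uG a * uG b = uG (a + b) := Units.ext (uM_mul a b)
theorem uG_zero : uG (0 : K) = 1 := Units.ext uM_zero
theorem dG_mul (α β γ δ : Kˣ) : dG α β * dG γ δ = dG (α * γ) (β * δ) := Units.ext (dM_mul ..)
theorem dG_one : dG (1 : Kˣ) 1 = 1 := Units.ext dM_one
theorem d_u (α β : Kˣ) (a : K) : dG α β * uG a = uG (α * a) * dG α β :=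
  gext fun v => by rw [mul_smul, mul_smul]; apply vext <;> simp [u_smul, d_smul] <;> ring
theorem d_one (β : Kˣ) (v : Fin 4 → K) : dG 1 β • v = (β : K) • v := by apply vext <;> simp [d_smul]

/-- the multiplier -/
def Mu (g : GL (Fin 4) K) (μ : K) : Prop := ∀ v w : Fin 4 → K, om (g • v) (g • w) = μ * om v w

theorem Mu.mul (a : Mu g μ) (b : Mu k ν) : Mu (g * k) (μ * ν) := fun v w => by
  rw [mul_smul, mul_smul, a, b, mul_assoc]
theorem Mu.uniq (a : Mu g μ) (b : Mu g ν) : μ = ν := by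
  simpa [om] using (a ![0, 0, 0, 1] ![1, 0, 0, 0]).symm.trans (b _ _)
theorem Mu.ne (a : Mu g μ) : μ ≠ 0 := by
  rintro rfl
  have := a (g⁻¹ • ![0, 0, 0, 1]) (g⁻¹ • ![1, 0, 0, 0])
  rw [smul_inv_smul, smul_inv_smul] at this
  simp [om] at this
theorem Mu.inv (a : Mu g μ) : Mu g⁻¹ μ⁻¹ := fun v w => by
  rw [eq_inv_mul_iff_mul_eq₀ a.ne, ← a, smul_inv_smul, smul_inv_smul]
theorem Mu.conj (a : Mu g μ) (b : Mu k ν) : Mu (g⁻¹ * k * g) ν := by
  have := (a.inv.mul b).mul a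
  rwa [mul_right_comm, inv_mul_cancel₀ a.ne, one_mul] at this
theorem mu_u (a : K) : Mu (uG a) 1 := fun v w => by simp [u_smul, om]; ring
theorem mu_d (α β : Kˣ) : Mu (dG α β) (α ^ 3 * β ^ 2) := fun v w => by simp [d_smul, om]; ring
theorem mu_ud (a : K) (α β : Kˣ) : Mu (uG a * dG α β) (α ^ 3 * β ^ 2) := by
  simpa using (mu_u a).mul (mu_d α β)
theorem tr_ud (a : K) (α β : Kˣ) : (uG a * dG α β).1.trace = β * (1 + α + α ^ 2 + α ^ 3) := by
  simp [trace, uM, dM, Fin.sum_univ_four, Matrix.mul_apply]; ring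
theorem tr_d (α β : Kˣ) : (dG α β).1.trace = β * (1 + α + α ^ 2 + α ^ 3) := by
  rw [← tr_ud 0, uG_zero, one_mul]
theorem tr_conj (g k : GL (Fin 4) K) : (g⁻¹ * k * g).1.trace = k.1.trace := by
  rw [Units.val_mul, trace_mul_comm, ← Units.val_mul, ← mul_assoc, mul_inv_cancel, one_mul]
theorem ud_e4 (a : K) (α β : Kˣ) (s : K) :
    (uG a * dG α β) • (![0, 0, 0, s] : Fin 4 → K) = ![0, 0, 0, α ^ 3 * β * s] := by
  simp [mul_smul, u_smul, d_smul]
theorem ud_norm (a : K) (α β : Kˣ) : uG a * dG α β ∈ normalizer (PU K : Set (GL (Fin 4) K)) := by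
  refine mul_mem (le_normalizer (H := PU K) ⟨a, rfl⟩) (mem_normalizer_iff.2 fun x => ⟨?_, ?_⟩)
  · rintro ⟨b, rfl⟩
    exact ⟨_, by rw [d_u, mul_inv_cancel_right]⟩
  · rintro ⟨b, e⟩
    exact ⟨(α⁻¹ : Kˣ) * b, by
      rw [mul_inv_eq_iff_eq_mul, ← eq_inv_mul_iff_mul_eq] at e
      rw [e, inv_mul_eq_iff_eq_mul, d_u, α.mul_inv_cancel_left]⟩

/-- the standard flag -/
def Fl (K : Type) [Field K] (m : ℕ) : Submodule K (Fin 4 → K) where
  carrier := {v | (0 < m → v 0 = 0) ∧ (1 < m → v 1 = 0) ∧ (2 < m → v 2 = 0) ∧ (3 < m → v 3 = 0)}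
  add_mem' := fun a b => ⟨fun h => by simp [a.1 h, b.1 h], fun h => by simp [a.2.1 h, b.2.1 h],
    fun h => by simp [a.2.2.1 h, b.2.2.1 h], fun h => by simp [a.2.2.2 h, b.2.2.2 h]⟩
  zero_mem' := by simp
  smul_mem' := fun c _ a => ⟨fun h => by simp [a.1 h], fun h => by simp [a.2.1 h],
    fun h => by simp [a.2.2.1 h], fun h => by simp [a.2.2.2 h]⟩

theorem mem_Fl {m : ℕ} : v ∈ Fl K m ↔
    (0 < m → v 0 = 0) ∧ (1 < m → v 1 = 0) ∧ (2 < m → v 2 = 0) ∧ (3 < m → v 3 = 0) := Iff.rfl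

theorem Fl_u (a : K) (m : ℕ) (h : v ∈ Fl K m) : uG a • v - v ∈ Fl K (m + 1) :=
  ⟨fun _ => by simp [u_smul], fun c => by simp [u_smul, h.1 (by omega)],
    fun c => by simp [u_smul, h.1 (by omega), h.2.1 (by omega)],
    fun c => by simp [u_smul, h.1 (by omega), h.2.1 (by omega), h.2.2.1 (by omega)]⟩

theorem Fl_anti {m n : ℕ} (h : m ≤ n) : Fl K n ≤ Fl K m := fun _ a =>
  ⟨fun c => a.1 (by omega), fun c => a.2.1 (by omega), fun c => a.2.2.1 (by omega), fun c => a.2.2.2 (by omega)⟩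

theorem Fl_zero {m : ℕ} (c : 3 < m) (h : v ∈ Fl K m) : v = 0 :=
  vext (h.1 (by omega)) (h.2.1 (by omega)) (h.2.2.1 (by omega)) (h.2.2.2 c)

theorem ne_zero (e : g • (![0, 0, 0, 1] : Fin 4 → K) = ![0, 0, 0, l]) : l ≠ 0 := by
  rintro rfl
  have : g • (![0, 0, 0, 1] : Fin 4 → K) = g • 0 := by rw [e, smul_zero]; apply vext <;> rfl
  simpa using congrFun (MulAction.injective g this) 3

theorem Fl_st (a : Mu g μ) (e : g • (![0, 0, 0, 1] : Fin 4 → K) = ![0, 0, 0, l]) {m : ℕ} (c : m ≠ 2)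
    (h : v ∈ Fl K m) : g • v ∈ Fl K m := by
  obtain rfl | rfl | rfl | c : m = 0 ∨ m = 1 ∨ m = 3 ∨ 3 < m := by omega
  · simp [mem_Fl]
  · have := a v ![0, 0, 0, 1]
    rw [e] at this
    simpa [mem_Fl, om, h.1, ne_zero e] using this
  · rw [show v = v 3 • ![0, 0, 0, 1] from vext (by simp [h.1]) (by simp [h.2.1]) (by simp [h.2.2.1]) (by simp), sm, e]
    simp [mem_Fl]
  · rw [Fl_zero c h, smul_zero]
    exact zero_mem _

end

variable {K : Type} [Field K] [Finite K] {p : ℕ} [Fact p.Prime] [CharP K p] {Γ : Subgroup (GL (Fin 4) K)}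
  {g : GL (Fin 4) K} {l : K}

theorem exists_pow_inv (g : GL (Fin 4) K) : ∃ n : ℕ, g ^ n = g⁻¹ :=
  mem_powers_iff_mem_zpowers.2 (inv_mem (mem_zpowers g))

theorem inv_st {U : Submodule K (Fin 4 → K)} (h : ∀ v ∈ U, g • v ∈ U) : ∀ v ∈ U, g⁻¹ • v ∈ U := by
  obtain ⟨n, e⟩ := exists_pow_inv g
  rw [← e]
  clear e
  induction n with
  | zero => simp
  | succ n ih => exact fun v hv => by rw [pow_succ, mul_smul]; exact ih _ (h v hv)

theorem chain (h : Lg p Γ) (U : ℕ → Submodule K (Fin 4 → K)) (h0 : ∀ v, v ∈ U 0) (h4 : ∀ v ∈ U 4, v = 0)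
    (anti : ∀ k, U (k + 1) ≤ U k) (hP : ∀ (a : K) k, ∀ v ∈ U k, uG a • v - v ∈ U (k + 1)) (hg : g ∈ Γ)
    (st : ∀ k, ∀ v ∈ U k, g • v ∈ U k) : ∃ a α β, g = uG a * dG α β := by
  have s : ∀ x : GL (Fin 4) K, (∀ k, ∀ v ∈ U k, x • v - v ∈ U (k + 1)) → ∀ k, ∀ v ∈ U k, x • v ∈ U k :=
    fun x hx k v hv => by simpa using add_mem (anti k (hx k v hv)) hv
  let R : Subgroup (GL (Fin 4) K) :=
    { carrier := {x | x ∈ Γ ∧ ∀ k, ∀ v ∈ U k, x • v - v ∈ U (k + 1)}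
      one_mem' := ⟨one_mem _, by simp⟩
      mul_mem' := fun {x y} a b => ⟨mul_mem a.1 b.1, fun k v hv => by
        simpa [mul_smul] using add_mem (a.2 k _ (s y b.2 k v hv)) (b.2 k v hv)⟩
      inv_mem' := fun {x} a => ⟨inv_mem a.1, fun k v hv => by
        simpa using neg_mem (a.2 k _ (inv_st (s x a.2 k) v hv))⟩ }
  have e : R = PU K := h.syl.max R (by rintro _ ⟨a, rfl⟩; exact ⟨h.syl.le ⟨a, rfl⟩, hP a⟩) (fun _ a => a.1)
    fun ⟨x, hx⟩ => ⟨2, Subtype.ext (Units.ext (by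
      have a : ∀ k v, (x.1 - 1) ^ k *ᵥ v ∈ U k := fun k v => by
        induction k with
        | zero => exact h0 _
        | succ k ih =>
          rw [pow_succ', ← mulVec_mulVec, sub_mulVec, one_mulVec]
          exact hx.2 k _ ih
      have b : (x.1 - 1) ^ 4 = 0 := mulVec_injective (funext fun v => (h4 _ (a 4 v)).trans (zero_mulVec v).symm)
      have c := pow_eq_zero_of_le (Nat.pow_le_pow_left (Fact.out : p.Prime).two_le 2) b
      rw [sub_pow_char_pow_of_commute _ _ (Commute.one_right _), one_pow, sub_eq_zero] at c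
      simpa using c))⟩
  refine h.nrm g hg (e ▸ mem_normalizer_fintype fun x a => ⟨mul_mem (mul_mem hg a.1) (inv_mem hg), fun k v hv => ?_⟩)
  simpa [mul_smul, smul_sub] using st _ _ (a.2 k _ (inv_st (st k) v hv))

omit [Finite K] [Fact p.Prime] [CharP K p] in
theorem mu (h : Lg p Γ) (hg : g ∈ Γ) : ∃ μ, Mu g μ := (h.sim g hg).imp fun _ a => a.1

theorem flag (h : Lg p Γ) (hg : g ∈ Γ) (e : g • (![0, 0, 0, 1] : Fin 4 → K) = ![0, 0, 0, l])
    (e' : (g • (![0, 0, 1, 0] : Fin 4 → K)) 1 = 0) : ∃ a α β, g = uG a * dG α β := by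
  obtain ⟨μ, m⟩ := mu h hg
  refine chain h (Fl K) (by simp [mem_Fl]) (fun _ => Fl_zero (by omega)) (fun k => Fl_anti (by omega))
    (fun a k v => Fl_u a k) hg fun k v hv => ?_
  by_cases c : k = 2
  · subst c
    have := (Fl_st m e (m := 1) (v := ![0, 0, 1, 0]) (by omega) (by simp [mem_Fl])).1 (by omega)
    rw [show v = v 2 • ![0, 0, 1, 0] + v 3 • ![0, 0, 0, 1] from
      vext (by simp [hv.1]) (by simp [hv.2.1]) (by simp) (by simp), smul_add, sm, sm, e]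
    exact add_mem (Submodule.smul_mem _ _ (by simp [mem_Fl, this, e'])) (by simp [mem_Fl])
  · exact Fl_st m e c hv

omit [Fact p.Prime] [CharP K p] in
theorem exists_pow_ne {n : ℕ} (h0 : n ≠ 0) (h : n + 1 < Nat.card K) : ∃ α : Kˣ, α ^ n ≠ 1 := by
  obtain ⟨α, a⟩ := IsCyclic.exists_ofOrder_eq_natCard (α := Kˣ)
  rw [Nat.card_units] at a
  exact ⟨α, pow_ne_one_of_lt_orderOf h0 (by omega)⟩

end LA

open LA

variable {K : Type} [Field K] [Finite K] {p : ℕ} [Fact p.Prime] [CharP K p] {Γ : Subgroup (GL (Fin 4) K)}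

theorem Lg.st (h : Lg p Γ) (h3 : (3 : K) ≠ 0) (hq : (2 : K) = 0 ∨ 5 ≤ Nat.card K) {g : GL (Fin 4) K} (hg : g ∈ Γ)
    {l : K} (e : g.1 *ᵥ ![0, 0, 0, 1] = ![0, 0, 0, l]) : ∃ a α β, g = uG a * dG α β := by
  change g • (![0, 0, 0, 1] : Fin 4 → K) = _ at e
  obtain ⟨μ, m⟩ := mu h hg
  by_cases h2 : (2 : K) = 0
  · refine chain h (fun k => Fl K (if k ≤ 1 then k else k + 1)) (by simp [mem_Fl]) (fun _ => Fl_zero (by simp))
      (fun k => Fl_anti (by split_ifs <;> omega)) (fun a k v hv => ?_) hg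
      fun k v => Fl_st m e (by split_ifs <;> omega)
    by_cases c : k = 1
    · subst c
      simp [mem_Fl, u_smul, h2, hv.1, vecHead, vecTail]
    · exact Fl_anti (by split_ifs <;> omega) (Fl_u a _ hv)
  by_contra n
  obtain ⟨α, hα⟩ := exists_pow_ne (K := K) (n := 3) (by omega) (hq.resolve_left h2)
  have t := (Fl_st m e (m := 1) (v := ![0, 0, 1, 0]) (by omega) (by simp [mem_Fl])).1 (by omega)
  have b : (g • (![0, 0, 1, 0] : Fin 4 → K)) 1 ≠ 0 := fun c => n (flag h hg e c)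
  generalize hv : g • (![0, 0, 1, 0] : Fin 4 → K) = v at t b
  obtain ⟨k, hk, e1, s, e2⟩ : ∃ k ∈ Γ, k • (![0, 0, 0, 1] : Fin 4 → K) = ![0, 0, 0, l] ∧
      ∃ s, k • (![0, 0, 1, 0] : Fin 4 → K) = ![0, v 1, 0, s] :=
    ⟨uG (-v 2 / (2 * v 1)) * g, mul_mem (h.syl.le ⟨_, rfl⟩) hg, by simp [mul_smul, e, u_smul], _, by
      rw [mul_smul, hv, u_smul]
      exact vext t (by simp [t]) (by simp [t]; field_simp; ring) rfl⟩
  have l0 := ne_zero e1
  obtain ⟨ν, m⟩ := mu h hk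
  have f1 : (k⁻¹ * dG α 1 * k) • (![0, 0, 0, 1] : Fin 4 → K) = ![0, 0, 0, (α : K) ^ 3] := by
    rw [mul_smul, mul_smul, inv_smul_eq_iff, show (![0, 0, 0, α ^ 3] : Fin 4 → K) = (α ^ 3 : K) • ![0, 0, 0, 1] by simp,
      sm, e1, d_smul]
    simp
  have f2 : (k⁻¹ * dG α 1 * k) • (![0, 0, 1, 0] : Fin 4 → K) = ![0, 0, (α : K), (α ^ 3 - α) * s / l] := by
    rw [mul_smul, mul_smul, inv_smul_eq_iff, show (![0, 0, α, (α ^ 3 - α) * s / l] : Fin 4 → K) =
      (α : K) • ![0, 0, 1, 0] + ((α ^ 3 - α) * s / l : K) • ![0, 0, 0, 1] by simp, smul_add, sm, sm, e1, e2, d_smul]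
    apply vext <;> simp
    field_simp
    ring
  obtain ⟨a, γ, δ, e⟩ := flag h (mul_mem (mul_mem (inv_mem hk) (h.tor ⟨α, 1, rfl⟩)) hk) f1 (by simp [f2])
  have q1 := (m.conj (mu_d α 1)).uniq (e ▸ mu_ud a γ δ)
  have q2 := congrFun f1 3
  have q3 := congrFun f2 2
  rw [e] at q2 q3
  simp [mul_smul, u_smul, d_smul] at q1 q2 q3
  have d1 : (δ : K) = 1 := mul_left_cancel₀ (pow_ne_zero 3 α.ne_zero) (by linear_combination -δ * q2 - q1)
  rw [d1, mul_one] at q2 q3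
  refine hα (Units.ext (mul_left_cancel₀ (pow_ne_zero 3 α.ne_zero) ?_))
  simp only [Units.val_pow_eq_pow_val, Units.val_one]
  linear_combination -(α ^ 3 + γ ^ 3) * q2 + (γ ^ 4 + γ ^ 2 * α + α ^ 2) * q3

end CF.FusG
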