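import Cfsg.Agent.FusG.L5b
import Cfsg.Agent.FusG.LA1

/-! The five linear groups for `q = 5`. -/

set_option autoImplicit false

namespace CF.FusG

open Matrix

theorem lin5 {Γ : Subgroup (GL (Fin 4) (ZMod 5))} (h : Lg 5 Γ) : Γ = G5 {wG _} ∧ Nat.card Γ = 480 ∨ Γ = G5 {j3} ∨
    Γ = G5 {wG _, j3} ∧ Nat.card Γ = 2880 ∨ Γ = G5 {jf} ∧ Nat.card Γ = 1280 ∨
      Γ = G5 {j3, jf} ∧ Nat.card Γ = 7680 :=
  L5.core h fun _ hg _ e => h.st (by decide) (.inr (by simp)) hg e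

end CF.FusG
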