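import Cfsg.Agent.FusG.QB1

/-! Fusion systems on a Sylow `p`-subgroup of `G₂(q)`: the automizer of `Q2`. -/

set_option autoImplicit false
set_option linter.style.haveILetI false
set_option linter.unusedSimpArgs false
set_option linter.unusedSectionVars false

namespace CF.FusG

open Cfsg Cfsg.FusionSystem Subgroup CF.Fus CF.FusD CF.FusU Function Gu Matrix

namespace QB

variable {K : Type} [Field K] [Finite K] {α β γ μ : K} {φ : MulAut (Q2 K)}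

/-- the diagonal automorphisms -/
def Ht (P : Subgroup (Gu K)) : Subgroup (MulAut P) where
  carrier := {φ | ∃ α β, α ≠ 0 ∧ β ≠ 0 ∧ ∀ x ∈ P, fn φ x = dg α β 1 x}
  one_mem' := ⟨1, 1, one_ne_zero, one_ne_zero, fun x _ => by rw [fn_one, dg_one]⟩
  mul_mem' := by
    rintro φ ψ ⟨α, β, a0, b0, e⟩ ⟨γ, δ, c0, d0, e'⟩
    exact ⟨_, _, mul_ne_zero a0 c0, mul_ne_zero b0 d0, fun x hx => by
      rw [fn_mul, e _ (fn_mem ψ hx), e' x hx, dg_dg]; rfl⟩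
  inv_mem' := by
    rintro φ ⟨α, β, a0, b0, e⟩
    exact ⟨_, _, inv_ne_zero a0, inv_ne_zero b0, fun x hx => by
      rw [← dg_inv (τ := 1) a0 b0 (fn φ⁻¹ x), ← e _ (fn_mem _ hx), fn_fn_inv]; rfl⟩

theorem zero_of {a b : K} (h : a ≠ 1) (e : b = a * b) : b = 0 :=
  (mul_eq_zero.1 (show (a - 1) * b = 0 by linear_combination -e)).resolve_left (sub_ne_zero.2 h)

variable [h3 : NeZero (3 : K)]

theorem inv_zero (h2 : (2 : K) ≠ 0) {f : K → K} (e : ∀ μ ≠ 0, f μ = μ⁻¹ * f 1) (e0 : f 0 = 0)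
    (e2 : f 2 = 2 * f 1) (a : K) : f a = 0 := by
  have := (e 2 h2).symm.trans e2
  field_simp at this
  have k : f 1 = 0 := mul_left_cancel₀ h3.out (by linear_combination -this)
  by_cases a0 : a = 0
  · rw [a0, e0]
  · rw [e a a0, k, mul_zero]

theorem gen2 (m : φ ∈ M2 K) (e : ∀ x ∈ Q2 K, (fn φ x).a = x.a ∧ (fn φ x).b = x.b) (e1 : ∀ a, fn φ (xa a) = xa a)
    (e2 : ∀ b, fn φ (xb b) = xb b) (e3 : ∀ c, fn φ (xc c) = xc c) : φ = 1 := by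
  refine aut_ext fun x hx => ?_
  have q : (xb x.b * xc x.c)⁻¹ * x * (xa x.a)⁻¹ ∈ Z2 K := by simp [mem_Z2, mem_Q2.1 hx]
  rw [show x = xb x.b * xc x.c * ((xb x.b * xc x.c)⁻¹ * x * (xa x.a)⁻¹) * xa x.a by group,
    mulOn_fn φ (mul_mem (mul_mem rfl rfl) q.2.1) rfl, mulOn_fn φ (mul_mem rfl rfl) q.2.1, mulOn_fn φ rfl rfl, e1, e2, e3,
    fix_Z2 (triv_r2 m e) q, fn_one]

theorem centT (h4 : 4 ≤ Nat.card K) (m : φ ∈ M2 K) (e : ∀ x ∈ Q2 K, (fn φ x).a = x.a ∧ (fn φ x).b = x.b)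
    (c : ∀ α ≠ 0, ∀ β ≠ 0, ∀ x ∈ Q2 K, fn φ (dg α β 1 x) = dg α β 1 (fn φ x)) : φ = 1 := by
  obtain ⟨l, l0, l1, l2⟩ := ex_sq h4
  refine gen2 m e (fun a => ?_) (fun b => ?_) fun a => ?_
  · have := c 1 one_ne_zero l l0 (xa a) rfl
    rw [show dg 1 l 1 (xa a) = xa a by ext <;> simp] at this
    exact Gu.ext (e _ rfl).1 (fn_mem φ rfl) (e _ rfl).2 (zero_of l1 (by simpa using congrArg Gu.c this))
      (zero_of l1 (by simpa using congrArg Gu.s this)) (zero_of l2 (by simpa using congrArg Gu.z this))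
  · have := c l l0 _ (inv_ne_zero l0) (xb b) rfl
    rw [show dg l l⁻¹ 1 (xb b) = xb b by ext <;> simp [l0]] at this
    exact Gu.ext (e _ rfl).1 (fn_mem φ rfl) (e _ rfl).2
      (zero_of l1 ((congrArg Gu.c this).trans (by simp; field_simp; simp)))
      (zero_of l2 ((congrArg Gu.s this).trans (by simp; field_simp; simp)))
      (zero_of l1 ((congrArg Gu.z this).trans (by simp; field_simp; simp)))
  · have := c l l0 _ (inv_ne_zero (pow_ne_zero 2 l0)) (xc a) rfl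
    rw [show dg l (l ^ 2)⁻¹ 1 (xc a) = xc a by ext <;> simp [l0]] at this
    exact Gu.ext (e _ rfl).1 (fn_mem φ rfl) (e _ rfl).2 (M2_c m (xc_mem a))
      (zero_of l1 ((congrArg Gu.s this).trans (by simp; field_simp; simp)))
      (zero_of (inv_ne_one.2 l1) ((congrArg Gu.z this).trans (by simp; field_simp; simp)))

theorem centB (h2 : (2 : K) ≠ 0) (m : φ ∈ M2 K) (e : ∀ x ∈ Q2 K, (fn φ x).a = x.a ∧ (fn φ x).b = x.b)
    (c1 : ∀ x ∈ Q2 K, fn φ (dg 1 (-1) 1 x) = dg 1 (-1) 1 (fn φ x))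
    (c2 : ∀ x ∈ Q2 K, fn φ (dg (-1) (-1) 1 x) = dg (-1) (-1) 1 (fn φ x))
    (c : ∀ μ ≠ 0, ∀ x ∈ Q2 K, fn φ (dg μ⁻¹ (μ ^ 2) 1 x) = dg μ⁻¹ (μ ^ 2) 1 (fn φ x)) : φ = 1 := by
  have n : (-1 : K) ≠ 1 := fun k => h2 (by linear_combination -k)
  have o := (mulOn_fn φ).map_one
  have e1 : ∀ a, fn φ (xa a) = xa a := fun a => by
    have k : ∀ a, (fn φ (xa a)).c = 0 ∧ (fn φ (xa a)).s = 0 := fun a => by
      have := c1 (xa a) rfl
      rw [show dg 1 (-1) 1 (xa a) = xa a by ext <;> simp] at this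
      exact ⟨zero_of n (by simpa using congrArg Gu.c this), zero_of n (by simpa using congrArg Gu.s this)⟩
    refine Gu.ext (e _ rfl).1 (fn_mem φ rfl) (e _ rfl).2 (k a).1 (k a).2
      (inv_zero h2 (f := fun a => (fn φ (xa a)).z) (fun μ m0 => ?_) (congrArg Gu.z o) ?_ a)
    · have := congrArg Gu.z (c _ (inv_ne_zero m0) (xa 1) rfl)
      rw [show dg μ⁻¹⁻¹ (μ⁻¹ ^ 2) 1 (xa 1) = xa μ by ext <;> simp] at this
      exact this.trans (by simp; field_simp; simp)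
    · rw [show xa (2 : K) = xa 1 * xa 1 by ext <;> simp; norm_num, mulOn_fn φ rfl rfl]
      simp [k, e (xa 1) rfl, mem_Q2.1 (fn_mem φ (x := xa 1) rfl), two_mul]
  have e2 : ∀ a, fn φ (xb a) = xb a := fun a => by
    have k : ∀ a, (fn φ (xb a)).c = 0 ∧ (fn φ (xb a)).z = 0 := fun a => by
      have := c2 (xb a) rfl
      rw [show dg (-1) (-1) 1 (xb a) = xb a by ext <;> simp] at this
      exact ⟨zero_of n ((congrArg Gu.c this).trans (by simp)), zero_of n ((congrArg Gu.z this).trans (by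
        simp; ring))⟩
    refine Gu.ext (e _ rfl).1 (fn_mem φ rfl) (e _ rfl).2 (k a).1
      (inv_zero h2 (f := fun a => (fn φ (xb a)).s) (fun μ m0 => ?_) (congrArg Gu.s o) ?_ a) (k a).2
    · have := congrArg Gu.s (c _ m0 (xb 1) rfl)
      rw [show dg μ⁻¹ (μ ^ 2) 1 (xb 1) = xb μ by ext <;> simp; field_simp] at this
      exact this.trans (by simp; field_simp; simp)
    · rw [show xb (2 : K) = xb 1 * xb 1 by ext <;> simp; norm_num, mulOn_fn φ rfl rfl]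
      simp [e (xb 1) rfl, two_mul]
  refine gen2 m e e1 e2 fun a => ?_
  have q : (cm (xb (a / 2)) (xa 1))⁻¹ * xc a ∈ Z2 K := of3 (mul_mem (inv_mem (cm3 (xb_mem _) _)) (xc_mem a)) (by
    simp [cm_c]; field_simp; simp)
  rw [← mul_inv_cancel_left (cm (xb (a / 2)) (xa 1)) (xc a), mulOn_fn φ (cm_t _ _) q.2.1, fix_Z2 (triv_r2 m e) q,
    fn_cm φ rfl rfl, e1, e2]

theorem w2_M2 : w2 K ∈ M2 K :=
  mem_M2 (mem_stab_of_maps (l34.trans l42) fun x hx => by simp [fn_w2 hx.2.1, mem_Z3, hx.1, hx.2.2])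
    fun x hx => by simp [fn_w2 hx.2.1, hx.1]

theorem r2_w2 (v : K × K) : r2 (w2 K) v = (v.2, -v.1) := by
  rw [r2, AddMonoidHom.mk'_apply, fn_w2 (ez_mem v).2.1]; simp [p2, ez]

variable {p : ℕ} [Fact p.Prime] [CharP K p] {F : FusionSystem (⊤ : Subgroup (Gu K))}

theorem w2_mem (h : Nm F p) (h4 : 4 ≤ Nat.card K) (H : (2 : K) ≠ 0 ∧ Mor F ⊤ (dg 1 (-1) 1) ∨ Tor F) :
    w2 K ∈ F.autGroup (Q2 K) := by
  obtain ⟨m, m1, -, m3⟩ := bar h.sat h.s3 h.e2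
  have cj : ∀ {φ : MulAut (Q2 K)} {α β : K}, β ≠ 0 → (∀ x ∈ Q2 K, fn φ x = dg α β 1 x) →
      ∀ y ∈ Q2 K, fn (w2 K * φ * (w2 K)⁻¹) (W2 y) = dg (α * β) β⁻¹ 1 (W2 y) := fun b0 q y hy => by
    rw [← fn_w2 hy, fn_mul, fn_inv_fn, fn_mul, fn_w2 (fn_mem _ hy), q y hy, W2_dg b0, fn_w2 hy]
  obtain ⟨k, hk, e⟩ := lift (H := Ht (Q2 K) ⊓ F.autGroup (Q2 K) ⊓
      (F.autGroup (Q2 K)).comap (MulAut.conj (w2 K)).toMonoidHom) (fun _ h => h.1.1) (m := m) (n := w2 K)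
    fun φ ⟨⟨⟨α, β, a0, b0, q⟩, q1⟩, q2⟩ => ⟨w2 K * φ * (w2 K)⁻¹, inn2 h.sat h.s3 h4
      (mul_mem (mul_mem (mul_mem m1.1 q1) (inv_mem m1.1)) (inv_mem q2)) fun x hx => by
        obtain ⟨y, hy, rfl⟩ : ∃ y ∈ Q2 K, fn (w2 K * φ * (w2 K)⁻¹ * m) y = x := ⟨_, fn_mem _ hx, fn_fn_inv _ x⟩
        obtain ⟨u, hu, e⟩ := piso_W2.surj (fn_mem m hy)
        have e' := cj b0 q u hu
        rw [e] at e'
        rw [mul_assoc (m * φ), ← _root_.mul_inv_rev, fn_mul, fn_inv_fn, fn_mul, fn_mul, e',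
          (m3 _ (fn_mem _ hy)).1, (m3 _ (fn_mem _ hy)).2]
        simp only [m3 y hy, q y hy, dg_a, dg_b, RingAut.one_apply]
        exact ⟨trivial, by field_simp⟩, by simp⟩
  obtain ⟨t, ht, rfl⟩ := mem_Inn.1 hk
  have e1 : ∀ x ∈ Q2 K, (fn (cA (Q2 K) t * ((w2 K)⁻¹ * m)) x).a = x.a ∧
      (fn (cA (Q2 K) t * ((w2 K)⁻¹ * m)) x).b = x.b := fun x hx => by
    have a := fn_mem ((w2 K)⁻¹ * m) hx
    have b := fn_w2 a
    rw [← fn_mul, mul_inv_cancel_left] at b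
    have b1 := (m3 x hx).1.symm.trans (congrArg Gu.a b)
    have b2 := (m3 x hx).2.symm.trans (congrArg Gu.b b)
    rw [W2_b, neg_inj] at b2
    rw [fn_mul, fn_cA (nQ2 t) a]
    simp [b1, b2, mem_Q2.1 ht, mem_Q2.1 a]
  have e2 : cA (Q2 K) t * ((w2 K)⁻¹ * m) ∈ M2 K :=
    mul_mem ((pl2 h.sat).syl.le (cA_mem_autInducedBy trivial)).2 (mul_mem (inv_mem w2_M2) m1.2)
  have e3 : ∀ α ≠ 0, ∀ β ≠ 0, Mor F ⊤ (dg α β 1) → Mor F ⊤ (dg (α * β) β⁻¹ 1) → ∀ x ∈ Q2 K,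
      fn (cA (Q2 K) t * ((w2 K)⁻¹ * m)) (dg α β 1 x) = dg α β 1 (fn (cA (Q2 K) t * ((w2 K)⁻¹ * m)) x) :=
    fun α a0 β b0 c1 c2 x hx => by
      obtain ⟨φ, f1, q⟩ := aut_Q2 c1
      rw [← q x hx, ← e φ ⟨⟨⟨α, β, a0, b0, q⟩, f1⟩, (c2.mono le_top).aut_mem' fun y hy => by
        obtain ⟨u, hu, rfl⟩ := piso_W2.surj hy
        exact cj b0 q u hu⟩, q _ (fn_mem _ hx)]
  have : cA (Q2 K) t * ((w2 K)⁻¹ * m) = 1 := by
    rcases H with ⟨h2, H⟩ | H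
    · have n : (-1 : K) ≠ 0 := by simp
      have H' : Mor F ⊤ (dg (-1) (-1) 1) := by
        simpa [inv_neg] using mor_dg_mul (h.hb h3.out h4 n) H
      refine centB h2 e2 e1 (e3 _ one_ne_zero _ n H (by simpa [inv_neg] using H'))
        (e3 _ n _ n H' (by simpa [inv_neg] using H)) fun μ m0 => e3 _ (inv_ne_zero m0) _ (pow_ne_zero 2 m0)
          (h.hb h3.out h4 m0) ?_
      have := h.hb h3.out h4 (inv_ne_zero m0)
      rwa [inv_inv, inv_pow, show μ = μ⁻¹ * μ ^ 2 by field_simp, mul_pow, show μ⁻¹ ^ 2 * (μ ^ 2) ^ 2 = μ ^ 2 by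
        field_simp] at this
    · exact centT h4 e2 e1 fun α a0 β b0 => e3 α a0 β b0 (H α β a0 b0)
        (H _ _ (mul_ne_zero a0 b0) (inv_ne_zero b0))
  rw [show w2 K = m * cA (Q2 K) t by
    rw [← mul_one (w2 K), ← inv_mul_cancel (cA (Q2 K) t), ← mul_assoc, ← eq_inv_of_mul_eq_one_right this]; group]
  exact mul_mem m1.1 (Inn_le_autGroup F le_top hk)

end QB

open QB

variable {K : Type} [Field K] [Finite K] {p : ℕ} [Fact p.Prime] [CharP K p]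
  {F : FusionSystem (⊤ : Subgroup (Gu K))}

theorem QB.gn [NeZero (3 : K)] (hF : Sat F p) (s3 : F.autGroup (Q2 K) ≤ stab (Q2 K) (Z3 K))
    (w : w2 K ∈ F.autGroup (Q2 K)) : Gn F (Q2 K) (w2 K) := by
  refine ⟨w, fun L m3 k φ hφ => ?_⟩
  have m1 : w2 K ∈ F.autGroup (Q2 K) ⊓ M2 K := ⟨w, w2_M2⟩
  obtain ⟨b, b1, b2⟩ := frat2 hF s3 hφ
  have r := pl2 hF
  have a : b ∈ L := by_contra fun c => by
    obtain ⟨a, ha⟩ := not_forall.1 (mt (norm2 hF s3 b1) fun n => c (k ⟨b1.1, n⟩))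
    obtain ⟨t, t1, t2⟩ := r.onto (-(r2 b (a, 0)).1 / (r2 b (a, 0)).2)
    have m := mul_mem (mul_mem (Subgroup.inv_mem _ m1) (r.syl.le t1)) b1
    have := k ⟨m.1, norm2 hF s3 m (r.ti m (a := a) (by
      rintro rfl; simp [show ((0 : K), (0 : K)) = 0 from rfl] at ha) (by
      have e1 := r2_w2 (-(r2 b (a, 0)).2, 0)
      rw [neg_neg] at e1
      rw [r.rp.mul3 (Subgroup.inv_mem _ m1) (r.syl.le t1) b1, t2, div_mul_cancel₀ _ ha, add_neg_cancel, ← e1,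
        r.rp.inv_app m1]))⟩
    have m4 := Subgroup.inv_mem _ (mul_mem (Subgroup.inv_mem _ m3) (k ⟨(r.syl.le t1).1, le_normalizer t1⟩))
    exact c (by simpa [mul_assoc] using mul_mem m4 this)
  simpa using mul_mem (Subgroup.inv_mem _ a) (k ⟨mul_mem b1.1 hφ, b2⟩)

theorem Nm.g2 (h : Nm F p) (h3 : (3 : K) ≠ 0) (h4 : 4 ≤ Nat.card K)
    (H : (2 : K) ≠ 0 ∧ Mor F ⊤ (dg 1 (-1) 1) ∨ Tor F) : Gn F (Q2 K) (w2 K) :=
  haveI := NeZero.mk h3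
  gn h.sat h.s3 (w2_mem h h4 H)

end CF.FusG
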