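import Cfsg.Agent.FusG.B
import Cfsg.Agent.FusC.N

/-! The octonion model of the Sylow `p`-subgroup of `G₂(q)`. -/

set_option autoImplicit false
set_option linter.style.haveILetI false
set_option linter.unusedSimpArgs false

namespace CF.FusG

open Cfsg Cfsg.FusionSystem Subgroup CF.Fus CF.FusD CF.FusU Function Gu Matrix CF.Geom

namespace SY

variable {K : Type*} [Field K]

/-- the matrix of an element of the model -/
def mx (x : Gu K) : Matrix (Fin 8) (Fin 8) K :=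
  !![1, 0, 0, x.a * x.b - x.c, -x.b, x.a, 0, 0;
    x.b - x.a * x.t, 1, x.t, x.a * x.b ^ 2 - x.a * x.c * x.t - 2 * x.b * x.c + x.s * x.t + x.z, x.c * x.t - x.b ^ 2,
      2 * x.a * x.b - x.a ^ 2 * x.t - x.c, 0, x.a * x.t - x.b;
    -x.a, 0, 1, x.s - x.a * x.c, x.c, -x.a ^ 2, 0, x.a;
    0, 0, 0, 1, 0, 0, 0, 0;
    0, 0, 0, -x.a, 1, 0, 0, 0;
    0, 0, 0, x.a * x.t - x.b, -x.t, 1, 0, 0;
    x.c - x.a * x.b, x.a, x.b, x.a * x.z + x.b * x.s - x.a * x.b * x.c - x.c ^ 2, x.b * x.c - x.z,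
      2 * x.a * x.c - x.a ^ 2 * x.b - x.s, 1, x.a * x.b - x.c;
    0, 0, 0, x.c - x.a * x.b, x.b, -x.a, 0, 1]

theorem mx_mv (x : Gu K) (v : Fin 8 → K) : mx x *ᵥ v =
    ![v 0 + (x.a * x.b - x.c) * v 3 - x.b * v 4 + x.a * v 5,
      (x.b - x.a * x.t) * (v 0 - v 7) + v 1 + x.t * v 2 +
        (x.a * x.b ^ 2 - x.a * x.c * x.t - 2 * x.b * x.c + x.s * x.t + x.z) * v 3 + (x.c * x.t - x.b ^ 2) * v 4 +
        (2 * x.a * x.b - x.a ^ 2 * x.t - x.c) * v 5,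
      x.a * (v 7 - v 0) + v 2 + (x.s - x.a * x.c) * v 3 + x.c * v 4 - x.a ^ 2 * v 5,
      v 3, v 4 - x.a * v 3, (x.a * x.t - x.b) * v 3 - x.t * v 4 + v 5,
      (x.c - x.a * x.b) * (v 0 - v 7) + x.a * v 1 + x.b * v 2 +
        (x.a * x.z + x.b * x.s - x.a * x.b * x.c - x.c ^ 2) * v 3 + (x.b * x.c - x.z) * v 4 +
        (2 * x.a * x.c - x.a ^ 2 * x.b - x.s) * v 5 + v 6,
      (x.c - x.a * x.b) * v 3 + x.b * v 4 - x.a * v 5 + v 7] := by
  ext i; fin_cases i <;> simp [mx, mulVec, dotProduct, Fin.sum_univ_eight] <;> ring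

theorem mext {A B : Matrix (Fin 8) (Fin 8) K} (h : ∀ v, A *ᵥ v = B *ᵥ v) : A = B :=
  Matrix.ext fun i j => by simpa using congrFun (h (Pi.single j 1)) i

theorem mx_mul (x y : Gu K) : mx (x * y) = mx x * mx y := mext fun v => by
  rw [← mulVec_mulVec, mx_mv, mx_mv x, mx_mv y]
  ext i; fin_cases i <;> simp <;> ring

theorem mx_one : mx (1 : Gu K) = 1 := mext fun v => by
  rw [mx_mv, one_mulVec]; ext i; fin_cases i <;> simp

theorem mx_zm (x : Gu K) (u v : Fin 8 → K) : mx x *ᵥ zm K u v = zm K (mx x *ᵥ u) (mx x *ᵥ v) := by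
  rw [mx_mv, mx_mv, mx_mv, zm_apply, zm_apply]
  ext i; fin_cases i <;> simp <;> ring

/-- the embedding -/
def nu : Gu K →* Lie.G2 K := MonoidHom.mk' (fun x => ⟨⟨mx x, mx x⁻¹, by rw [← mx_mul, mul_inv_cancel, mx_one], by
  rw [← mx_mul, inv_mul_cancel, mx_one]⟩, mx_zm x⟩) fun x y => Subtype.ext (Units.ext (mx_mul x y))

theorem nu_ap (x : Gu K) (v : Fin 8 → K) : FusC.g2A (nu x) v = mx x *ᵥ v := rfl

theorem gext {g h : Lie.G2 K} (e : ∀ v, FusC.g2A g v = FusC.g2A h v) : g = h := Subtype.ext (Units.ext (mext e))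

theorem nu_inj : Injective (nu (K := K)) := (injective_iff_map_eq_one _).2 fun x h => by
  have e : mx x = 1 := congrArg (fun g : Lie.G2 K => g.1.1) h
  have a : x.a = 0 := by simpa [mx] using congrFun₂ e 0 5
  have t : x.t = 0 := by simpa [mx] using congrFun₂ e 1 2
  have b : x.b = 0 := by simpa [mx] using congrFun₂ e 0 4
  have c : x.c = 0 := by simpa [mx] using congrFun₂ e 2 4
  have s : x.s = 0 := by simpa [mx, a] using congrFun₂ e 2 3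
  have z : x.z = 0 := by simpa [mx, b] using congrFun₂ e 6 4
  exact Gu.ext a t b c s z

/-- a Weyl element -/
def m1 (K : Type*) [Field K] : Matrix (Fin 8) (Fin 8) K :=
  !![0, 0, 0, 0, 0, 0, 0, 1; 0, 0, 0, 0, 0, 0, 1, 0; 0, 0, 0, 0, 0, -1, 0, 0; 0, 0, 0, 0, -1, 0, 0, 0;
    0, 0, 0, 1, 0, 0, 0, 0; 0, 0, -1, 0, 0, 0, 0, 0; 0, -1, 0, 0, 0, 0, 0, 0; 1, 0, 0, 0, 0, 0, 0, 0]
/-- a Weyl element -/
def m2 (K : Type*) [Field K] : Matrix (Fin 8) (Fin 8) K :=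
  !![1, 0, 0, 0, 0, 0, 0, 0; 0, 0, 1, 0, 0, 0, 0, 0; 0, -1, 0, 0, 0, 0, 0, 0; 0, 0, 0, 1, 0, 0, 0, 0;
    0, 0, 0, 0, 0, 1, 0, 0; 0, 0, 0, 0, -1, 0, 0, 0; 0, 0, 0, 0, 0, 0, 1, 0; 0, 0, 0, 0, 0, 0, 0, 1]

theorem m1_mv (v : Fin 8 → K) : m1 K *ᵥ v = ![v 7, v 6, -v 5, -v 4, v 3, -v 2, -v 1, v 0] := by
  ext i; fin_cases i <;> simp [m1, mulVec, dotProduct, Fin.sum_univ_eight]
theorem m2_mv (v : Fin 8 → K) : m2 K *ᵥ v = ![v 0, v 2, -v 1, v 3, v 5, -v 4, v 6, v 7] := by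
  ext i; fin_cases i <;> simp [m2, mulVec, dotProduct, Fin.sum_univ_eight]

theorem pow4 {A : Matrix (Fin 8) (Fin 8) K} (h : ∀ v, A *ᵥ A *ᵥ A *ᵥ A *ᵥ v = v) : A ^ 4 = 1 := mext fun v => by
  rw [one_mulVec]; simpa only [mulVec_mulVec, pow_succ, pow_zero, one_mul, mul_assoc] using h v

/-- a Weyl element -/
def n1 (K : Type*) [Field K] : Lie.G2 K := ⟨Units.ofPowEqOne (m1 K) 4 (pow4 fun v => by
    simp only [m1_mv]; ext i; fin_cases i <;> simp) four_ne_zero, fun u v => by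
  show m1 K *ᵥ zm K u v = zm K (m1 K *ᵥ u) (m1 K *ᵥ v)
  rw [m1_mv, m1_mv, m1_mv, zm_apply, zm_apply]
  ext i; fin_cases i <;> simp <;> ring⟩
/-- a Weyl element -/
def n2 (K : Type*) [Field K] : Lie.G2 K := ⟨Units.ofPowEqOne (m2 K) 4 (pow4 fun v => by
    simp only [m2_mv]; ext i; fin_cases i <;> simp) four_ne_zero, fun u v => by
  show m2 K *ᵥ zm K u v = zm K (m2 K *ᵥ u) (m2 K *ᵥ v)
  rw [m2_mv, m2_mv, m2_mv, zm_apply, zm_apply]
  ext i; fin_cases i <;> simp <;> ring⟩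

theorem n1_cj {x : Gu K} (h : x ∈ Q1 K) : n1 K * nu x * (n1 K)⁻¹ = nu (W1 x) := mul_inv_eq_iff_eq_mul.2 (gext fun v => by
  rw [FusC.g2A_mul, FusC.g2A_mul]
  show m1 K *ᵥ mx x *ᵥ v = mx _ *ᵥ m1 K *ᵥ v
  rw [m1_mv, m1_mv, mx_mv, mx_mv]
  ext i; fin_cases i <;> simp [mem_Q1.1 h] <;> ring)

theorem n2_cj {x : Gu K} (h : x ∈ Q2 K) : n2 K * nu x * (n2 K)⁻¹ = nu (W2 x) := mul_inv_eq_iff_eq_mul.2 (gext fun v => by
  rw [FusC.g2A_mul, FusC.g2A_mul]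
  show m2 K *ᵥ mx x *ᵥ v = mx _ *ᵥ m2 K *ᵥ v
  rw [m2_mv, m2_mv, mx_mv, mx_mv]
  ext i; fin_cases i <;> simp [mem_Q2.1 h] <;> ring)

theorem le_T : (nu (K := K)).range ≤ FusC.g2T K := by
  rintro _ ⟨x, rfl⟩
  exact ⟨by rw [nu_ap, mx_mv]; ext i; fin_cases i <;> simp, x.a, by rw [nu_ap, mx_mv]; ext i; fin_cases i <;> simp⟩

theorem range_eq [Finite K] : (nu (K := K)).range = FusC.g2T K :=
  eq_of_le_of_card_ge le_T (by
    rw [← Nat.card_congr (MonoidHom.ofInjective nu_inj).toEquiv, card]; exact FusC.g2T_card)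

/-- vectors which are fixed modulo the highest weight vector -/
theorem fix_mod {y : Fin 8 → K} (a : zm K y y = 0) (b : ∀ x : Gu K, ∃ s : K, mx x *ᵥ y = y + s • Pi.single 6 1) :
    y = y 1 • Pi.single 1 1 + y 6 • Pi.single 6 1 := by
  obtain ⟨s, a2⟩ := b (xa 1)
  obtain ⟨t, a3⟩ := b (xt 1)
  rw [mx_mv] at a2 a3
  have b3 : y 3 = 0 := by simpa using congrFun a2 4
  have b5 : y 5 = 0 := by simpa [b3] using congrFun a2 0
  have b4 : y 4 = 0 := by simpa using congrFun a3 5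
  have b2 : y 2 = 0 := by simpa using congrFun a3 1
  have b0 : y 0 = 0 := by simpa [zm_apply, b3, b4, b5] using congrFun a 0
  have b7 : y 7 = 0 := by simpa [b0, b5] using congrFun a2 2
  ext i; fin_cases i <;> simp [*]

theorem one_of_pow {p n : ℕ} [Fact p.Prime] [CharP K p] {l : K} (h : l ^ p ^ n = 1) : l = 1 :=
  sub_eq_zero.1 (pow_eq_zero_iff (pow_pos (Fact.out : p.Prime).pos n).ne' |>.1 (by
    rw [sub_pow_char_pow, h, one_pow, sub_self]))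

theorem mem_T {p n : ℕ} [Fact p.Prime] [CharP K p] {g : Lie.G2 K} (hn : g ^ p ^ n = 1)
    (m : ∀ x, g⁻¹ * nu x * g ∈ FusC.g2T K) : g ∈ FusC.g2T K := by
  have k : ∀ x v, mx x *ᵥ FusC.g2A g v = FusC.g2A g (FusC.g2A (g⁻¹ * nu x * g) v) := fun x v => by
    rw [← nu_ap, ← FusC.g2A_mul, ← FusC.g2A_mul]; group
  have q : ∀ v, zm K v v = 0 → zm K (FusC.g2A g v) (FusC.g2A g v) = 0 := fun v h => by rw [← FusC.g2A_zm, h, map_zero]
  have f6 := fix_mod (q (Pi.single 6 1) (by ext i; fin_cases i <;> simp [zm_apply])) fun x => ⟨0, by simp [k, (m x).1]⟩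
  have f0 : FusC.g2A g (Pi.single 6 1) 1 = 0 := by
    have := (k (xa 1) _).trans (congrArg _ (m _).1)
    rw [mx_mv] at this
    have e := congrFun this 6
    rw [f6] at e
    simpa using e
  rw [f0, zero_smul, zero_add] at f6
  generalize FusC.g2A g (Pi.single 6 1) 6 = l at f6
  have e6 : ∀ n : ℕ, FusC.g2A (g ^ n) (Pi.single 6 1) = l ^ n • Pi.single 6 1 := fun n => by
    induction n with
    | zero => simp [FusC.g2A_one]
    | succ n ih => rw [pow_succ', FusC.g2A_mul, ih, map_smul, f6, smul_smul, pow_succ]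
  obtain rfl : l = 1 := one_of_pow (p := p) (n := n) (by simpa [hn, FusC.g2A_one] using (congrFun (e6 (p ^ n)) 6).symm)
  rw [one_smul] at f6
  have f1 := fix_mod (q (Pi.single 1 1) (by ext i; fin_cases i <;> simp [zm_apply])) fun x =>
    (m x).2.imp fun s b => by rw [k, b, map_add, map_smul, f6]
  generalize FusC.g2A g (Pi.single 1 1) 1 = l at f1
  have e1 : ∀ n : ℕ, ∃ s : K, FusC.g2A (g ^ n) (Pi.single 1 1) = l ^ n • Pi.single 1 1 + s • Pi.single 6 1 := fun n => by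
    induction n with
    | zero => exact ⟨0, by simp [FusC.g2A_one]⟩
    | succ n ih => exact ih.elim fun s ih => ⟨_, by
        rw [pow_succ', FusC.g2A_mul, ih, map_add, map_smul, map_smul, f6, f1, smul_add, smul_smul, smul_smul, add_assoc,
          ← add_smul, pow_succ]⟩
  obtain ⟨s, e⟩ := e1 (p ^ n)
  obtain rfl : l = 1 := one_of_pow (p := p) (n := n) (by simpa [hn, FusC.g2A_one] using (congrFun e 1).symm)
  exact ⟨f6, _, by rwa [one_smul] at f1⟩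

theorem fin [Finite K] : Finite (Lie.G2 K) := inferInstance

theorem syl [Finite K] {p : ℕ} [Fact p.Prime] [CharP K p] : SylIn p (nu (K := K)).range ⊤ := by
  have pu : IsPGroup p (nu (K := K)).range := by
    rw [MonoidHom.range_eq_map]; exact pg.map _
  obtain ⟨P, hP⟩ := pu.exists_le_sylow
  refine sylIn_top_iff.2 ⟨P, by_contra fun d => (lt_NS P.isPGroup' (lt_of_le_of_ne hP (Ne.symm d))).not_ge
    fun g hg => range_eq.ge ?_⟩
  obtain ⟨n, hn⟩ := isPGroup_iff_mem.1 P.isPGroup' g hg.1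
  exact mem_T hn fun x => le_T (conj_mem_of_norm' hg.2 ⟨x, rfl⟩)

theorem long {g : Lie.G2 K} {z x : Gu K} (hz : z ∈ Z1 K) (hx : x ∈ Z4 K) (e : g * nu z * g⁻¹ = nu x) : x ∈ Z2 K := by
  have k : ∀ v, zm K (mx x *ᵥ v - v) (mx x *ᵥ v - v) = 0 := fun v => by
    have a : mx x *ᵥ v - v = FusC.g2A g (mx z *ᵥ FusC.g2A g⁻¹ v - FusC.g2A g⁻¹ v) := by
      rw [map_sub, ← nu_ap, ← nu_ap, ← e, ← FusC.g2A_mul, ← FusC.g2A_mul, ← FusC.g2A_mul, mul_inv_cancel, FusC.g2A_one]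
    rw [a, ← FusC.g2A_zm]
    generalize FusC.g2A g⁻¹ v = w
    rw [show zm K (mx z *ᵥ w - w) (mx z *ᵥ w - w) = 0 by
      obtain ⟨h1, h2, h3, h4, h5⟩ := hz
      rw [zm_apply, mx_mv]; ext i; fin_cases i <;> simp [*], map_zero]
  have b : x.b = 0 := by simpa [zm_apply, mx, hx.1, hx.2] using congrFun (k (Pi.single 4 1)) 0
  have c : x.c = 0 := by simpa [zm_apply, mx, hx.1, hx.2, b] using congrFun (k (Pi.single 3 1)) 0
  exact ⟨hx.1, hx.2, b, c⟩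

theorem gs [Finite K] {p : ℕ} [Fact p.Prime] [CharP K p] : Gs p (nu (K := K)) := by
  have a : n2 K * nu (xs 1) * (n2 K)⁻¹ = nu (xz 1) := (n2_cj (xs_mem 1).2.1).trans (congrArg _ (by ext <;> simp))
  have b : n1 K * nu (xs 1) * (n1 K)⁻¹ = nu (xt 1) := (n1_cj (xs_mem 1).1).trans (congrArg _ (by ext <;> simp))
  refine ⟨fin, nu_inj, syl, _, xz_mem 1, _, xz_mem 1, n1 K * (n2 K)⁻¹, (n2 K)⁻¹, xt 1, xs 1, ?_, ?_, fun c => ?_⟩
  · rw [← a, ← b]; group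
  · rw [← a]; group
  · simpa using t_zero c

end SY

variable {K : Type} [Field K] [Finite K] {p : ℕ} [Fact p.Prime] [CharP K p]

theorem exists_sy : ∃ ν : Gu K →* Lie.G2 K, Gs p ν ∧ (∃ n, ∀ x ∈ Q1 K, n * ν x * n⁻¹ = ν (W1 x)) ∧
    (∃ n, ∀ x ∈ Q2 K, n * ν x * n⁻¹ = ν (W2 x)) ∧
      ((3 : K) ≠ 0 → ∀ g, ∀ z ∈ Z1 K, ∀ x ∈ Z4 K, g * ν z * g⁻¹ = ν x → x ∈ Z2 K) :=
  ⟨SY.nu, SY.gs, ⟨_, fun _ => SY.n1_cj⟩, ⟨_, fun _ => SY.n2_cj⟩, fun _ _ _ hz _ hx => SY.long hz hx⟩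

end CF.FusG
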