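import Cfsg.Agent.FusG.QA
import Cfsg.Agent.FusG.QB
import Cfsg.Agent.FusG.SY
import Cfsg.Agent.FusG.L5
import Cfsg.Agent.FusG.C2

/-! Normal forms of saturated fusion systems on a Sylow `5`-subgroup of `G₂(5)`. -/

set_option autoImplicit false
set_option linter.style.haveILetI false
set_option linter.unusedSimpArgs false

namespace CF.FusG

open Cfsg Cfsg.FusionSystem Subgroup CF.Fus CF.FusD CF.FusU Function Gu Matrix

namespace C5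

section

variable {K : Type} [Field K] {E F : FusionSystem (⊤ : Subgroup (Gu K))} {f : Gu K → Gu K} {x y z : Gu K}
  {P : Subgroup (Gu K)}

theorem cj_push (i : FIso F f E) (h : Cj F x y) : Cj E (f x) (f y) := by
  obtain ⟨g, m, rfl⟩ := h
  obtain ⟨g', m', e⟩ := i.mph.push m
  exact ⟨g', m'.mono (zpowers_le.2 (mem_img_of_mem (mem_zpowers x))), e x (mem_zpowers x)⟩

theorem cj_aut {φ : MulAut P} (h : φ ∈ F.autGroup P) (hx : x ∈ P) : Cj F x (fn φ x) :=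
  ⟨fn φ, (mor_fn le_top h).mono (zpowers_le.2 hx), rfl⟩

theorem cj_trans (h : Cj F x y) (k : Cj F y z) : Cj F x z := by
  obtain ⟨g, m, rfl⟩ := h
  obtain ⟨g', m', rfl⟩ := k
  refine ⟨_, m.comp m' ?_, rfl⟩
  rintro _ ⟨n, rfl⟩
  exact ⟨n, (m.mul.map_zpow (mem_zpowers x) n).symm⟩

theorem dG_mul (α β γ δ : Kˣ) : dG α β * dG γ δ = dG (α * γ) (β * δ) := Units.ext (dM_mul ..)

theorem dG_fac (α β : Kˣ) : dG α β = dG α (α⁻¹ ^ 2) * dG 1 (β * α ^ 2) := by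
  rw [dG_mul, mul_one, mul_comm β, ← mul_assoc, ← mul_pow, inv_mul_cancel, one_pow, one_mul]

theorem dM_sc (β : K) : dM 1 β = β • (1 : Matrix (Fin 4) (Fin 4) K) := by
  ext i j; fin_cases i <;> fin_cases j <;> simp [dM]

theorem sc_comm (β : Kˣ) (g : GL (Fin 4) K) : dG 1 β * g = g * dG 1 β := Units.ext (by simp [dM_sc])

theorem cl_mono {Γ Δ : Subgroup (GL (Fin 4) K)} (h : Γ ≤ Δ) : Cl Γ ≤ Cl Δ :=
  closure_mono fun _ ⟨g, hg, e⟩ => ⟨g, h hg, e⟩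

/-- the stabilizer of the line through the third and the fourth base point -/
def St (K : Type) [Field K] : Subgroup (GL (Fin 4) K) where
  carrier := {g | ∀ v, (g.1 *ᵥ v) 0 = 0 ∧ (g.1 *ᵥ v) 1 = 0 ↔ v 0 = 0 ∧ v 1 = 0}
  one_mem' := fun v => by simp
  mul_mem' := fun {g k} hg hk v => by rw [Units.val_mul, ← mulVec_mulVec, hg, hk]
  inv_mem' := fun {g} hg v => by rw [← hg, mulVec_mulVec, ← Units.val_mul, mul_inv_cancel]; simp

theorem hb_dG [Finite K] {p : ℕ} [Fact p.Prime] [CharP K p] (h : Nm F p) (h3 : (3 : K) ≠ 0) (h4 : 4 ≤ Nat.card K)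
    (α : Kˣ) : dG α (α⁻¹ ^ 2) ∈ GF F := (h.dG_iff h3 _ _).2 (by simpa using h.hb h3 h4 α⁻¹.ne_zero)

theorem card_Z1 : Nat.card (Z1 K) = Nat.card K :=
  (Nat.card_eq_of_bijective (fun c => (⟨xz c, xz_mem c⟩ : Z1 K)) ⟨fun _ _ e => congrArg (·.1.z) e,
    fun x => ⟨x.1.z, Subtype.ext (Z1_ext (xz_mem _) x.2 rfl)⟩⟩).symm

end

/-- the field with five elements -/
abbrev K5 := ZMod 5

/-- a primitive root -/
abbrev u2 : K5ˣ := ZMod.unitOfCoprime 2 (by norm_num)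

variable {E F : FusionSystem (⊤ : Subgroup (Gu K5))} {f : Gu K5 → Gu K5}

theorem h2 : (2 : K5) ≠ 0 := by decide
theorem h3 : (3 : K5) ≠ 0 := by decide
theorem c5 : Nat.card K5 = 5 := Nat.card_zmod 5
theorem h4 : 4 ≤ Nat.card K5 := by rw [c5]; norm_num
theorem cases5 : ∀ β : K5ˣ, β = 1 ∨ β = -1 ∨ β = u2 ∨ β = -u2 := by decide

/-- long root elements -/
def Lr (F : FusionSystem (⊤ : Subgroup (Gu K5))) : Prop := ∀ z ∈ Z1 _, ∀ x ∈ Z4 _, Cj F z x → x ∈ Z2 _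

theorem lr_pull (i : FIso F f E) (h : Lr E) : Lr F := fun z hz x hx c =>
  CH.back i.piso (map_Z2 h3 i.piso) (h _ (map_Z1 h3 i.piso z hz) _
    ⟨map_Q1 h3 i.piso x hx.1, map_Q2 h3 i.piso x hx.2⟩ (cj_push i c))

theorem card_inn : Nat.card (Inn (⊤ : Subgroup (Gu K5))) = 5 ^ 5 := by
  have e := card_NS (P := (⊤ : Subgroup (Gu K5))) ⊤
  rw [show NS ⊤ ⊤ = (⊤ : Subgroup (Gu K5)) from eq_top_iff.2 fun x _ => ⟨trivial, le_normalizer trivial⟩,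
    show CS ⊤ ⊤ = Z1 K5 from le_antisymm (fun x hx => CH.cen1 h3 fun y _ => cm_eq_one.2 (hx.2 y trivial).symm)
      fun x hx => ⟨trivial, fun y _ => Z1_comm hx y⟩, card_Z1, card_top, Gu.card, c5, ← Inn_eq] at e
  omega

section

variable (h : Nm F 5)
include h

theorem sc_iff (α β : K5ˣ) : dG α β ∈ GF F ↔ dG 1 (β * α ^ 2) ∈ GF F := by
  rw [dG_fac, (GF F).mul_mem_cancel_left (hb_dG h h3 h4 α)]

theorem dec {γ : GL (Fin 4) K5} (hγ : γ ∈ GF F ⊔ DT K5) : ∃ g ∈ GF F, ∃ β, γ = g * dG 1 β := by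
  let H : Subgroup (GL (Fin 4) K5) :=
    { carrier := {γ | ∃ g ∈ GF F, ∃ β, γ = g * dG 1 β}
      one_mem' := ⟨1, one_mem _, 1, Units.ext (by simp [dM_one])⟩
      mul_mem' := by
        rintro _ _ ⟨g, a, β, rfl⟩ ⟨k, b, δ, rfl⟩
        exact ⟨_, mul_mem a b, β * δ, by
          rw [mul_assoc, ← mul_assoc (dG 1 β), sc_comm β k, mul_assoc, dG_mul, mul_one, mul_assoc]⟩
      inv_mem' := by
        rintro _ ⟨g, a, β, rfl⟩
        exact ⟨_, inv_mem a, β⁻¹, by rw [_root_.mul_inv_rev, ← sc_comm]; exact congrArg (· * _) (inv_eq_of_mul_eq_one_right (by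
          rw [dG_mul, mul_one, mul_inv_cancel]; exact Units.ext dM_one))⟩ }
  refine (sup_le (fun g a => ⟨g, a, 1, Units.ext (by simp [dM_one])⟩) ?_ : _ ≤ H) hγ
  rintro _ ⟨α, β, rfl⟩
  exact ⟨_, hb_dG h h3 h4 α, _, dG_fac α β⟩

omit h in
theorem one_sc : dG 1 1 ∈ GF F := (show dG (1 : K5ˣ) 1 = 1 from Units.ext dM_one) ▸ one_mem _

omit h in
theorem mul_sc {β δ : K5ˣ} (a : dG 1 β ∈ GF F) (b : dG 1 δ ∈ GF F) : dG 1 (β * δ) ∈ GF F := by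
  simpa [dG_mul] using mul_mem a b

omit h in
theorem neg_sc (a : dG 1 u2 ∈ GF F) : dG 1 (-1) ∈ GF F := (show u2 * u2 = -1 by decide) ▸ mul_sc a a

omit h in
theorem all_sc (a : dG 1 u2 ∈ GF F) (β : K5ˣ) : dG 1 β ∈ GF F := by
  rcases cases5 β with rfl | rfl | rfl | rfl
  exacts [one_sc, neg_sc a, a, (show -1 * u2 = -u2 by decide) ▸ mul_sc (neg_sc a) a]

omit h in
theorem half_sc (a : dG 1 (-1) ∈ GF F) (n : dG 1 u2 ∉ GF F) (β : K5ˣ) : dG 1 β ∈ GF F ↔ β = 1 ∨ β = -1 := by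
  rcases cases5 β with rfl | rfl | rfl | rfl
  · exact iff_of_true one_sc (.inl rfl)
  · exact iff_of_true a (.inr rfl)
  · exact iff_of_false n (by decide)
  · exact iff_of_false (fun m => n ((show -1 * -u2 = u2 by decide) ▸ mul_sc a m)) (by decide)

theorem nn_full (a : dG 1 u2 ∈ GF F) : nn F = Nat.card ↥(GF F ⊔ DT K5) * 625 := by
  rw [(gf_prime (E := F) h3 c5).2, sup_eq_left.2 (show DT K5 ≤ GF F by
    rintro _ ⟨α, β, rfl⟩; exact (sc_iff h α β).2 (all_sc a _))]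
  rfl

theorem nn_half (a : dG 1 (-1) ∈ GF F) (n : dG 1 u2 ∉ GF F) : nn F * 2 = Nat.card ↥(GF F ⊔ DT K5) * 625 := by
  have i : (GF F).relIndex (GF F ⊔ DT K5) = 2 := relIndex_eq_two_iff_exists_notMem_and.2
    ⟨dG 1 u2, mem_sup_right ⟨_, _, rfl⟩, n, fun b hb => by
      obtain ⟨g, hg, β, rfl⟩ := dec h hb
      rw [mul_assoc, dG_mul, mul_one, (GF F).mul_mem_cancel_left hg, (GF F).mul_mem_cancel_left hg, half_sc a n,
        half_sc a n]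
      exact (by decide : ∀ β : K5ˣ, (β * u2 = 1 ∨ β * u2 = -1) ∨ β = 1 ∨ β = -1) β⟩
  rw [(gf_prime (E := F) h3 c5).2, ← card_mul_index ((GF F).subgroupOf (GF F ⊔ DT K5)), ← relIndex, i,
    Nat.card_congr (subgroupOfEquivOfLe le_sup_left).toEquiv]
  ring

theorem top5 (m : Mor F ⊤ f) : ∃ t, ∃ α β : K5ˣ, dG α β ∈ GF F ∧ ∀ x, f x = t * dg (α : K5) β 1 x * t⁻¹ := by
  obtain ⟨t, d, ⟨α, β, τ, a0, b0, e | ⟨c, -⟩⟩, m', q⟩ := h.top f m
  · obtain rfl : τ = 1 := Subsingleton.elim (α := K5 ≃+* K5) _ _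
    exact ⟨t, .mk0 α a0, .mk0 β b0, (h.dG_iff h3 _ _).2 (m'.congr fun x _ => (e x).symm), fun x => by rw [q, e]; rfl⟩
  · exact (h3 c).elim

theorem card_top5 (a : dG 1 (-1) ∈ GF F) (n : dG 1 u2 ∉ GF F) : Nat.card (F.autGroup ⊤) = 8 * 5 ^ 5 := by
  choose t α β m e using fun φ : F.autGroup ⊤ => top5 h (mor_fn le_rfl φ.2)
  have ea : ∀ φ x, (fn φ.1 x).a = α φ * x.a := fun φ x => by simp [e φ]
  have et : ∀ φ x, (fn φ.1 x).t = β φ * x.t := fun φ x => by simp [e φ]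
  let χ : F.autGroup ⊤ →* K5ˣ × K5ˣ := .mk' (fun φ => (α φ, β φ)) fun φ ψ => Prod.ext
    (Units.ext (by simpa [fn_mul, ea φ, ea ψ] using (ea (φ * ψ) (xa 1)).symm))
    (Units.ext (by simpa [fn_mul, et φ, et ψ] using (et (φ * ψ) (xt 1)).symm))
  have k : χ.ker = (Inn (⊤ : Subgroup (Gu K5))).subgroupOf _ := by
    ext φ
    rw [mem_subgroupOf, mem_Inn, MonoidHom.mem_ker]
    refine ⟨fun q => ⟨t φ, trivial, aut_ext fun x hx => ?_⟩, fun ⟨s, _, q⟩ => Prod.ext (Units.ext ?_) (Units.ext ?_)⟩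
    · rw [fn_cA (le_normalizer (mem_top _)) hx, e φ, show α φ = 1 from congrArg Prod.fst q,
        show β φ = 1 from congrArg Prod.snd q, Units.val_one, dg_one]
    · simpa [χ, ← q, fn_cA (le_normalizer (mem_top s)) (mem_top _)] using (ea φ (xa 1)).symm
    · simpa [χ, ← q, fn_cA (le_normalizer (mem_top s)) (mem_top _)] using (et φ (xt 1)).symm
  have r : ∀ u, u ∈ χ.range ↔ u.2 * u.1 ^ 2 = 1 ∨ u.2 * u.1 ^ 2 = -1 := fun u => by
    rw [← half_sc a n, ← sc_iff h]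
    refine ⟨fun ⟨φ, q⟩ => q ▸ m φ, fun q => ?_⟩
    obtain ⟨φ, hφ, e'⟩ := ((h.dG_iff h3 _ _).1 q).iso_top.exists_aut
    exact ⟨⟨φ, hφ⟩, Prod.ext (Units.ext (by simpa [χ, e' _ (mem_top _)] using (ea ⟨φ, hφ⟩ (xa 1)).symm))
      (Units.ext (by simpa [χ, e' _ (mem_top _)] using (et ⟨φ, hφ⟩ (xt 1)).symm))⟩
  rw [← χ.ker.card_mul_index, index_ker, k, Nat.card_congr (subgroupOfEquivOfLe (Inn_le_autGroup F le_rfl)).toEquiv,
    card_inn, Nat.card_congr (Equiv.subtypeEquivRight r), Nat.card_eq_fintype_card, mul_comm]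
  congr 1

theorem no3 (na : Na F) (e : GF F ⊔ DT K5 = G5 {j3}) : False := by
  have l : G5 {j3} ≤ St K5 := sup_le (sup_le (by
    rintro _ ⟨a, rfl⟩ v
    simp only [val_uG, uM_mulVec, cons_val_zero, cons_val_one]
    exact and_congr_right fun q => by simp [q]) (by
    rintro _ ⟨α, β, rfl⟩ v
    simp [dM_mulVec])) ((closure_le _).2 (by
    rintro _ rfl v
    simp [j3, gl, mulVec, dotProduct, Fin.sum_univ_four, h2, h3, and_comm]))
  refine na.not_normal (h.sat.normal_of_ess fun P hP => ?_) l13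
  rcases hP with rfl | hP
  · exact ⟨le_top, fun φ hφ => mem_stab_of_maps le_top (map_Z3 h2 h3 (mor_fn le_rfl hφ).iso_top.piso)⟩
  rcases h.es P hP with rfl | rfl
  · refine ⟨l34.trans l41, fun φ hφ => mem_stab_of_maps (l34.trans l41) fun x hx => ?_⟩
    obtain ⟨g, hg⟩ := QA.exists_mt h3 φ fun r _ _ c v => (r.toZModLinearMap 5).map_smul c v
    have := (l (e ▸ mem_sup_left (show g ∈ GF F from ⟨φ, hφ, hg⟩)) (p1 x)).2 ⟨hx.2.1, hx.2.2⟩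
    rw [← hg x hx.1] at this
    exact ⟨fn_mem φ hx.1, this⟩
  · exact ⟨l34.trans l42, h.s3⟩

theorem g25 (a : dG 1 (-1) ∈ GF F) : Gn F (Q2 K5) (w2 K5) :=
  h.g2 h3 h4 (.inl ⟨h2, by simpa using (h.dG_iff h3 _ _).1 a⟩)

theorem no_j (a : dG 1 (-1) ∈ GF F) (lr : Lr F) {γ : GL (Fin 4) K5} (hγ : γ ∈ GF F ⊔ DT K5) (e : γ.1 0 3 = 0) :
    γ.1 1 3 = 0 ∧ γ.1 2 3 = 0 := by
  obtain ⟨g, ⟨φ, hφ, m⟩, β, rfl⟩ := dec h hγ
  have c : Cj F (xz 1) (xs 1) := by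
    have := cj_aut (inv_mem (g25 h a).1) (x := xz 1) rfl
    rwa [show (xz 1 : Gu K5) = fn (w2 K5) (xs 1) by rw [fn_w2 rfl]; ext <;> simp, fn_inv_fn, fn_w2 rfl,
      show W2 (xs 1 : Gu K5) = xz 1 by ext <;> simp] at this
  have q : ∀ i, p1 (fn φ (xs 1)) i = g.1 i 3 := fun i => by
    rw [m _ rfl]; simp [p1, mulVec, dotProduct, Fin.sum_univ_four]
  simp only [Units.val_mul, val_dG, Units.val_one, dM_sc, mul_smul_comm, mul_one, Matrix.smul_apply, smul_eq_mul,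
    mul_eq_zero, β.ne_zero, false_or] at e ⊢
  have := lr _ (xz_mem 1) _ ⟨fn_mem φ (x := xs 1) rfl, (q 0).trans e⟩ (cj_trans c (cj_aut hφ rfl))
  exact ⟨(q 1).symm.trans this.2.2.1, (q 2).symm.trans this.2.2.2⟩

theorem ty (na : Na F) : dG 1 (-1) ∈ GF F ∧
    (GF F ⊔ DT K5 = G5 {wG _} ∧ dG 1 u2 ∈ GF F ∧ nn F = 480 * 625 ∨
      GF F ⊔ DT K5 = G5 {wG _, j3} ∧ dG 1 u2 ∈ GF F ∧ nn F = 2880 * 625 ∨
      GF F ⊔ DT K5 = G5 {jf} ∧ dG 1 u2 ∉ GF F ∧ nn F = 640 * 625 ∨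
      GF F ⊔ DT K5 = G5 {jf} ∧ dG 1 u2 ∈ GF F ∧ nn F = 1280 * 625 ∨
      GF F ⊔ DT K5 = G5 {j3, jf} ∧ dG 1 u2 ∈ GF F ∧ nn F = 7680 * 625) := by
  obtain ⟨lg, cl⟩ := h.lg h3 h4
  have w : wG K5 ∈ GF F ⊔ DT K5 → dG 1 u2 ∈ GF F := fun m =>
    (show u2⁻¹ ^ 3 * (u2 ^ 2) ^ 2 = u2 by group) ▸ (sc_iff h _ _).1 (cl ((cl_w m le_sup_right).2 u2))
  rcases lin5 lg with ⟨e, c⟩ | e | ⟨e, c⟩ | ⟨e, c⟩ | ⟨e, c⟩
  · have a := w (e ▸ mem_sup_right (subset_closure rfl))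
    exact ⟨neg_sc a, .inl ⟨e, a, by rw [nn_full h a, c]⟩⟩
  · exact (no3 h na e).elim
  · have a := w (e ▸ mem_sup_right (subset_closure (Set.mem_insert _ _)))
    exact ⟨neg_sc a, .inr (.inl ⟨e, a, by rw [nn_full h a, c]⟩)⟩
  · have b := cl (e ▸ cl5.1)
    by_cases a : dG 1 u2 ∈ GF F
    · exact ⟨b, .inr (.inr (.inr (.inl ⟨e, a, by rw [nn_full h a, c]⟩)))⟩
    · have := nn_half h b a
      rw [c] at this
      exact ⟨b, .inr (.inr (.inl ⟨e, a, by omega⟩))⟩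
  · have a : dG 1 u2 ∈ GF F := (show u2 * (-1) ^ 2 = u2 by decide) ▸ (sc_iff h _ _).1 (cl (e ▸ cl_mono
      (sup_le_sup_left (Subgroup.closure_mono (Set.singleton_subset_iff.2 (Set.mem_insert _ _))) _) cl5.2))
    exact ⟨neg_sc a, .inr (.inr (.inr (.inr ⟨e, a, by rw [nn_full h a, c]⟩)))⟩

end

theorem sub5 (hE : Nm E 5) (hF : Nm F 5) (a : dG 1 (-1) ∈ GF E) (b : dG 1 (-1) ∈ GF F)
    (e : GF E ⊔ DT K5 = GF F ⊔ DT K5) (u : dG 1 u2 ∈ GF E → dG 1 u2 ∈ GF F) : E.IsSubsystemOf F := by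
  have top : ∀ f, Mor E ⊤ f → Mor F ⊤ f := fun f m => by
    obtain ⟨t, α, β, q, e'⟩ := top5 hE m
    refine (((hF.dG_iff h3 α β).1 ((sc_iff hF _ _).2 ?_)).cj_comp (mem_top t)).congr fun x _ => e' x
    rw [sc_iff hE] at q
    by_cases c : dG 1 u2 ∈ GF E
    · exact all_sc (u c) _
    · rcases (half_sc a c _).1 q with r | r <;> rw [r]
      exacts [one_sc, b]
  exact sub_of hE.sat hE.es top ((gf_prime h3 c5).1 (hE.gf_le h3 h4 (e ▸ (hF.lg h3 h4).2) top))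
    ((g25 hE a).le hE.sat nQ2 (g25 hF b).1 top)

theorem eq5 (hE : Nm E 5) (hE' : Na E) (hF : Nm F 5) (hF' : Na F) (e : nn E = nn F) : E = F := by
  obtain ⟨a, p⟩ := ty hE hE'
  obtain ⟨b, q⟩ := ty hF hF'
  have k : GF E ⊔ DT K5 = GF F ⊔ DT K5 ∧ (dG 1 u2 ∈ GF E ↔ dG 1 u2 ∈ GF F) := by
    rcases p with p | p | p | p | p <;> rcases q with q | q | q | q | q <;>
      first | omega | exact ⟨p.1.trans q.1.symm, by simp only [p.2.1, q.2.1]⟩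
  exact eq_of_sub (sub5 hE hF a b k.1 k.2.1) (sub5 hF hE b a k.1.symm k.2.2)

theorem sy5 : ∃ ι : Gu K5 →* Lie.G2 K5, Gs 5 ι ∧ ∀ E, Real E 5 ι ⊤ → Lr E :=
  let ⟨ν, g, _, _, k⟩ := exists_sy (K := K5) (p := 5)
  ⟨ν, g, fun _ r z hz x hx c => let ⟨g, e⟩ := (cj_real r).1 c; k h3 g z hz x hx e⟩

end C5

end CF.FusG
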