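import Cfsg.Agent.FusG.B

/-! Characteristic subgroups of a Sylow `p`-subgroup of `G₂(q)`. -/

set_option autoImplicit false
set_option linter.style.haveILetI false
set_option linter.unusedSimpArgs false

namespace CF.FusG

open Cfsg Cfsg.FusionSystem Subgroup CF.Fus CF.FusD CF.FusU Function Gu Matrix

variable {K : Type} [Field K] [Finite K] {f : Gu K → Gu K} {x y : Gu K} {P : Subgroup (Gu K)}

namespace CH

omit [Finite K] in
theorem Z4_of (h : ∀ y, (cm x y).b = 0) : x ∈ Z4 K :=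
  ⟨by simpa [cm_b] using h (xt 1), by simpa [cm_b] using h (xa 1)⟩

omit [Finite K] in
theorem cen1 (h3 : (3 : K) ≠ 0) (h : ∀ y ∈ Q1 K, cm x y = 1) : x ∈ Z1 K := by
  have a : x.a = 0 := by simpa [cm_b] using congrArg Gu.b (h (xt 1) rfl)
  have k : ∀ y ∈ Q1 K, x.s * y.t - x.t * y.s + 3 * x.b * y.c - 3 * x.c * y.b = 0 := fun y hy => by
    rw [← cm_z1 a hy, h y hy, one_z]
  exact ⟨a, by simpa using k (xs 1) rfl, by simpa [h3] using k (xc 1) rfl, by simpa [h3] using k (xb 1) rfl,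
    by simpa using k (xt 1) rfl⟩

section
variable (h : PIso f ⊤ ⊤)
include h
omit [Finite K]

theorem pm (x y : Gu K) : f (x * y) = f x * f y := h.mul trivial trivial
theorem pc (x y : Gu K) : f (cm x y) = cm (f x) (f y) := map_cm h.mul trivial trivial
theorem pi (x y : Gu K) : f (x⁻¹ * y) = (f x)⁻¹ * f y := h.mul.map_inv_mul trivial trivial

theorem up (h1 : ∀ x ∈ P, f x ∈ P) (hx : ∀ y, cm x y ∈ P) (y : Gu K) : cm (f x) y ∈ P := by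
  obtain ⟨t, -, rfl⟩ := h.surj (mem_top y)
  exact pc h x t ▸ h1 _ (hx t)

theorem eq_a (h1 : ∀ x ∈ Q1 K, f x ∈ Q1 K) (e : x.a = y.a) : (f x).a = (f y).a := by
  simpa [pi h, neg_add_eq_zero] using mem_Q1.1 (h1 (x⁻¹ * y) (by simp [mem_Q1, e]))

theorem eq_t (h1 : ∀ x ∈ Q2 K, f x ∈ Q2 K) (e : x.t = y.t) : (f x).t = (f y).t := by
  simpa [pi h, neg_add_eq_zero] using mem_Q2.1 (h1 (x⁻¹ * y) (by simp [mem_Q2, e]))

theorem eq_b (h4 : ∀ x ∈ Z4 K, f x ∈ Z4 K) (h3 : ∀ x ∈ Z3 K, f x ∈ Z3 K) (hx : x ∈ Z4 K) (hy : y ∈ Z4 K)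
    (e : x.b = y.b) : (f x).b = (f y).b := by
  simpa [pi h, neg_add_eq_zero, (h4 x hx).1] using (h3 _ (of4 (mul_mem (inv_mem hx) hy) (by simp [e, hx.1]))).2.2

theorem eq_c (h3 : ∀ x ∈ Z3 K, f x ∈ Z3 K) (h2 : ∀ x ∈ Z2 K, f x ∈ Z2 K) (hx : x ∈ Z3 K) (hy : y ∈ Z3 K)
    (e : x.c = y.c) : (f x).c = (f y).c := by
  simpa [pi h, neg_add_eq_zero, (h3 x hx).1] using (h2 _ (of3 (mul_mem (inv_mem hx) hy) (by simp [e, hx.1]))).2.2.2

theorem eq_s (h2 : ∀ x ∈ Z2 K, f x ∈ Z2 K) (h1 : ∀ x ∈ Z1 K, f x ∈ Z1 K) (hx : x ∈ Z2 K) (hy : y ∈ Z2 K)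
    (e : x.s = y.s) : (f x).s = (f y).s := by
  simpa [pi h, neg_add_eq_zero, (h2 x hx).1] using (h1 _ (of2 (mul_mem (inv_mem hx) hy) (by simp [e, hx.1]))).2.2.2.2

end

theorem piso_of (h : PIso f ⊤ ⊤) (h1 : ∀ x ∈ P, f x ∈ P) : PIso f P P :=
  piso_self_of_maps (h.mul.mono le_top) (fun _ _ _ _ => h.inj trivial trivial) h1

theorem back (h : PIso f ⊤ ⊤) (h1 : ∀ x ∈ P, f x ∈ P) (hx : f x ∈ P) : x ∈ P :=
  (h.mem_img_iff le_top trivial).1 ((piso_of h h1).img_eq.ge hx)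

omit [Finite K] in
theorem cube (h3 : (3 : K) = 0) : x * x * x = 1 ↔ x.a * x.t = 0 := by
  have e : x * x * x = ⟨0, 0, 0, -(x.a * (x.a * x.t)), 0, -(x.a * (x.a * x.t) ^ 2)⟩ := by ext <;> simp <;> grind
  rw [e]
  refine ⟨fun c => ?_, fun c => by ext <;> simp [c]⟩
  have := congrArg Gu.c c
  simp only [one_c, neg_eq_zero] at this
  exact (mul_eq_zero.1 this).elim (fun q => by rw [q, zero_mul]) id

end CH

open CH

theorem map_Z1 (h3 : (3 : K) ≠ 0) (h : PIso f ⊤ ⊤) : ∀ x ∈ Z1 K, f x ∈ Z1 K := fun _ hx =>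
  cen1 h3 fun y _ => up h (P := ⊥) (fun _ e => by rw [mem_bot.1 e, h.mul.map_one]; exact one_mem _) (cm0 hx) y

theorem map_Z2 (h3 : (3 : K) ≠ 0) (h : PIso f ⊤ ⊤) : ∀ x ∈ Z2 K, f x ∈ Z2 K := fun x hx => by
  have k := up h (map_Z1 h3 h) (cm1 hx)
  have m := Z4_of fun y => (k y).2.2.1
  have e1 : 2 * (f x).b = 0 := by simpa [cm_c4 m] using (k (xa 1)).2.2.2.1
  have e2 : (f x).c + (f x).b = 0 := mul_left_cancel₀ h3 (by
    have := (k (xa 1)).2.2.2.2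
    rw [cm_s1 m.1, m.2] at this
    simp only [xa_a] at this
    linear_combination this)
  have e3 : (f x).b = 0 := by
    by_cases h2 : (2 : K) = 0
    · have q : x * x = 1 := by ext <;> simp [hx.1, hx.2.1, hx.2.2.1, hx.2.2.2, ← two_mul, h2]
      have := congrArg Gu.z ((pm h x x).symm.trans ((congrArg f q).trans h.mul.map_one))
      simp only [mul_z, m.1, m.2, one_z] at this
      exact pow_eq_zero_iff two_ne_zero |>.1 (mul_left_cancel₀ h3 (by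
        linear_combination 3 * (f x).b * e2 - this + (f x).z * h2))
    · exact (mul_eq_zero.1 e1).resolve_left h2
  exact ⟨m.1, m.2, e3, by simpa [e3] using e2⟩

theorem map_Z3 (h2 : (2 : K) ≠ 0) (h3 : (3 : K) ≠ 0) (h : PIso f ⊤ ⊤) : ∀ x ∈ Z3 K, f x ∈ Z3 K := fun x hx => by
  have k := up h (map_Z2 h3 h) (cm2 hx)
  have m := Z4_of fun y => (k y).2.2.1
  exact of4 m (by simpa [cm_c4 m, h2] using (k (xa 1)).2.2.2)

theorem map_Q2 (h3 : (3 : K) ≠ 0) (h : PIso f ⊤ ⊤) : ∀ x ∈ Q2 K, f x ∈ Q2 K := fun x hx => t_zero (by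
  rw [← h.apply_pinv (mem_top (xs 1)), ← pm h, ← pm h, Q22 hx (map_Z2 h3 h.symm _ (xs_mem 1))])

theorem map_Q1 (h3 : (3 : K) ≠ 0) (h : PIso f ⊤ ⊤) : ∀ x ∈ Q1 K, f x ∈ Q1 K := by
  by_cases h2 : (2 : K) = 0
  · have k : ∀ x ∈ Q1 K, x.t ≠ 0 → f x ∈ Q1 K := fun x hx n => by
      have q : x * x ∈ Z1 K := by simp [mem_Z1, mem_Q1.1 hx, ← two_mul, h2]
      have := (map_Z1 h3 h _ q).2.2.1
      rw [pm h, mul_b, ← two_mul, h2, zero_mul, zero_add] at this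
      exact (mul_eq_zero.1 this).resolve_left fun c => n (back h (map_Q2 h3 h) c)
    intro x hx
    by_cases n : x.t = 0
    · have := mul_mem (k (x * xt 1) (mul_mem hx rfl) (by simp [n])) (k (xt (-1)) rfl (by simp))
      rwa [← pm h, show x * xt 1 * xt (-1) = x by ext <;> simp <;> ring] at this
    · exact k x hx n
  · intro x hx
    have := (map_Z1 h3 h _ (cmQ1 hx (map_Z3 h2 h3 h.symm _ (xc_mem 1)).1)).2.2.2.2
    rw [pc h, h.apply_pinv trivial, cm_s3' _ (xc_mem 1)] at this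
    simpa [h3, mem_Q1] using this

theorem map_Q3 (h3 : (3 : K) = 0) (h : PIso f ⊤ ⊤) : (∀ x ∈ Q1 K, f x ∈ Q1 K) ∧ (∀ x ∈ Q2 K, f x ∈ Q2 K) ∨
    (∀ x ∈ Q1 K, f x ∈ Q2 K) ∧ ∀ x ∈ Q2 K, f x ∈ Q1 K := by
  have k : ∀ P : Subgroup (Gu K), (∀ x ∈ P, x.a * x.t = 0) → (∀ x ∈ P, f x ∈ Q1 K) ∨ ∀ x ∈ P, f x ∈ Q2 K :=
    fun P hP => by
      have c : ∀ x ∈ P, (f x).a = 0 ∨ (f x).t = 0 := fun x hx => mul_eq_zero.1 ((cube h3).1 (by
        rw [← pm h, ← pm h, (cube h3).2 (hP x hx), h.mul.map_one]))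
      by_contra n
      simp only [not_or, not_forall] at n
      obtain ⟨⟨x, hx, a⟩, y, hy, b⟩ := n
      have := c _ (mul_mem hx hy)
      rw [pm h, mul_a, mul_t, (c x hx).resolve_left a, (c y hy).resolve_right b, add_zero, zero_add] at this
      exact this.elim a b
  have n : ∀ P : Subgroup (Gu K), (∀ x ∈ Q1 K, f x ∈ P) → (∀ x ∈ Q2 K, f x ∈ P) → ∀ y, y ∈ P := fun P a b y => by
    obtain ⟨x, -, rfl⟩ := h.surj (mem_top y)
    rw [show x = x * xa (-x.a) * xa x.a by ext <;> simp <;> ring, pm h]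
    exact mul_mem (a _ (by simp [mem_Q1])) (b _ rfl)
  rcases k (Q1 K) (fun x hx => by rw [mem_Q1.1 hx, zero_mul]) with a | a <;>
    rcases k (Q2 K) (fun x hx => by rw [mem_Q2.1 hx, mul_zero]) with b | b
  exacts [absurd (n _ a b (xa 1)) one_ne_zero, .inl ⟨a, b⟩, .inr ⟨a, b⟩, absurd (n _ a b (xt 1)) one_ne_zero]

theorem exists_dg (h : PIso f ⊤ ⊤) (h1 : ∀ x ∈ Q1 K, f x ∈ Q1 K) (h2 : ∀ x ∈ Q2 K, f x ∈ Q2 K)
    (h3 : ∀ x ∈ Z3 K, f x ∈ Z3 K) : ∃ (α β : K) (τ : K ≃+* K), α ≠ 0 ∧ β ≠ 0 ∧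
      ∀ x, (f x).a = α * τ x.a ∧ (f x).t = β * τ x.t := by
  have h4 : ∀ x ∈ Z4 K, f x ∈ Z4 K := fun x hx => ⟨h1 x hx.1, h2 x hx.2⟩
  have b0 : ∀ a, (f (xt a)).a = 0 := fun a => h1 _ rfl
  have ia : ∀ a, (f (xa a)).a = 0 → a = 0 := fun a e => back h h1 (x := xa a) e
  have a1 := mt (ia 1) one_ne_zero
  have b1 : (f (xt 1)).t ≠ 0 := fun e => one_ne_zero (mem_Q2.1 (back h h2 (x := xt 1) e))
  let A : K →+ K := .mk' (fun a => (f (xa a)).a / (f (xa 1)).a) fun a b => by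
    rw [← add_div, ← mul_a, ← pm h, eq_a h h1 (y := xa a * xa b) (by simp)]
  have hA : ∀ a, (f (xa a)).a = (f (xa 1)).a * A a := fun a => (mul_div_cancel₀ _ a1).symm
  have A1 : A 1 = 1 := div_self a1
  have e1 : ∀ κ a, (f (xt κ)).t * A a = (f (xt 1)).t * A (κ * a) := fun κ a => mul_left_cancel₀ a1 (by
    have := eq_b h h4 h3 (cm4 (xt κ) (xa a)) (cm4 (xt 1) (xa (κ * a))) (by simp [cm_b])
    simp only [pc h, cm_b, b0, mul_zero, sub_zero, hA a, hA (κ * a)] at this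
    linear_combination this)
  have e2 : ∀ κ, (f (xt κ)).t = (f (xt 1)).t * A κ := fun κ => by simpa [A1] using e1 κ 1
  have e3 : ∀ κ a, A (κ * a) = A κ * A a := fun κ a => mul_left_cancel₀ b1 (by rw [← e1 κ, e2, mul_assoc])
  have iA : Injective A := (injective_iff_map_eq_zero A).2 fun a e => ia a (by rw [hA, e, mul_zero])
  let τ : K →+* K := ⟨⟨⟨A, A1⟩, e3⟩, A.map_zero, A.map_add⟩
  exact ⟨_, _, RingEquiv.ofBijective τ (Finite.injective_iff_bijective.1 iA), a1, b1,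
    fun x => ⟨(eq_a h h1 (x := x) (y := xa x.a) rfl).trans (hA _), (eq_t h h2 (x := x) (y := xt x.t) rfl).trans (e2 _)⟩⟩

theorem wts (h2 : (2 : K) ≠ 0) (h3 : (3 : K) ≠ 0) (h : PIso f ⊤ ⊤) : ∃ (α β : K) (τ : K ≃+* K), α ≠ 0 ∧ β ≠ 0 ∧
    (∀ x, (f x).a = α * τ x.a ∧ (f x).t = β * τ x.t) ∧ (∀ x ∈ Z4 K, (f x).b = α * β * τ x.b) ∧
      (∀ x ∈ Z3 K, (f x).c = α ^ 2 * β * τ x.c) ∧ (∀ x ∈ Z2 K, (f x).s = α ^ 3 * β * τ x.s) ∧
        ∀ x ∈ Z1 K, (f x).z = α ^ 3 * β ^ 2 * τ x.z := by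
  have m1 := map_Z1 h3 h
  have m2 := map_Z2 h3 h
  have m3 := map_Z3 h2 h3 h
  have m4 : ∀ x ∈ Z4 K, f x ∈ Z4 K := fun x hx => ⟨map_Q1 h3 h x hx.1, map_Q2 h3 h x hx.2⟩
  obtain ⟨α, β, τ, a0, b0, e⟩ := exists_dg h (map_Q1 h3 h) (map_Q2 h3 h) m3
  have eb : ∀ x ∈ Z4 K, (f x).b = α * β * τ x.b := fun x hx => by
    rw [eq_b h m4 m3 hx (cm4 (xt x.b) (xa 1)) (by simp [cm_b]), pc h]
    simp [cm_b, e]; ring
  have ec : ∀ x ∈ Z3 K, (f x).c = α ^ 2 * β * τ x.c := fun x hx => by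
    rw [eq_c h m3 m2 hx (cm3 (xb_mem (x.c / 2)) (xa 1)) (by simp [cm_c4 (xb_mem _)]; field_simp), pc h,
      cm_c4 (m4 _ (xb_mem _)), eb _ (xb_mem _)]
    simp [e, map_ofNat]; field_simp
  have es : ∀ x ∈ Z2 K, (f x).s = α ^ 3 * β * τ x.s := fun x hx => by
    rw [eq_s h m2 m1 hx (cm2 (xc_mem (x.s / 3)) (xa 1)) (by simp [cm_s3 (xc_mem _)]; field_simp), pc h,
      cm_s3 (m3 _ (xc_mem _)), ec _ (xc_mem _)]
    simp [e, map_ofNat]; field_simp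
  refine ⟨α, β, τ, a0, b0, e, eb, ec, es, fun x hx => ?_⟩
  rw [Z1_ext hx (cm1 (xs_mem x.z) (xt 1)) (by simp [cm_z2 (xs_mem _)]), pc h, cm_z2 (m2 _ (xs_mem _)), es _ (xs_mem _),
    cm_z2 (xs_mem _)]
  simp [e]; ring

end CF.FusG
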