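import Cfsg.Agent.FusG.B

/-! Essential subgroups of a Sylow `2`-subgroup of `G₂(2ⁿ)`. -/

set_option autoImplicit false
set_option linter.style.haveILetI false
set_option linter.unusedSimpArgs false

namespace CF.FusG

open Cfsg Cfsg.FusionSystem Subgroup CF.Fus CF.FusD CF.FusU Function Gu Matrix

namespace E2

variable {K : Type} [Field K] {x y z t a e u w : Gu K} {E : Subgroup (Gu K)} {p : ℕ}
  {Y M : Subgroup (MulAut E)} {g α : MulAut E}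

theorem three (q : (2 : K) = 0) : (3 : K) = 1 := by linear_combination q

theorem sq2 (q : (2 : K) = 0) (h : y ∈ Z2 K) : y * y = 1 := by
  ext <;> simp [h.1, h.2.1, h.2.2.1, h.2.2.2, ← two_mul, q]

theorem sq_fn (q : (2 : K) = 0) (h : y ∈ Z2 K) (m : y ∈ E) (g : MulAut E) : fn g y * fn g y = 1 := by
  rw [← mulOn_fn g m m, sq2 q h, (mulOn_fn g).map_one]

theorem inv_b (q : (2 : K) = 0) (h : u * u = 1) : u.t * u.a = 0 := by
  have := congrArg Gu.b h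
  simp only [mul_b, one_b] at this
  linear_combination this - u.b * q

theorem inv_c (q : (2 : K) = 0) (h : u * u = 1) (t0 : u.t = 0) (a0 : u.a ≠ 0) : u.c = u.a * u.b := by
  have := congrArg Gu.s h
  simp only [mul_s, one_s, t0] at this
  refine mul_left_cancel₀ a0 ?_
  linear_combination this - (u.s + u.a * u.c + 2 * u.a ^ 2 * u.b) * q

theorem inv_z (q : (2 : K) = 0) (h : u * u = 1) (h4 : u ∈ Z4 K) : u.b * u.c = 0 := by
  have := congrArg Gu.z h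
  simp only [mul_z, one_z, h4.1, h4.2] at this
  linear_combination this - (u.z + u.b * u.c) * q

theorem c42 (q : (2 : K) = 0) (h : x ∈ Z4 K) (y : Gu K) : cm x y ∈ Z2 K :=
  of3 (cm3 h y) (by rw [cm_c4 h, q]; ring)

theorem c42' (q : (2 : K) = 0) (x : Gu K) (h : y ∈ Z4 K) : cm x y ∈ Z2 K :=
  of3 (cm3' x h) (by rw [cm_c4' x h, q]; ring)

theorem cQ2 (q : (2 : K) = 0) (h : x ∈ Q2 K) (k : y ∈ Q2 K) : cm x y ∈ Z2 K :=
  of3 (cmQ2 h k) (by rw [cm_c2 h k, q]; ring)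

theorem z24 (h : x ∈ Q2 K) (k : y ∈ Z4 K) : (cm x y).z = 3 * x.b * y.c - 3 * x.c * y.b + 3 * x.a * y.b ^ 2 := by
  simp [cm_z, mem_Q2.1 h, k.1, k.2]

theorem cm_fn {B : Subgroup (Gu K)} (hB : g ∈ stab E B) (hy : y ∈ E) (h : ∀ x, cm y x ∈ B) (hx : x ∈ E) :
    cm (fn g y) x ∈ B := by
  rw [← fn_fn_inv g x, ← fn_cm g hy (fn_mem _ hx)]
  exact stab_maps hB (h _)

theorem fix4 (q : (2 : K) = 0) (h : u * u = 1) (h4 : u ∈ Z4 K) (a0 : x.a ≠ 0) (e : (cm u x).s = 0) : u ∈ Z2 K := by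
  have e1 := inv_z q h h4
  rw [cm_s1 h4.1, h4.2, three q] at e
  have e2 : u.c = x.a * u.b := mul_left_cancel₀ a0 (by linear_combination e - x.a ^ 2 * u.b * q)
  have e3 : u.b = 0 := by
    rw [e2] at e1
    simpa [a0] using e1
  exact ⟨h4.1, h4.2, e3, by rw [e2, e3, mul_zero]⟩

variable [Finite K] (h : Mn p ⊤ E Y M)
include h

omit [Finite K] in
theorem leZ1 : Z1 K ≤ E := fun _ hz => h.mem_of_comm trivial fun x _ => Z1_comm hz x

omit [Finite K] in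
theorem n2 (ha : a ∈ Z2 K) : a ∈ NS ⊤ E := h.mem_NS trivial fun x _ => leZ1 h (cm1' x ha)

omit [Finite K] in
theorem cenZ (hz : z ∈ Z1 K) (α : MulAut E) (he : e ∈ E) : e * fn α z = fn α z * e :=
  fn_comm α (leZ1 h hz) (fun e _ => Z1_comm hz e) he

theorem dZ1 : ∃ C, C ≤ Z1 K ∧ (∀ x ∈ C, ∀ α ∈ Y, fn α x = x) ∧ ∀ x ∈ Z1 K, ∀ g ∈ Y, g ∉ M → ∀ t ∈ NS ⊤ E, t ∉ E →
    (fn g x * t = t * fn g x → x ∈ C) ∧ (cm (fn g x) t ∈ C → fn g x ∈ Z1 K) :=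
  let ⟨C, _, c1, c2, c3⟩ := FusT.d0 h (leZ1 h) le_stab_bot
    (fun t _ => nrm (fun x hx y => by rw [mem_bot.1 hx]; simp [cm]) t) bot_le fun n _ x hx => mem_bot.2 (cm0 hx n)
  ⟨C, c1, fun x hx α hα => (inv_mul_eq_one.1 (mem_bot.1 (c2 x hx α hα))).symm, fun x hx g hg gn t ht tn =>
    ⟨fun e => (c3 x hx g hg gn t ht tn).1 (mem_bot.2 (cm_eq_one.2 e)), (c3 x hx g hg gn t ht tn).2⟩⟩

variable [Fact p.Prime] (q : (2 : K) = 0)
include q

theorem leZ2 : Z2 K ≤ E := fun a ha => by_contra fun an => by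
  obtain ⟨C, c1, c2, c3⟩ := dZ1 h
  obtain ⟨g, hg, gn⟩ := h.exg
  have k0 : ∀ z ∈ Z1 K, (fn g z).t = 0 → z ∈ C := fun z hz e => (c3 z hz g hg gn a (n2 h ha) an).1 (Q22 e ha)
  have k1 : ∀ z ∈ C, z = 1 := fun z hz => by_contra fun z0 => by
    obtain ⟨w, hw, wn⟩ : ∃ w ∈ Z1 K, w ∉ C := by
      by_contra! c
      exact an (h.ch2 (le_stab (leZ1 h) fun α hα x hx => by rwa [c2 x (c x hx) α hα]) (n2 h ha) (fun x _ => cm1' x ha)
        fun x _ hx => cm0 hx a)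
    obtain ⟨t, ht, e⟩ := exists_cm2 (mt (k0 w hw) wn) (c1 hz)
    exact wn (k0 w hw ((c3 w hw g hg gn t (n2 h ht) fun c => z0 (by rw [← e, cm_eq_one, cenZ h hw g c])).2
      (e ▸ hz)).2.1)
  have k2 : ∀ x ∈ E, ∀ y ∈ E, cm x y ∈ Z1 K → cm x y = 1 := fun x hx y hy e =>
    k1 _ (k0 _ e (by simp [fn_cm g hx hy]))
  have z1 := xz_mem (1 : K)
  have z0 : xz (1 : K) ≠ 1 := fun e => one_ne_zero (congrArg Gu.z e)
  have s0 := mt (fun e => k1 _ (k0 _ z1 e)) z0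
  have c4 := fun e => cenZ h z1 g (e := e)
  have c5 := fun t ht tn e => z0 (k1 _ ((c3 _ z1 g hg gn t ht tn).1 e))
  have a0 : (fn g (xz 1)).a = 0 := by simpa [s0] using inv_b q (sq_fn q (l12 z1) (leZ1 h z1) g)
  generalize fn g (xz 1) = w at *
  have l : ∀ t ∈ Q1 K, (cm w t).z = 0 → t ∈ E := fun t ht e => by_contra fun tn => c5 t (h.mem_NS trivial fun x hx =>
    leZ1 h (cmQ1 (by simpa [a0, s0, mem_Q1] using comm_b (c4 x hx)) ht)) tn (cm_eq_one.1 (of1 (cmQ1 a0 ht) e))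
  have m1 := l ⟨0, 0, 1, 0, -3 * w.c / w.t, 0⟩ rfl (by rw [cm_z1 a0 rfl]; field_simp; ring)
  have m2 := l ⟨0, 0, 0, 1, 3 * w.b / w.t, 0⟩ rfl (by rw [cm_z1 a0 rfl]; field_simp; ring)
  have := congrArg Gu.z (k2 _ m1 _ m2 (cmQ1 rfl rfl))
  rw [cm_z1 rfl rfl] at this
  simp [three q] at this

theorem n4 (ht : t ∈ Z4 K) : t ∈ NS ⊤ E := h.mem_NS trivial fun x _ => leZ2 h q (c42' q x ht)

theorem al_a (hg : g ∈ Y) (gn : g ∉ M) (hz : z ∈ Z1 K) (hE : ∀ x, x ∈ E ↔ fn g z * x = x * fn g z) :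
    (fn g z).a = 0 := by
  by_contra a0
  have l2 := leZ2 h q
  have sq := sq_fn q (l12 hz) (leZ1 h hz) g
  have hu : (fn g z).t = 0 := t_zero ((hE _).1 (l2 (xs_mem 1)))
  have c0 := inv_c q sq hu a0
  have k : ∀ x ∈ E, x.t = 0 ∧ (fn g z).a * x.b = x.a * (fn g z).b ∧ (x.a = 0 → x.c = 0) := fun x hx => by
    have e := (hE x).1 hx
    generalize fn g z = u at *
    have t0 : x.t = 0 := by simpa [hu, a0] using comm_b e
    have e1 := congrArg Gu.s e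
    have e2 := congrArg Gu.z e
    simp only [mul_s, mul_z, hu, t0, c0, three q] at e1 e2
    have e3 : u.a * x.b = x.a * u.b := by
      have : (u.a * x.b - x.a * u.b) ^ 2 = 0 := by grind
      exact sub_eq_zero.1 (pow_eq_zero_iff two_ne_zero |>.1 this)
    refine ⟨t0, e3, fun x0 => mul_left_cancel₀ a0 ?_⟩
    rw [x0] at e1 e3
    linear_combination e1 - u.a * e3
  have k2 : ∀ x ∈ E, x.a = 0 → x ∈ Z2 K := fun x hx e =>
    ⟨e, (k x hx).1, by simpa [e, a0] using (k x hx).2.1, (k x hx).2.2 e⟩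
  obtain ⟨C, -, c1, c2, c3⟩ := FusT.d0 h l2 le_stab_bot
    (fun t _ => nrm (fun x hx y => by rw [mem_bot.1 hx]; simp [cm]) t) bot_le fun n hn x hx => by
      have := (k2 _ (cm_mem (fn_mem g (leZ1 h hz)) hn.2) (cm_a _ _)).2.2.1
      exact mem_bot.2 (cm_eq_one.2 (Q22 (by simpa [cm_b, hu, a0, mem_Q2] using this) hx).symm)
  have n1 : xc (1 : K) ∉ E := fun m => one_ne_zero (k2 _ m rfl).2.2.2
  have k3 : ∀ y ∈ Z2 K, (fn g y).a = 0 → y ∈ C := fun y hy e =>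
    (c3 y hy g hg gn _ (n4 h q (l34 (xc_mem 1))) n1).1
      (mem_bot.2 (cm_eq_one.2 (Z33 (l23 (k2 _ (fn_mem g (l2 hy)) e)) (xc_mem 1))))
  have k4 : ∀ y ∈ Z2 K, ∀ y' ∈ Z2 K, (fn g y).a = (fn g y').a → y⁻¹ * y' ∈ C := fun y hy y' hy' e =>
    k3 _ (mul_mem (inv_mem hy) hy') (by rw [(mulOn_fn g).map_inv_mul (l2 hy) (l2 hy')]; simp [e])
  obtain ⟨w, hw, w0⟩ : ∃ w ∈ C, w ≠ 1 := by
    by_contra! c
    obtain ⟨s, e⟩ := (Finite.injective_iff_surjective (f := fun s : K => (fn g (xs s)).a)).1 (fun s s' e => by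
      simpa [neg_add_eq_zero] using congrArg Gu.s (c _ (k4 _ (xs_mem s) _ (xs_mem s') e))) (fn g (xz 1)).a
    simpa using congrArg Gu.z (c _ (k4 _ (xs_mem s) _ (l12 (xz_mem 1)) e))
  haveI : CharP K 2 := CharTwo.of_one_ne_zero_of_two_eq_zero one_ne_zero q
  obtain ⟨b, hb⟩ := (Finite.injective_iff_surjective.1 (frobenius_inj K 2))
    ((w.z + (fn g z).b / (fn g z).a * w.s) / (fn g z).a)
  rw [frobenius_def] at hb
  have t4 : (⟨0, 0, b, w.s / (fn g z).a + (fn g z).a * b, 0, 0⟩ : Gu K) ∈ Z4 K := ⟨rfl, rfl⟩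
  have e : cm (fn g z) ⟨0, 0, b, w.s / (fn g z).a + (fn g z).a * b, 0, 0⟩ = w :=
    Z2_ext (c42' q _ t4) (c1 hw) (by rw [cm_s4' _ t4, three q]; field_simp; linear_combination (-w.s) * q)
      (by
        rw [z24 hu t4, three q, c0, hb]; field_simp
        linear_combination (fn g z).b * w.s * q)
  exact a0 ((c3 z (l12 hz) g hg gn _ (n4 h q t4) fun m => w0 (e.symm.trans (cm_eq_one.2 ((hE _).1 m)))).2
    (by rw [e]; exact hw)).1

theorem alpha (c : ¬ Y ≤ stab E (Z1 K)) : E = Q2 K := by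
  obtain ⟨g, hg, gn⟩ := h.exg
  obtain ⟨z, hz, n⟩ := h.moves (leZ1 h) (fun n _ x hx => cm1 (l12 hx) n) c hg gn
  obtain ⟨C, c1, c2, c3⟩ := dZ1 h
  have z1 := leZ1 h hz
  have l2 := leZ2 h q
  have hE : ∀ x, x ∈ E ↔ fn g z * x = x * fn g z := fun x => ⟨fun m => (cenZ h hz g m).symm, fun m =>
    FusT.eq_cen h (D := ⊥) (fn_mem g z1) (nrm fun x hx y => by rw [mem_bot.1 hx]; simp [cm])
      (fun e he => mem_bot.2 (cm_eq_one.2 (cenZ h hz g he).symm)) (fun t ht e => by_contra fun tn =>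
        n (by rwa [c2 z ((c3 z hz g hg gn t ht tn).1 (cm_eq_one.1 e)) g hg])) trivial (mem_bot.2 (cm_eq_one.2 m))⟩
  have u4 : fn g z ∈ Z4 K := ⟨al_a h q hg gn hz hE, t_zero ((hE _).1 (l2 (xs_mem 1)))⟩
  have sq := sq_fn q (l12 hz) z1 g
  have u2 : fn g z ∈ Z2 K := by_contra fun u2 => by
    have l : E ≤ Q1 K := fun x hx => by_contra fun a0 =>
      u2 (fix4 q sq u4 a0 (by rw [cm_eq_one.2 ((hE x).1 hx)]; rfl))
    obtain ⟨b, c, e⟩ : ∃ b c, (fn g z).s + 3 * (fn g z).b * c - 3 * (fn g z).c * b = 0 := by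
      by_cases b0 : (fn g z).b = 0
      · have c0 := mt (of3 (of4 u4 b0)) u2
        exact ⟨(fn g z).s / (fn g z).c, 0, by rw [three q]; field_simp; ring⟩
      · exact ⟨0, -(fn g z).s / (fn g z).b, by rw [three q]; field_simp; ring⟩
    have m := (hE ⟨0, 1, b, c, 0, 0⟩).2 (cm_eq_one.1 (of1 (cmQ1 u4.1 rfl) (by
      rw [cm_z1 u4.1 rfl]; linear_combination e)))
    obtain ⟨a, ha, rfl⟩ := exists_cm2 (x := (⟨0, 1, b, c, 0, 0⟩ : Gu K)) one_ne_zero hz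
    exact n (fn_cm g m (l2 ha) ▸ cmQ1 (l (fn_mem g m)) (l (fn_mem g (l2 ha))))
  exact Subgroup.ext fun x => by rw [hE, eq_comm, Z2_comm u2, mul_eq_zero_iff_right (mt (of2 u2) n), mem_Q2]

variable (i1 : Y ≤ stab E (Z1 K))
include i1

theorem beta (c : ¬ Y ≤ stab E (Z2 K)) : E = Q1 K := by
  obtain ⟨g, hg, gn⟩ := h.exg
  have l2 := leZ2 h q
  obtain ⟨y, hy, n⟩ := h.moves l2 (fun n _ x hx => l12 (cm1 hx n)) c hg gn
  obtain ⟨C, c0, c1, c2, c3⟩ := FusT.d0 h l2 i1 (fun t _ => nZ1 t) l12 fun n _ x hx => cm1 hx n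
  have k0 : ∀ x ∈ E, cm (fn g y) x ∈ Z1 K := fun x => cm_fn (i1 hg) (l2 hy) (cm1 hy)
  have hE : ∀ x, cm (fn g y) x ∈ Z1 K → x ∈ E := fun x => FusT.eq_cen h (fn_mem g (l2 hy)) nZ1 k0
    (fun t ht e => by_contra fun tn => n (by simpa using mul_mem hy (l12 (c2 y ((c3 y hy g hg gn t ht tn).1 e) g hg))))
    trivial
  have sq := sq_fn q hy (l2 hy) g
  by_cases a0 : (fn g y).a = 0
  · have l : E ≤ Q1 K := fun x hx => by_contra fun x0 => n (fix4 q sq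
      ⟨a0, by simpa [cm_b, a0, show x.a ≠ 0 from x0] using (k0 x hx).2.2.1⟩ x0 (k0 x hx).2.2.2.2)
    exact le_antisymm l fun t ht => h.ch2 i1 (h.mem_NS trivial fun _ hx => leZ1 h (cmQ1 (l hx) ht))
      (fun _ hx => cmQ1 (l hx) ht) fun _ _ hx => cm0 hx t
  exfalso
  have t0 : (fn g y).t = 0 := by simpa [a0] using inv_b q sq
  have t4 : (⟨0, 0, 1, (fn g y).a, 0, 0⟩ : Gu K) ∈ Z4 K := ⟨rfl, rfl⟩
  have := congrArg Gu.z (cm_eq_one.2 (fn_comm g (l2 hy) (fun e he => Q22 (by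
    simpa [cm_b, t0, a0, mem_Q2] using (k0 e he).2.2.1) hy) (hE _ (of2 (c42' q _ t4) (by rw [cm_s4' _ t4]; ring)))).symm)
  rw [z24 t0 t4, inv_c q sq t0 a0] at this
  exact a0 (by simp only [three q, one_z] at this; linear_combination this)

theorem gamma (i2 : Y ≤ stab E (Z2 K)) : E = Q2 K := by
  have l2 := leZ2 h q
  have l4 : Z4 K ≤ E := fun t ht => h.ch2 i2 (n4 h q ht) (fun x _ => c42' q x ht)
    fun x _ hx => cm_eq_one.2 (Q22 ht.2 hx).symm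
  have l : E ≤ Q2 K := fun e he => by_contra fun e0 => by
    have j2 : Y ≤ stab E (E ⊓ Q2 K) := stab_of_char inf_le_left le_stab_top i2 le_stab_bot fun x hx =>
      ⟨fun m => ⟨trivial, fun y _ hy => mem_bot.2 (cm_eq_one.2 (Q22 m.2 hy))⟩,
        fun m => ⟨hx, t_zero (cm_eq_one.1 (mem_bot.1 (m.2 _ (l2 (xs_mem 1)) (xs_mem 1))))⟩⟩
    have j4 : Y ≤ stab E (Z4 K) := stab_of_char l4 j2 le_stab_top i2 fun x hx =>
      ⟨fun m => ⟨⟨hx, m.2⟩, fun y _ _ => c42 q m y⟩, fun m => ⟨by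
        simpa [cm_b, mem_Q2.1 m.1.2, show e.t ≠ 0 from e0] using (m.2 e he trivial).2.2.1, m.1.2⟩⟩
    obtain ⟨t, ht, tn⟩ := h.ext
    exact tn (h.ch4 i1 i2 j4 ht (fun x _ => cm4 x t) (fun x _ hx => c42 q hx t) (fun x _ hx => cm1 hx t)
      fun x _ hx => cm0 hx t)
  exact le_antisymm l fun t ht => h.ch2 i2 (h.mem_NS trivial fun _ hx => l2 (cQ2 q (l hx) ht))
    (fun _ hx => cQ2 q (l hx) ht) fun x _ hx => cm_eq_one.2 (Q22 ht hx).symm

end E2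

variable {K : Type} [Field K] [Finite K] {p : ℕ} [Fact p.Prime] [CharP K p] {F : FusionSystem (⊤ : Subgroup (Gu K))}

omit [CharP K p] in
theorem es2 (h2 : (2 : K) = 0) (hF : Sat F p) : Es F p := fun P hP => by
  obtain ⟨Y, M, h⟩ := exists_mn hF hP
  by_cases i1 : Y ≤ stab P (Z1 K)
  · by_cases i2 : Y ≤ stab P (Z2 K)
    · exact .inr (E2.gamma h h2 i1 i2)
    · exact .inl (E2.beta h h2 i1 i2)
  · exact .inr (E2.alpha h h2 i1)

end CF.FusG
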