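import Cfsg.Agent.FusG.KA

/-! Essential subgroups of a Sylow `3`-subgroup of `G₂(3ⁿ)`. -/

set_option autoImplicit false
set_option linter.style.haveILetI false
set_option linter.unusedSimpArgs false
set_option linter.unusedSectionVars false

namespace CF.FusG

open Cfsg Cfsg.FusionSystem Subgroup CF.Fus CF.FusD CF.FusU Function Gu Matrix KA

variable {K : Type} [Field K] [Finite K] {p : ℕ} [Fact p.Prime] [CharP K p]
  {F : FusionSystem (⊤ : Subgroup (Gu K))} {E : Subgroup (Gu K)} {Y M : Subgroup (MulAut E)} {x y z u : Gu K}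
  {g : MulAut E} {k : K}

namespace E3

theorem nbot (t : Gu K) : t ∈ normalizer ((⊥ : Subgroup (Gu K)) : Set (Gu K)) :=
  nrm (fun x hx y => by rw [mem_bot.1 hx]; simp [cm]) t

theorem dbot {A : Subgroup (Gu K)} (h : Mn p ⊤ E Y M) (hA : A ≤ E) (h1 : ∀ n ∈ NS ⊤ E, ∀ x ∈ A, x * n = n * x) :
    ∃ C, C ≤ A ∧ (∀ x ∈ C, ∀ α ∈ Y, fn α x = x) ∧ ∀ x ∈ A, ∀ g ∈ Y, g ∉ M → ∀ t ∈ NS ⊤ E, t ∉ E →
      (fn g x * t = t * fn g x → x ∈ C) ∧ (cm (fn g x) t ∈ C → fn g x ∈ A) :=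
  let ⟨C, _, c1, c2, c3⟩ := FusT.d0 h hA le_stab_bot (fun t _ => nbot t) bot_le
    fun n hn x hx => mem_bot.2 (cm_eq_one.2 (h1 n hn x hx))
  ⟨C, c1, fun x hx α hα => (inv_mul_eq_one.1 (mem_bot.1 (c2 x hx α hα))).symm, fun x hx g hg gn t ht tn =>
    ⟨fun e => (c3 x hx g hg gn t ht tn).1 (mem_bot.2 (cm_eq_one.2 e)), (c3 x hx g hg gn t ht tn).2⟩⟩

variable (h3 : (3 : K) = 0)
include h3

theorem comm3 : x * y = y * x ↔ y.t * x.a = x.t * y.a ∧ 2 * x.a * y.b + y.t * x.a ^ 2 = 2 * y.a * x.b + x.t * y.a ^ 2 ∧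
    y.t * x.a ^ 3 = x.t * y.a ^ 3 ∧ y.t ^ 2 * x.a ^ 3 - y.t * x.s = x.t ^ 2 * y.a ^ 3 - x.t * y.s := by
  simp only [Gu.ext_iff, mul_a, mul_t, mul_b, mul_c, mul_s, mul_z, h3, zero_mul, add_zero]
  exact ⟨fun h => ⟨by linear_combination h.2.2.1, by linear_combination h.2.2.2.1, by linear_combination h.2.2.2.2.1,
    by linear_combination h.2.2.2.2.2⟩, fun h => ⟨by ring, by ring, by linear_combination h.1,
      by linear_combination h.2.1, by linear_combination h.2.2.1, by linear_combination h.2.2.2⟩⟩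

theorem ZS_comm (hz : z ∈ ZS K) (x : Gu K) : x * z = z * x := by simp [comm3 h3, hz.1, hz.2.1, hz.2.2.1, hz.2.2.2]

theorem mem_cm : cm x y ∈ ZS K ↔ x.t * y.a = y.t * x.a ∧ x.t * y.a ^ 3 = y.t * x.a ^ 3 := by
  simp only [mem_ZS, cm_a, cm_t, cm_b, cm_s, h3, show (6 : K) = 0 by linear_combination 2 * h3, true_and, zero_mul,
    sub_zero, add_zero, zero_add, sub_eq_zero]

variable (h : Mn p ⊤ E Y M)
include h

theorem leZS : ZS K ≤ E := fun _ hz => h.mem_of_comm trivial fun x _ => ZS_comm h3 hz x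

theorem caseI (c : Y ≤ stab E (ZS K)) : E = Q1 K ∨ E = Q2 K := by
  have k : ∀ s, (∀ x ∈ E, cm x s ∈ ZS K) → s ∈ E := fun s q =>
    h.ch2 c (h.mem_NS trivial fun x hx => leZS h3 h (q x hx)) q fun x _ hx => cm_eq_one.2 (ZS_comm h3 hx s).symm
  have l4 : Z4 K ≤ E := fun s hs => k s fun x _ => by simp [mem_cm h3, hs.1, hs.2]
  by_contra n
  rw [not_or] at n
  obtain ⟨x, hx, a⟩ : ∃ x ∈ E, x.a ≠ 0 := by
    by_contra! q
    exact n.1 (le_antisymm q fun s hs => k s fun x hx => by simp [mem_cm h3, mem_Q1.1 hs, q x hx])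
  obtain ⟨y, hy, b⟩ : ∃ x ∈ E, x.t ≠ 0 := by
    by_contra! q
    exact n.2 (le_antisymm q fun s hs => k s fun x hx => by simp [mem_cm h3, mem_Q2.1 hs, q x hx])
  have c4 : Y ≤ stab E (Z4 K) := le_stab l4 fun α hα w hw => by
    have m := l4 hw
    have e : ∀ v ∈ E, (fn α w).t * v.a = v.t * (fn α w).a := fun v hv => ((mem_cm h3).1 (by
      rw [← fn_fn_inv α v, ← fn_cm α m (fn_mem _ hv)]
      exact stab_maps (c hα) (by simp [mem_cm h3, hw.1, hw.2]))).1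
    have e1 : (fn α w).a * (fn α w).t = 0 := (CH.cube h3).1 (by
      rw [← mulOn_fn α m m, ← mulOn_fn α (mul_mem m m) m, (CH.cube h3).2 (by rw [hw.1, zero_mul]), (mulOn_fn α).map_one])
    rcases mul_eq_zero.1 e1 with q | q
    · exact ⟨q, by simpa [q, a] using e x hx⟩
    · exact ⟨by simpa [q, b] using e y hy, q⟩
  obtain ⟨t, ht, tn⟩ := h.ext
  exact tn (h.ch3 c c4 ht (fun x _ => cm4 x t) (fun x _ hx => by simp [mem_cm h3, hx.1, hx.2])
    fun x _ hx => cm_eq_one.2 (ZS_comm h3 hx t).symm)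

theorem caseII (c : ¬ Y ≤ stab E (ZS K)) : (E = Q1 K ∨ E = Q2 K) ∨ (∃ k, ∀ x, x ∈ E ↔ x.a = 0 ∧ x.s = k * x.t) ∨
    ∃ k, ∀ x, x ∈ E ↔ x.t = 0 ∧ x.b = k * x.a := by
  have h2 := two_ne h3
  have l := leZS h3 h
  obtain ⟨g, hg, gn⟩ := h.exg
  obtain ⟨z, hz, n⟩ := h.moves l (fun n _ x hx => by simp [mem_cm h3, hx.1, hx.2.1]) c hg gn
  obtain ⟨C, c1, c2, c3⟩ := dbot h l fun n _ x hx => (ZS_comm h3 hx n).symm
  have z1 := l hz
  have cen : ∀ e ∈ E, e * fn g z = fn g z * e := fun e => fn_comm g z1 fun e _ => ZS_comm h3 hz e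
  have hE : ∀ x, x ∈ E ↔ x * fn g z = fn g z * x := fun x => ⟨cen x, fun m =>
    FusT.eq_cen h (D := ⊥) (fn_mem g z1) nbot (fun e he => mem_bot.2 (cm_eq_one.2 (cen e he).symm))
      (fun t ht e => by_contra fun tn => n (by rwa [c2 z ((c3 z hz g hg gn t ht tn).1 (cm_eq_one.1 e)) g hg])) trivial
      (mem_bot.2 (cm_eq_one.2 m.symm))⟩
  have e1 : (fn g z).a * (fn g z).t = 0 := (CH.cube h3).1 (by
    rw [← mulOn_fn g z1 z1, ← mulOn_fn g (mul_mem z1 z1) z1, (CH.cube h3).2 (by rw [hz.1, zero_mul]),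
      (mulOn_fn g).map_one])
  have c4 := (c3 z hz g hg gn · · · |>.2)
  generalize fn g z = u at *
  simp only [comm3 h3] at hE
  by_cases t0 : u.t = 0
  swap
  · have a0 := (mul_eq_zero.1 e1).resolve_right t0
    refine .inr (.inl ⟨u.s / u.t, fun x => (hE x).trans ⟨fun q => ?_, fun q => by
      simp only [q, a0]; field_simp; simp⟩⟩)
    have : x.a = 0 := by simpa [a0, t0] using q.1
    refine ⟨this, ?_⟩
    have q' := q.2.2.2
    simp only [this, a0] at q'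
    field_simp
    linear_combination -q'
  by_cases a0 : u.a = 0
  swap
  · refine .inr (.inr ⟨u.b / u.a, fun x => (hE x).trans ⟨fun q => ?_, fun q => by
      simp only [q, t0]; field_simp; simp [mul_assoc, mul_left_comm]⟩⟩)
    have : x.t = 0 := by simpa [a0, t0] using q.1
    refine ⟨this, ?_⟩
    have q' := q.2.1
    simp only [this, t0] at q'
    field_simp
    exact mul_left_cancel₀ h2 (by linear_combination -q')
  have hE' : ∀ x, x ∈ E ↔ x.a * u.b = 0 ∧ x.t * u.s = 0 := fun x => by simp [hE, t0, a0, h2]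
  by_cases s0 : u.s = 0
  · have b0 : u.b ≠ 0 := fun q => n ⟨a0, t0, q, s0⟩
    exact .inl (.inl (Subgroup.ext fun x => by simp [hE', s0, b0, mem_Q1]))
  by_cases b0 : u.b = 0
  · exact .inl (.inr (Subgroup.ext fun x => by simp [hE', s0, b0, mem_Q2]))
  exfalso
  have e4 : ∀ x, x ∈ E ↔ x ∈ Z4 K := fun x => by simp [hE', s0, b0, mem_Z4]
  have ns : ∀ t, t ∈ NS ⊤ E := fun t => h.mem_NS trivial fun x _ => (e4 _).2 (cm4 x t)
  have k1 : ∀ w ∈ C, w = 1 := fun w hw => by_contra fun w0 => by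
    obtain ⟨w1, w2, w3, w4⟩ := c1 hw
    have e : cm u ⟨w.c / (2 * u.b), w.z / u.s, 0, 0, 0, 0⟩ = w := by
      refine Gu.ext (by simp [w1]) (by simp [w2]) (by simp [cm_b, w3, t0, a0]) ?_ (by simp [cm_s, w4, t0, a0, h3]) ?_
      · simp [cm_c, t0, a0]; field_simp
      · simp [cm_z, t0, a0, h3]; field_simp
    exact n (c4 _ (ns _) (fun m => w0 (by
      obtain ⟨m1, m2⟩ := (e4 _).1 m
      rw [← e, cm_eq_one, comm3 h3, m1, m2, a0, t0]; simp)) (e ▸ hw))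
  have m : ∀ v : K × K, (⟨0, 0, 0, v.1, 0, v.2⟩ : Gu K) ∈ ZS K := fun v => ⟨rfl, rfl, rfl, rfl⟩
  have := Nat.card_le_card_of_injective (fun v : K × K => (fn g ⟨0, 0, 0, v.1, 0, v.2⟩).b) fun v w e => by
    have m1 := mul_mem (inv_mem (m v)) (m w)
    have m2 := (e4 _).1 (fn_mem g (l m1))
    have m3 := (e4 _).1 (fn_mem g (l (m v)))
    have := k1 _ ((c3 _ m1 g hg gn (xa 1) (ns _) (by simp [e4, mem_Z4])).1 (by
      have : (fn g ((⟨0, 0, 0, v.1, 0, v.2⟩ : Gu K)⁻¹ * ⟨0, 0, 0, w.1, 0, w.2⟩)).b = 0 := by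
        rw [(mulOn_fn g).map_inv_mul (l (m v)) (l (m w))]
        simpa [m3.1, neg_add_eq_zero] using e
      simp [comm3 h3, m2.1, m2.2, this]))
    rw [inv_mul_eq_one, Gu.mk.injEq] at this
    exact Prod.ext this.2.2.2.1 this.2.2.2.2.2
  rw [Nat.card_prod] at this
  have := Finite.one_lt_card (α := K)
  nlinarith

omit h in
theorem kill (hF : Sat F p) (hE : ∀ x, x ∈ E ↔ x.a = 0 ∧ x.s = k * x.t) : ¬ F.IsEssential p E := fun es => by
  obtain ⟨Y, M, h, sy, yl⟩ := exists_mn2 hF es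
  haveI : Finite Y := inferInstance
  have lq : E ≤ Q1 K := fun x hx => ((hE x).1 hx).1
  have la : A1 K ≤ E := fun x hx => (hE x).2 ⟨hx.1, by rw [hx.2.1, hx.2.2, mul_zero]⟩
  have l1 : Z1 K ≤ A1 K := fun x hx => ⟨hx.1, hx.2.1, hx.2.2.2.2⟩
  have ia : ∀ x ∈ E, x.t = 0 → x ∈ A1 K := fun x hx e => ⟨lq hx, e, by rw [((hE x).1 hx).2, e, mul_zero]⟩
  have x1 : ∀ t, (⟨0, t, 0, 0, k * t, 0⟩ : Gu K) ∈ E := fun t => (hE _).2 ⟨rfl, rfl⟩
  have ns : NS ⊤ E = Q1 K := le_antisymm (fun t ht => by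
    have := ((hE _).1 (cm_mem (x1 1) ht.2)).2
    rw [cm_s1 rfl, cm_t] at this
    simpa [mem_Q1] using this) fun t ht => h.mem_NS trivial fun x hx => la (l1 (cmQ1 (lq hx) ht))
  obtain ⟨g, hg, gn⟩ := h.exg
  obtain ⟨C, c1, c2, c3⟩ := dbot h la fun n hn x hx => (A1_comm h3 (ns ▸ hn) hx).symm
  have s1 : ∀ s : K, xs s ∈ NS ⊤ E := fun s => ns ▸ rfl
  have s2 : ∀ s : K, xs s ∈ E → s = 0 := fun s m => by simpa using ((hE _).1 m).2
  have k0 : ∀ y ∈ A1 K, (fn g y).t = 0 → y ∈ C := fun y hy e =>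
    (c3 y hy g hg gn _ (s1 1) (mt (s2 1) one_ne_zero)).1 (A1_comm h3 rfl (ia _ (fn_mem g (la hy)) e)).symm
  obtain ⟨y, hy, y0⟩ : ∃ y ∈ A1 K, (fn g y).t ≠ 0 := by
    by_contra! q
    exact one_ne_zero (s2 1 (h.ch2 (le_stab la fun α hα x hx => by rwa [c2 x (k0 x hx (q x hx)) α hα]) (s1 1)
      (fun x hx => l1 (cmQ1 (lq hx) rfl)) fun x _ hx => cm_eq_one.2 (A1_comm h3 rfl hx).symm))
  have k1 : ∀ z, xz z ∈ C → z = 0 := fun z hz => by_contra fun z0 => by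
    have e : cm (fn g y) (xs (-z / (fn g y).t)) = xz z :=
      Z1_ext (cm1' _ (xs_mem _)) (xz_mem z) (by rw [cm_z2' _ (xs_mem _), xs_s, xz_z]; field_simp)
    exact y0 ((c3 y hy g hg gn _ (s1 _) (mt (s2 _) (by simp [z0, y0]))).2 (e ▸ hz)).2.1
  have zm : ∀ z : K, xz z ∈ E := fun z => la (l1 (xz_mem z))
  have ad : ∀ x ∈ E, ∀ y ∈ E, (fn g (x * y)).t = (fn g x).t + (fn g y).t := fun x hx y hy => by
    rw [mulOn_fn g hx hy, mul_t]
  let φ0 : K →+ K := .mk' (fun z => (fn g (xz z)).t) fun a b => by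
    rw [← ad _ (zm a) _ (zm b), show xz a * xz b = xz (a + b) by ext <;> simp]
  have i0 : Injective φ0 := (injective_iff_map_eq_zero φ0).2 fun z e => k1 z (k0 _ (l1 (xz_mem z)) e)
  obtain ⟨φ, hφ⟩ : ∃ φ : K ≃+ K, ∀ z, φ z = (fn g (xz z)).t :=
    ⟨AddEquiv.ofBijective φ0 (Finite.injective_iff_bijective.1 i0), fun _ => rfl⟩
  obtain ⟨π, hπ⟩ : ∃ π : Gu K → K × K, ∀ x, π x = (φ.symm (fn g x).t, x.t) := ⟨_, fun _ => rfl⟩
  have pm : ∀ x ∈ E, ∀ y ∈ E, π (x * y) = π x + π y := fun x hx y hy => by simp [hπ, ad x hx y hy]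
  have pz : ∀ z, π (xz z) = (z, 0) := fun z => by simp [hπ, ← hφ]
  have pk : ∀ x ∈ E, π x = 0 → x ∈ C := fun x hx e => by
    rw [hπ, Prod.mk_eq_zero, map_eq_zero_iff _ φ.symm.injective] at e
    exact k0 x (ia x hx e.2) e.1
  have pc : ∀ x ∈ C, π x = 0 := fun x hx => by simp [hπ, c2 x hx g hg, (c1 hx).2.1]
  have ps : ∀ v, ∃ x ∈ E, π x = v := fun v => ⟨_, mul_mem (zm (v.1 - (π ⟨0, v.2, 0, 0, k * v.2, 0⟩).1)) (x1 v.2), by
    rw [pm _ (zm _) _ (x1 _), pz]; exact Prod.ext (by simp) (by simp [hπ])⟩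
  obtain ⟨σ, r, e⟩ := exists_rp Y π pm ps fun α hα x hx q => by rw [c2 x (pk x hx q) α hα, q]
  have act : ∀ t ∈ Q1 K, ∀ v, σ (cA E t) v = (v.1 + (k * t.t - t.s) * v.2, v.2) := fun t ht v => by
    obtain ⟨x, hx, rfl⟩ := ps v
    have m := cmQ1 (lq hx) ht
    rw [e _ (h.cA_mem trivial) x hx, fn_cA (ns.ge ht).2 hx, ← mul_cm, pm x hx _ (la (l1 m)), eq_xz m, pz,
      cm_z1 (lq hx) ht, ((hE x).1 hx).2]
    exact Prod.ext (by simp [hπ, h3]; ring) (by simp)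
  have act' : ∀ t ∈ autInducedBy ⊤ E, ∃ s, ∀ v, σ t v = (v.1 + s * v.2, v.2) := fun t ht => by
    obtain ⟨n, n1, n2, rfl⟩ := mem_autInducedBy.1 ht
    exact ⟨_, act n (ns.le ⟨n1, n2⟩)⟩
  have pl : Pl p Y (autInducedBy ⊤ E) σ := ⟨r, sy, act', fun s =>
    ⟨_, cA_mem_autInducedBy (mem_top (xs (-s))), fun v => by simp [act (xs (-s)) rfl]⟩⟩
  obtain ⟨j, hj, -, j1, j2⟩ := pl.exists_h (M := ⊤) (fun _ _ _ _ => trivial) hg (a := 1) (by
    rw [← pz, e g hg _ (zm 1), hπ, ← hφ]; simp) (neg_ne_zero.2 one_ne_zero)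
  have sC : Y ≤ stab E C := le_stab (c1.trans la) fun α hα x hx => by rwa [c2 x hx α hα]
  have mk : ∀ v, v ∈ (AddMonoidHom.snd K K).ker ↔ v.2 = 0 := fun _ => Iff.rfl
  have j3 : ∀ v ∈ (AddMonoidHom.snd K K).ker, σ j v ∈ (AddMonoidHom.snd K K).ker := fun v hv => by
    rw [mk, j2, (mk v).1 hv, mul_zero]
  have jn := r.norm_of_chn sy (fun v => by rw [← Nat.cast_smul_eq_nsmul K, CharP.cast_eq_zero, zero_smul])
    (fun α hα q => isPGroup_iff_mem.1 OpIn_isPGroup α (mem_OpIn₂ (pg.to_le le_top) sC hα (fun x hx => pk _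
      (mul_mem (inv_mem hx) (fn_mem α hx)) (by
        have := pm x hx _ (mul_mem (inv_mem hx) (fn_mem α hx))
        rwa [mul_inv_cancel_left, ← e α hα x hx, q, left_eq_add] at this)) fun x _ hx => c2 x hx α hα))
    le_rfl (fun t ht => by
      obtain ⟨s, q⟩ := act' t ht
      exact ⟨sy.le ht, fun v => (mk _).2 (by simp [q]), fun v _ => (mk _).2 (by simp [q]), fun v hv => by
        rw [q, show v.2 = 0 from hv, mul_zero, add_zero]; exact Prod.ext rfl (Eq.symm hv)⟩) hj j3 j3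
  have ex := hF.ext_of_norm (hF.ess_fn es) le_rfl (autInducedBy_le F le_top) (yl hj) jn
  rw [ns] at ex
  obtain ⟨b, hb, β, hβ, q⟩ := ex
  obtain ⟨n, n1, rfl⟩ := mem_Inn.1 (inn3a h3 hF hβ fun x hx => by
    have m : (xz (π x).1)⁻¹ * x ∈ C := pk _ (mul_mem (inv_mem (zm _)) (la hx)) (by
      have := pm _ (zm (π x).1) _ (mul_mem (inv_mem (zm (π x).1)) (la hx))
      rw [mul_inv_cancel_left, pz] at this
      rwa [show ((π x).1, (0 : K)) = π x from Prod.ext rfl (by simp [hπ, hx.2.1]), left_eq_add] at this)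
    have m1 := stab_maps (stab_Z1 (mem_top β)) (xz_mem (π x).1)
    rw [← mul_inv_cancel_left (xz (π x).1) x, mulOn_fn β rfl (c1 m).1, ← q _ (la (c1 m)), c2 _ m j hj,
      c2 _ m b (sy.le hb)]
    simp [m1.1, m1.2.2.1, m1.2.2.2.1])
  obtain ⟨s, q1⟩ := act' b hb
  have q2 := congrArg (fun x => (π x).2) (q _ (x1 1))
  simp only [← e b (sy.le hb) _ (fn_mem j (x1 1)), ← e j hj _ (x1 1), q1, j2, fn_cA (nQ1 n) (lq (x1 1))] at q2
  simp [hπ] at q2
  exact two_ne h3 (by linear_combination -q2)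

end E3

open E3

theorem es3 (h3 : (3 : K) = 0) (hF : Sat F p) : Es F p := by
  have k : ∀ F : FusionSystem (⊤ : Subgroup (Gu K)), Sat F p → ∀ E, F.IsEssential p E →
      (E = Q1 K ∨ E = Q2 K) ∨ ∃ k, ∀ x, x ∈ E ↔ x.t = 0 ∧ x.b = k * x.a := fun F hF E hE => by
    obtain ⟨Y, M, h⟩ := exists_mn hF hE
    by_cases c : Y ≤ stab E (ZS K)
    · exact .inl (caseI h3 h c)
    · exact (caseII h3 h c).imp_right fun q => q.resolve_left fun ⟨_, q⟩ => kill h3 hF q hE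
  intro E hE
  refine (k F hF E hE).resolve_right fun ⟨κ, e⟩ => ?_
  obtain ⟨F', i⟩ := exists_fiso F (piso_gr h3)
  refine kill h3 (i.sat' hF) (k := -κ ^ 3) (fun x => (i.piso.mul.mono le_top).mem_img.trans ⟨?_, fun q => ?_⟩)
    (i.ess hF hE)
  · rintro ⟨y, hy, rfl⟩
    simp [(e y).1 hy]; ring
  · obtain ⟨y, -, rfl⟩ := i.piso.surj (mem_top x)
    have t0 : y.t = 0 := q.1
    refine ⟨y, (e y).2 ⟨t0, cube_inj h3 ?_⟩, rfl⟩
    have := q.2
    simp only [gr_s, gr_t, t0] at this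
    linear_combination -this

end CF.FusG
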