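import Cfsg.Agent.FusG.C

/-! Plane sections of an essential subgroup: extension of torus elements to the normalizer. -/

set_option autoImplicit false
set_option linter.style.haveILetI false
set_option linter.unusedSimpArgs false

namespace CF.FusG

open Cfsg Cfsg.FusionSystem Subgroup CF.Fus CF.FusD CF.FusU Function

namespace E5

variable {Ω : Type*} [Group Ω] {S E A C D : Subgroup Ω} {F : FusionSystem S} {p : ℕ}
  {Y M : Subgroup (MulAut E)} {g : MulAut E} {K : Type*} [Field K] {ψ : Ω → K} {ℓ B : K → Ω} {y : Ω}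

/-- the section `E / D` with the line `A / D` on which the normalizer acts by transvections -/
structure Ps (S A D : Subgroup Ω) (Y : Subgroup (MulAut E)) (ψ : Ω → K) (ℓ B : K → Ω) : Prop where
  le : A ≤ E
  dl : D ≤ A
  st : Y ≤ stab E D
  add : ∀ x y, ψ (x * y) = ψ x + ψ y
  ker : ∀ x ∈ E, ψ x = 0 ↔ x ∈ A
  lm : ∀ σ, ℓ σ ∈ A
  la : ∀ σ τ, ℓ (σ + τ) = ℓ σ * ℓ τ
  l0 : ∀ σ, ℓ σ ∈ D → σ = 0
  bn : ∀ κ, B κ ∈ NS S E
  bc : ∀ κ, ∀ x ∈ E, (ℓ (κ * ψ x))⁻¹ * cm x (B κ) ∈ D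
  n1 : ∀ s ∈ NS S E, ∀ x ∈ E, cm x s ∈ A
  n2 : ∀ s ∈ NS S E, ∀ x ∈ A, cm x s ∈ D

variable (h : Mn p S E Y M) (r : Ps S A D Y ψ ℓ B) (hg : g ∈ Y) (gn : g ∉ M)
include h r hg gn

theorem kg_of (ln : ∀ a ∈ A, ∃ σ, (ℓ σ)⁻¹ * a ∈ D) (b0 : ∀ κ, B κ ∈ E → κ = 0) (hy : y ∈ A) (n : fn g y ∉ A) :
    ∀ x ∈ A, fn g x ∈ A → x ∈ D := fun x hx e => by
  obtain ⟨C, c0, -, -, c3⟩ := FusT.d0 h r.le r.st (fun a ha => norm_of_cA_mem_stab (r.dl.trans r.le)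
    (le_normalizer (r.le ha)) (r.st (h.cA_mem (h.le (r.le ha))))) r.dl r.n2
  obtain ⟨t, ht, tn⟩ := h.ext
  have xc := (c3 x hx g hg gn t ht tn).1 (r.n2 t ht _ e)
  obtain ⟨σ, s⟩ := ln x hx
  have u := fn_mem g (r.le hy)
  have u0 := mt (r.ker _ u).1 n
  have b := r.bc (σ / ψ (fn g y)) _ u
  rw [div_mul_cancel₀ _ u0] at b
  by_cases m : B (σ / ψ (fn g y)) ∈ E
  · have l1 : ℓ 0 = 1 := by simpa using r.la 0 0
    rwa [(div_eq_zero_iff.1 (b0 _ m)).resolve_right u0, l1, inv_one, one_mul] at s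
  · refine (n ((c3 y hy g hg gn _ (r.bn _) m).2 ?_)).elim
    simpa using mul_mem (mul_mem xc (inv_mem (c0 s))) (c0 b)

theorem plx [Fact p.Prime] [Finite K] (hF : Sat F p) (hE : F.IsEssential p E) (sy : SylIn p (autInducedBy S E) Y)
    (yl : Y ≤ F.autGroup E) (kg : ∀ x ∈ A, fn g x ∈ A → x ∈ D) (hC : Y ≤ stab E C) (cl : C ≤ E)
    (cn : ∀ s ∈ NS S E, ∀ c ∈ C, cm c s = 1) :
    (∀ κ, ∃ x ∈ E, ψ x = κ) ∧ (∀ a ∈ A, ∃ σ, (ℓ σ)⁻¹ * a ∈ D) ∧ ∀ μ, μ ≠ 0 → ∃ β ∈ F.autGroup (NS S E),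
      (∀ x ∈ E, fn β x ∈ E ∧ ψ (fn β x) = μ⁻¹ * ψ x) ∧
        (∀ a σ, (ℓ σ)⁻¹ * a ∈ D → (ℓ (μ * σ))⁻¹ * fn β a ∈ D) ∧ ∀ c ∈ C, fn β c = c := by
  haveI := h.fin
  haveI := fin_of_le h.le
  have lE := fun σ => r.le (r.lm σ)
  have dE := r.dl.trans r.le
  let θ : K →+ K := .mk' (fun σ => ψ (fn g (ℓ σ))) fun σ τ => by rw [r.la, mulOn_fn g (lE σ) (lE τ), r.add]
  let e : K ≃+ K := .ofBijective θ (Finite.injective_iff_bijective.1 ((injective_iff_map_eq_zero θ).2 fun σ q =>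
    r.l0 σ (kg _ (r.lm σ) ((r.ker _ (fn_mem g (lE σ))).1 q))))
  have e1 : ∀ σ, ψ (fn g (ℓ σ)) = e σ := fun _ => rfl
  obtain ⟨π, hπ⟩ : ∃ π : Ω → K × K, ∀ x, π x = (e.symm (ψ (fn g x)), ψ x) := ⟨_, fun _ => rfl⟩
  have p2 : ∀ x, (π x).2 = ψ x := fun x => by rw [hπ]
  have hm : ∀ x ∈ E, ∀ y ∈ E, π (x * y) = π x + π y := fun x hx y hy => by
    simp only [hπ, mulOn_fn g hx hy, r.add, map_add, Prod.mk_add_mk]
  have pl : ∀ σ, π (ℓ σ) = (σ, 0) := fun σ => by rw [hπ, e1, e.symm_apply_apply, (r.ker _ (lE σ)).2 (r.lm σ)]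
  have p0 : ∀ x ∈ E, π x = 0 ↔ x ∈ D := fun x hx => by
    rw [hπ, Prod.mk_eq_zero, e.symm.map_eq_zero_iff, r.ker _ hx, r.ker _ (fn_mem g hx)]
    exact ⟨fun q => kg x q.2 q.1, fun q => ⟨r.dl (stab_maps (r.st hg) q), r.dl q⟩⟩
  have pi : ∀ x ∈ E, ∀ y ∈ E, x⁻¹ * y ∈ D ↔ π x = π y := fun x hx y hy => by
    have := hm x hx _ (mul_mem (inv_mem hx) hy)
    rw [mul_inv_cancel_left] at this
    rw [← p0 _ (mul_mem (inv_mem hx) hy), this, left_eq_add]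
  have su : ∀ κ, ∃ x ∈ E, ψ x = κ := fun κ => ⟨_, fn_mem g (lE (e.symm κ)), by rw [e1, e.apply_symm_apply]⟩
  have hs : ∀ w, ∃ x ∈ E, π x = w := fun w => by
    obtain ⟨x, hx, q⟩ := su w.2
    exact ⟨_, mul_mem (lE (w.1 - (π x).1)) hx, by rw [hm _ (lE _) _ hx, pl]; ext <;> simp [p2, q]⟩
  have pb : ∀ κ, ∀ x ∈ E, π (cm x (B κ)) = (κ * ψ x, 0) := fun κ x hx => by
    rw [← (pi _ (lE _) _ (cm_mem hx (r.bn κ).2)).1 (r.bc κ x hx), pl]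
  have fm : ∀ s ∈ NS S E, ∀ κ, ∀ x ∈ E, π (cm x (s * B κ)) = π (cm x s) + (κ * ψ x, 0) := fun s hs κ x hx => by
    have a := r.n1 _ (r.bn κ) x hx
    have d := r.n2 s hs _ a
    rw [show cm x (s * B κ) = cm x s * (cm x (B κ) * cm (cm x (B κ)) s) by rw [mul_cm]; simp only [cm]; group,
      hm _ (cm_mem hx hs.2) _ (mul_mem (r.le a) (dE d)), hm _ (r.le a) _ (dE d), (p0 _ (dE d)).2 d, add_zero, pb κ x hx]
  have w0 : ψ (fn g (ℓ 1)) ≠ 0 := by rw [e1, e.map_ne_zero_iff]; exact one_ne_zero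
  have ac : ∀ s ∈ NS S E, ∃ κ, ∀ x ∈ E, π (cm x s) = (κ * ψ x, 0) := fun s hs => by
    have w := fn_mem g (lE 1)
    have t := mul_mem hs (r.bn (-(π (cm (fn g (ℓ 1)) s)).1 / ψ (fn g (ℓ 1))))
    have m : _ ∈ E := by_contra fun tn => w0 ((r.ker _ w).2 (by
      simpa using mul_mem (r.lm 1) (r.dl (h.key r.st (lE 1) (fun n hn => r.n2 n hn _ (r.lm 1)) hg gn t tn
        ((p0 _ (cm_mem w t.2)).1 (by
          rw [fm s hs _ _ w, div_mul_cancel₀ _ w0]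
          ext <;> simp [p2, (r.ker _ (cm_mem w hs.2)).2 (r.n1 s hs _ w)])) g hg))))
    refine ⟨-(-(π (cm (fn g (ℓ 1)) s)).1 / ψ (fn g (ℓ 1))), fun x hx => ?_⟩
    have q := fm s hs (-(π (cm (fn g (ℓ 1)) s)).1 / ψ (fn g (ℓ 1))) x hx
    generalize -(π (cm (fn g (ℓ 1)) s)).1 / ψ (fn g (ℓ 1)) = κ at *
    have q1 := hm _ (mul_mem hx (cm_mem' hx m)) _ m
    rw [hm _ hx _ (cm_mem' hx m), mul_cm, inv_mul_cancel_right, hm _ m _ hx, add_comm, add_left_inj, left_eq_add,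
      q] at q1
    rw [eq_neg_of_add_eq_zero_left q1]
    ext <;> simp
  obtain ⟨ρ, r1, r2⟩ := exists_rp Y π hm hs fun α hα x hx q =>
    (p0 _ (fn_mem α hx)).2 (stab_maps (r.st hα) ((p0 x hx).1 q))
  have rc : ∀ s ∈ NS S E, ∀ κ, (∀ x ∈ E, π (cm x s) = (κ * ψ x, 0)) → ∀ v, ρ (cA E s) v = (v.1 + κ * v.2, v.2) :=
    fun s hs' κ q v => by
      obtain ⟨x, hx, rfl⟩ := hs v
      rw [r2 _ (h.cA_mem hs'.1) x hx, fn_cA hs'.2 hx, ← mul_cm, hm _ hx _ (cm_mem hx hs'.2), q x hx]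
      ext <;> simp [p2]
  have P : Pl p Y (autInducedBy S E) ρ := ⟨r1, sy, fun t ht => by
      obtain ⟨s, s1, s2, rfl⟩ := mem_autInducedBy.1 ht
      exact (ac s ⟨s1, s2⟩).imp (rc s ⟨s1, s2⟩),
    fun κ => ⟨_, cA_mem_autInducedBy (r.bn κ).1, rc _ (r.bn κ) κ (pb κ)⟩⟩
  have tf : autInducedBy S E ≤ fix E C := fun t ht c hc => by
    obtain ⟨s, s1, s2, rfl⟩ := mem_autInducedBy.1 ht
    rw [fn_cA s2 (cl hc), ← mul_cm, cn s ⟨s1, s2⟩ c hc, mul_one]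
  refine ⟨su, fun a ha => ⟨(π a).1, (pi _ (lE _) _ (r.le ha)).2 (by
    rw [pl]; ext <;> simp [p2, (r.ker _ (r.le ha)).2 ha])⟩, fun μ μ0 => ?_⟩
  obtain ⟨k, k0, k1, k2, k3⟩ := P.exists_h (M := fix E C) (a := 1)
    (fun a ha t ht => conj_mem_of_norm (stab_le_norm_fix (hC ha)) (tf ht)) hg
    (by rwa [← pl, r2 g hg _ (lE 1), p2]) μ0
  have k4 : ∀ x ∈ E, ψ (fn k x) = μ⁻¹ * ψ x := fun x hx => by rw [← p2, ← r2 k k0 x hx, k3, p2]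
  haveI := fin_of_le r.le
  have kA : k ∈ stab E A := mem_stab_of_maps r.le fun x hx => (r.ker _ (fn_mem k (r.le hx))).1 (by
    rw [k4 x (r.le hx), (r.ker x (r.le hx)).2 hx, mul_zero])
  obtain ⟨b, ⟨⟨⟨-, b1⟩, b2⟩, b3⟩, β, hβ, q⟩ := hF.ext_of_norm (hF.ess_fn hE)
    (H := F.autGroup E ⊓ trivOn E E A ⊓ trivOn E A D ⊓ fix E C) (le_inf (fun t ht => by
      obtain ⟨s, s1, s2, rfl⟩ := mem_autInducedBy.1 ht
      refine ⟨⟨autInducedBy_le F h.le ht, mem_stab_of_maps r.le fun x hx => ?_, fun x hx _ => ?_⟩,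
        r.st (h.sub ht), fun x hx m => ?_⟩
      · rw [fn_cA s2 (r.le hx), ← mul_cm]; exact mul_mem hx (r.n1 s ⟨s1, s2⟩ x (r.le hx))
      · rw [fn_cA s2 hx]; exact r.n1 s ⟨s1, s2⟩ x hx
      · rw [fn_cA s2 hx]; exact r.n2 s ⟨s1, s2⟩ x m) tf) (inf_le_left.trans (inf_le_left.trans inf_le_left)) (yl k0)
    (inf_normalizer_le_normalizer_inf ⟨inf_normalizer_le_normalizer_inf ⟨inf_normalizer_le_normalizer_inf
      ⟨le_normalizer (yl k0), le_norm_trivOn ⟨stab_self.ge (mem_top k), kA⟩⟩, le_norm_trivOn ⟨kA, r.st k0⟩⟩,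
        stab_le_norm_fix (hC k0)⟩)
  refine ⟨β, hβ, fun x hx => ?_, fun a σ d => ?_, fun c hc => by rw [← q c (cl hc), k1 c hc, b3 c hc]⟩
  · have m := fn_mem k hx
    rw [← q x hx]
    refine ⟨fn_mem b m, ?_⟩
    rw [← mul_inv_cancel_left (fn k x) (fn b _), r.add, (r.ker _ (r.le (b1.2 _ m m))).2 (b1.2 _ m m), add_zero, k4 x hx]
  · have aA : a ∈ A := by simpa using mul_mem (r.lm σ) (r.dl d)
    have m := fn_mem k (r.le aA)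
    rw [← q a (r.le aA), pi _ (lE _) _ (fn_mem b m), ← (pi _ m _ (fn_mem b m)).1 (b2.2 _ m (stab_maps kA aA)),
      ← r2 k k0 a (r.le aA), ← (pi _ (lE σ) _ (r.le aA)).1 d, pl, pl, k2]

end E5

end CF.FusG
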