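import Cfsg.Agent.FusG.C

/-! Fusion systems on a Sylow `p`-subgroup of `G₂(q)`: the action of the automizer of `Q2` on its centre. -/

set_option autoImplicit false
set_option linter.style.haveILetI false
set_option linter.unusedSimpArgs false
set_option linter.unusedSectionVars false

namespace CF.FusG

open Cfsg Cfsg.FusionSystem Subgroup CF.Fus CF.FusD CF.FusU Function Gu Matrix

namespace QB

variable {K : Type} [Field K] [Finite K] {x y z t : Gu K} {α β γ μ : K} {τ : K ≃+* K} {φ ψ : MulAut (Q2 K)}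

/-- coordinates on `Z2` -/
def p2 (x : Gu K) : K × K := (x.z, x.s)
/-- elements of `Z2` -/
def ez (v : K × K) : Gu K := ⟨0, 0, 0, 0, v.2, v.1⟩
/-- commutators with `Z3` -/
def du (a b c : K) : K × K := (3 * b * c, -(3 * a * c))

theorem cj_c (h : x ∈ Z3 K) (t : Gu K) : (t * x * t⁻¹).c = x.c := by rw [← mul_cm]; simp [h.1, (cm2 h t).2.2.2]
theorem cj_s (h : x ∈ Z2 K) (t : Gu K) : (t * x * t⁻¹).s = x.s := by rw [← mul_cm]; simp [h.1, (cm1 h t).2.2.2.2]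
theorem cj_z (h : x ∈ Z1 K) (t : Gu K) : t * x * t⁻¹ = x := by rw [Z1_comm h, mul_inv_cancel_right]
theorem ez_mem (v : K × K) : ez v ∈ Z2 K := ⟨rfl, rfl, rfl, rfl⟩
theorem ez_p2 (h : x ∈ Z2 K) : ez (p2 x) = x := Z2_ext (ez_mem _) h rfl rfl

theorem eq_one_of (h0 : α ≠ 0) (h : ∀ s, α * τ s = β * s) : τ = 1 ∧ α = β := by
  have a : α = β := by simpa using h 1
  exact ⟨RingEquiv.ext fun s => mul_left_cancel₀ h0 (by rw [h, a]; rfl), a⟩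

theorem ex_sq (h4 : 4 ≤ Nat.card K) : ∃ a : K, a ≠ 0 ∧ a ≠ 1 ∧ a ^ 2 ≠ 1 := by
  classical
  haveI := Fintype.ofFinite K
  obtain ⟨a, -, e⟩ := Finset.exists_mem_notMem_of_card_lt_card (s := {0, 1, -1}) (t := (Finset.univ : Finset K))
    (Finset.card_le_three.trans_lt (by rwa [Finset.card_univ, ← Nat.card_eq_fintype_card]))
  simp only [Finset.mem_insert, Finset.mem_singleton, not_or] at e
  exact ⟨a, e.1, e.2.1, fun c => (sq_eq_one_iff.1 c).elim e.2.1 e.2.2⟩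

/-- automorphisms which are trivial on `Z3 / Z2` -/
abbrev M2 (K : Type) [Field K] : Subgroup (MulAut (Q2 K)) := trivOn (Q2 K) (Z3 K) (Z2 K)

theorem M2_Z3 (h : φ ∈ M2 K) (hx : x ∈ Z3 K) : fn φ x ∈ Z3 K := by
  simpa using mul_mem hx (l23 (h.2 x hx.2.1 hx))

theorem M2_c (h : φ ∈ M2 K) (hx : x ∈ Z3 K) : (fn φ x).c = x.c := by
  simpa [hx.1, add_eq_zero_iff_eq_neg'] using (h.2 x hx.2.1 hx).2.2.2

variable [h3 : NeZero (3 : K)]

theorem cen_Q2 (hx : x ∈ Q2 K) (h : ∀ y ∈ Q2 K, y * x = x * y) : x ∈ Z2 K := by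
  have a := (Z3_comm (xc_mem 1)).1 (h (xc 1) rfl).symm
  have m : x ∈ Z3 K := ⟨by simpa [h3.out] using a.1, hx, by simpa [h3.out] using a.2⟩
  exact of3 m (by simpa [h3.out] using ((Z3_comm m).1 (h (xa 1) rfl)).1)

theorem stab_Z2 (φ : MulAut (Q2 K)) : φ ∈ stab (Q2 K) (Z2 K) := mem_stab_of_maps (l24.trans l42) fun _ ha =>
  cen_Q2 (fn_mem φ ha.2.1) fun _ hy => fn_comm φ ha.2.1 (fun _ he => Q22 he ha) hy

/-- the action on `Z2` -/
noncomputable def r2 (φ : MulAut (Q2 K)) : K × K →+ K × K := .mk' (fun v => p2 (fn φ (ez v))) fun v w => by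
  have m := stab_maps (stab_Z2 φ) (ez_mem v)
  have m' := stab_maps (stab_Z2 φ) (ez_mem w)
  rw [show ez (v + w) = ez v * ez w by ext <;> simp [ez], mulOn_fn φ (ez_mem v).2.1 (ez_mem w).2.1]
  exact Prod.ext (by simp [p2, m.1, m.2.2.2, m'.2.1]) (by simp [p2, m.1])

theorem r2_app (φ : MulAut (Q2 K)) (h : x ∈ Z2 K) : r2 φ (p2 x) = p2 (fn φ x) := by
  rw [r2, AddMonoidHom.mk'_apply, ez_p2 h]

theorem rp_r2 (X : Subgroup (MulAut (Q2 K))) : Rp X r2 :=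
  ⟨fun g _ k _ v => ((r2_app g (stab_maps (stab_Z2 k) (ez_mem v))).trans (by rw [← fn_mul]; rfl)).symm,
    fun v => by rw [r2, AddMonoidHom.mk'_apply, fn_one]; rfl⟩

theorem mem_M2 (s : φ ∈ stab (Q2 K) (Z3 K)) (h : ∀ x ∈ Z3 K, (fn φ x).c = x.c) : φ ∈ M2 K :=
  ⟨stab_Z2 φ, fun x _ hx => of3 (mul_mem (inv_mem hx) (stab_maps s hx)) (by simp [hx.1, h x hx])⟩

theorem dual0 (s : φ ∈ stab (Q2 K) (Z3 K)) (hx : x ∈ Q2 K) (c : K) :
    r2 φ (du x.a x.b c) = du (fn φ x).a (fn φ x).b (fn φ (xc c)).c := by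
  have m := stab_maps s (xc_mem c)
  rw [show du x.a x.b c = p2 (cm x (xc c)) from
      Prod.ext (by simp [p2, du, cm_z3' x (xc_mem c)]) (by simp [p2, du, cm_s3' x (xc_mem c)]),
    r2_app φ (cm2' x (xc_mem c)), fn_cm φ hx (xc_mem c).2.1]
  exact Prod.ext (by simp [p2, du, cm_z3' _ m, mem_Q2.1 (fn_mem φ hx)]) (by simp [p2, du, cm_s3' _ m])

theorem dual (h : φ ∈ M2 K) (hx : x ∈ Q2 K) (c : K) : r2 φ (du x.a x.b c) = du (fn φ x).a (fn φ x).b c := by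
  rw [dual0 (mem_stab_of_maps (l34.trans l42) fun _ => M2_Z3 h) hx, M2_c h (xc_mem c), xc_c]

theorem ab_of (h : φ ∈ M2 K) (hx : x ∈ Q2 K) {a b : K} (e : r2 φ (du x.a x.b 1) = du a b 1) :
    (fn φ x).a = a ∧ (fn φ x).b = b := by
  simpa [du, h3.out, and_comm] using (dual h hx 1).symm.trans e

theorem triv_M2 (h4 : 4 ≤ Nat.card K) (s : φ ∈ stab (Q2 K) (Z3 K))
    (h : ∀ x ∈ Q2 K, (fn φ x).a = x.a ∧ (fn φ x).b = x.b) : φ ∈ M2 K := by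
  have k0 : ∀ x ∈ Z3 K, (fn φ x).c = (fn φ (xc x.c)).c := fun x hx => by
    have := (stab_maps (stab_Z2 φ) (of3 (mul_mem (inv_mem (xc_mem x.c)) hx) (by simp))).2.2.2
    rw [(mulOn_fn φ).map_inv_mul (xc_mem _).2.1 hx.2.1] at this
    exact Eq.symm (by simpa [(stab_maps s (xc_mem _)).1, neg_add_eq_zero] using this)
  have k1 : ∀ a c, (r2 φ (0, -(3 * a * c))).2 = -(3 * a * (fn φ (xc c)).c) := fun a c => by
    simpa [du, h (xa a) rfl] using congrArg Prod.snd (dual0 s (x := xa a) rfl c)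
  have k2 : ∀ c, (fn φ (xc c)).c = c * (fn φ (xc 1)).c := fun c => by
    have := (k1 1 c).symm.trans ((by simp : _ = _).trans (k1 c 1))
    exact mul_left_cancel₀ h3.out (by linear_combination -this)
  have k3 : ∀ a b, (fn φ (cm (xb b) (xa a))).c = 2 * a * b ∧
      (fn φ (cm (xb b) (xa a))).s = 3 * a * (fn φ (xb b)).c + 3 * a ^ 2 * b := fun a b => by
    rw [fn_cm φ (xb_mem b).2 rfl, cm_c2 (fn_mem φ (xb_mem b).2) (fn_mem φ rfl), cm_s]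
    simp [h (xb b) rfl, h (xa a) rfl, mem_Q2.1 (fn_mem φ (xb_mem b).2)]
  suffices e : (fn φ (xc 1)).c = 1 from mem_M2 s fun x hx => by rw [k0 x hx, k2, e, mul_one]
  by_cases h2 : (2 : K) = 0
  · have k4 : ∀ a, a ≠ 0 → a * (fn φ (xc 1)).c = (fn φ (xb 1)).c + a := fun a a0 => by
      have m : cm (xb 1) (xa a) ∈ Z2 K := of3 (cm3 (xb_mem 1) _) (by simp [cm_c, h2])
      have e1 := congrArg Prod.snd (r2_app φ m)
      have e2 := congrArg Prod.snd (dual0 s (x := xb a) rfl 1)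
      rw [show p2 (cm (xb 1) (xa a)) = du (xb a : Gu K).a (xb a : Gu K).b 1 + (0, -(3 * (-a ^ 2) * 1)) by
        simp [p2, du, cm_z, cm_s], map_add, Prod.snd_add, e2, k1] at e1
      simp only [p2, (k3 a 1).2, du, h (xb a) rfl, xb_a] at e1
      exact mul_left_cancel₀ (mul_ne_zero h3.out a0) (by linear_combination e1)
    obtain ⟨a, a0, a1, -⟩ := ex_sq h4
    exact mul_left_cancel₀ (sub_ne_zero.2 a1) (by linear_combination k4 a a0 - k4 1 one_ne_zero)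
  · have := k0 _ (cm3 (xb_mem 1) (xa 1))
    rw [(k3 1 1).1, k2, cm_c4 (xb_mem 1)] at this
    simpa [h2] using this.symm

theorem triv_r2 (m : φ ∈ M2 K) (h : ∀ x ∈ Q2 K, (fn φ x).a = x.a ∧ (fn φ x).b = x.b) (v : K × K) : r2 φ v = v := by
  have e1 := dual m (x := xb 1) rfl (v.1 / 3)
  have e2 := dual m (x := xa 1) rfl (-v.2 / 3)
  simp only [h (xb 1) rfl, h (xa 1) rfl] at e1 e2
  have := h3.out
  rw [show v = du (xb 1 : Gu K).a (xb 1 : Gu K).b (v.1 / 3) + du (xa 1 : Gu K).a (xa 1 : Gu K).b (-v.2 / 3) by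
    ext <;> simp [du] <;> field_simp, map_add, e1, e2]

theorem fix_Z2 (h : ∀ v, r2 φ v = v) (hx : x ∈ Z2 K) : fn φ x = x := by
  rw [← ez_p2 (stab_maps (stab_Z2 φ) hx), ← r2_app φ hx, h, ez_p2 hx]

theorem r2_cA (s : Gu K) (v : K × K) : r2 (cA (Q2 K) s) v = (v.1 + s.t * v.2, v.2) := by
  rw [r2, AddMonoidHom.mk'_apply, fn_cA (nQ2 s) (ez_mem v).2.1]
  exact Prod.ext (by simp [ez, p2]; ring) (by simp [ez, p2]; ring)

variable {p : ℕ} [Fact p.Prime] [CharP K p] {F : FusionSystem (⊤ : Subgroup (Gu K))} (hF : Sat F p)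
include hF

theorem pl2 : Pl p (F.autGroup (Q2 K) ⊓ M2 K) (autInducedBy ⊤ (Q2 K)) r2 := by
  have sy := hF.syl_of_fn (fn_of_norm F le_top fun s _ => nQ2 s)
  refine ⟨rp_r2 _, sy.mono (le_inf sy.le fun t ht => ⟨stab_Z2 t, fun x hx m => ?_⟩) inf_le_left, fun t ht => ?_,
    fun a => ⟨_, cA_mem_autInducedBy trivial, r2_cA (xt a)⟩⟩
  · obtain ⟨s, -, e⟩ := mem_autInducedBy'.1 ht
    rw [e x hx, ← mul_cm, inv_mul_cancel_left]
    exact cm2 m s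
  · obtain ⟨s, -, -, rfl⟩ := mem_autInducedBy.1 ht
    exact ⟨_, r2_cA s⟩

theorem chn2 : autInducedBy ⊤ (Q2 K) ≤ (pl2 hF).rp.chn _ _ (le_refl (AddMonoidHom.snd _ _).ker) :=
  fun t ht => by
    obtain ⟨a, e⟩ := (pl2 hF).act t ht
    exact ⟨(pl2 hF).syl.le ht, fun v => by simp [e, AddSubgroup.mem_prod], fun v _ => by simp [e, AddSubgroup.mem_prod],
      fun v hv => by rw [e, show v.2 = 0 from hv]; exact Prod.ext (by simp) (Eq.symm hv)⟩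

omit hF h3 [Fact p.Prime] in
theorem p_kk (v : K × K) : p • v = 0 := by rw [← Nat.cast_smul_eq_nsmul K, CharP.cast_eq_zero, zero_smul]

variable (s3 : F.autGroup (Q2 K) ≤ stab (Q2 K) (Z3 K))
include s3

theorem ker2 : ∀ φ ∈ F.autGroup (Q2 K) ⊓ M2 K, (∀ v, r2 φ v = v) → ∃ k, φ ^ p ^ k = 1 :=
  fun φ hφ e => isPGroup_iff_mem.1 OpIn_isPGroup φ (mem_OpIn₃ (hF.pgroup le_top) (fun ψ _ => stab_Z2 ψ)
    s3 hφ.1 (fun x hx => by
      have := ab_of hφ.2 hx (e _)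
      simp [mem_Z3, this, mem_Q2.1 hx, mem_Q2.1 (fn_mem φ hx)]) hφ.2.2 fun x _ => fix_Z2 e)

theorem frat2 (hφ : φ ∈ F.autGroup (Q2 K)) : ∃ b ∈ F.autGroup (Q2 K) ⊓ M2 K,
    b * φ ∈ normalizer (autInducedBy ⊤ (Q2 K) : Set (MulAut (Q2 K))) :=
  (pl2 hF).syl.frattini (mem_normalizer_of_le le_top fun _ hx =>
    ⟨mul_mem (mul_mem hφ hx.1) (Subgroup.inv_mem _ hφ), conj_mem_trivOn (s3 hφ) (stab_Z2 φ) hx.2⟩)

theorem norm2 (hφ : φ ∈ F.autGroup (Q2 K) ⊓ M2 K) (e : ∀ u, (r2 φ (u, 0)).2 = 0) :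
    φ ∈ normalizer (autInducedBy ⊤ (Q2 K) : Set (MulAut (Q2 K))) := by
  have a : ∀ v ∈ (AddMonoidHom.snd K K).ker, r2 φ v ∈ (AddMonoidHom.snd K K).ker := fun v hv => by
    rw [show v = (v.1, 0) from Prod.ext rfl hv]; exact e _
  exact (pl2 hF).rp.norm_of_chn (pl2 hF).syl p_kk (ker2 hF s3) _ (chn2 hF) hφ a a

theorem inn2 (h4 : 4 ≤ Nat.card K) (hφ : φ ∈ F.autGroup (Q2 K))
    (e : ∀ x ∈ Q2 K, (fn φ x).a = x.a ∧ (fn φ x).b = x.b) : φ ∈ Inn (Q2 K) := by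
  have m := triv_M2 h4 (s3 hφ) e
  have a := triv_r2 m e
  obtain ⟨t, -, n, rfl⟩ := mem_autInducedBy.1 ((pl2 hF).rp.mem_of_chn (pl2 hF).syl p_kk (ker2 hF s3) _ (chn2 hF)
    ⟨⟨hφ, m⟩, fun v => by simp [a], fun v _ => by simp [a], fun v _ => a v⟩)
  exact mem_Inn.2 ⟨t, by simpa [r2_cA, mem_Q2] using congrArg (·.1) (a (0, 1)), rfl⟩

variable (e2 : F.IsEssential p (Q2 K))
include e2

theorem mov2 : ∃ φ ∈ F.autGroup (Q2 K) ⊓ M2 K, ∃ a, (r2 φ (a, 0)).2 ≠ 0 := by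
  by_contra! c
  refine not_norm hF e2 nQ2 fun φ hφ => ?_
  obtain ⟨b, b1, b2⟩ := frat2 hF s3 hφ
  simpa using mul_mem (inv_mem (norm2 hF s3 b1 (c b b1))) b2

theorem bar : ∃ m ∈ F.autGroup (Q2 K) ⊓ M2 K, (∀ v, r2 m v = (v.2, -v.1)) ∧
    ∀ x ∈ Q2 K, (fn m x).a = x.b ∧ (fn m x).b = -x.a := by
  suffices h : ∃ m ∈ F.autGroup (Q2 K) ⊓ M2 K, ∀ v, r2 m v = (v.2, -v.1) from
    let ⟨m, m1, m2⟩ := h
    ⟨m, m1, m2, fun x hx => ab_of m1.2 hx (by rw [m2]; ext <;> simp [du])⟩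
  have r := pl2 hF
  obtain ⟨φ, hφ, a, ha⟩ := mov2 hF s3 e2
  obtain ⟨n, n0, -, n1, n2⟩ := r.exists_n (M := ⊤) (fun _ _ _ _ => trivial) hφ ha
  have := h3.out
  obtain ⟨a, a1⟩ : ∃ a, ∀ u, r2 n (u, 0) = (a * u, -u) := ⟨(fn n (xb 1)).b, fun u => Prod.ext (by
    rw [show (u, 0) = du (xb 1 : Gu K).a (xb 1 : Gu K).b (u / 3) by
      ext <;> simp [du]; field_simp, dual n0.2 rfl]
    simp [du]; field_simp) (n1 u)⟩
  obtain ⟨s, hs, es⟩ := r.onto a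
  obtain ⟨s', hs', es'⟩ := r.onto (-a)
  refine ⟨_, mul_mem (mul_mem (r.syl.le hs) n0) (r.syl.le hs'), fun v => ?_⟩
  have e4 := n2 (-v.2)
  rw [a1, neg_neg] at e4
  rw [r.rp.mul3 (r.syl.le hs) n0 (r.syl.le hs'), es', show (v.1 + -a * v.2, v.2) = (v.1, 0) + (a * -v.2, v.2) from
    Prod.ext (by simp) (by simp), map_add, e4, a1, es]
  exact Prod.ext (by simp) (by simp)

end QB

open QB

variable {K : Type} [Field K] [Finite K] {p : ℕ} [Fact p.Prime] [CharP K p]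
  {F : FusionSystem (⊤ : Subgroup (Gu K))} {μ : K}

theorem Nm.hb (h : Nm F p) (h3 : (3 : K) ≠ 0) (_h4 : 4 ≤ Nat.card K) (hμ : μ ≠ 0) : Mor F ⊤ (dg μ⁻¹ (μ ^ 2) 1) := by
  haveI := NeZero.mk h3
  obtain ⟨φ, hφ, a, ha⟩ := mov2 h.sat h.s3 h.e2
  obtain ⟨k, k0, -, k1, k2⟩ := (pl2 h.sat).exists_h (M := ⊤) (fun _ _ _ _ => trivial) hφ ha hμ
  obtain ⟨t, α, γ, τ, a0, b0, m, q⟩ := h.ext2 k0.1 (norm2 h.sat h.s3 k0 fun u => by rw [k1])
  obtain ⟨rfl, e1⟩ := eq_one_of (β := 1) (τ := τ) (mul_ne_zero (pow_ne_zero 2 a0) b0) fun c => by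
    have := M2_c k0.2 (xc_mem c)
    rw [q _ (xc_mem c).2.1, cj_c (by simp [mem_Z3])] at this
    simpa using this
  have e2 := k2 (0, 1)
  simp only [r2, AddMonoidHom.mk'_apply, q _ (ez_mem _).2.1, p2] at e2
  rw [cj_s (by simp [mem_Z2, ez])] at e2
  simp [ez] at e2
  obtain rfl : α = μ⁻¹ := by linear_combination e2 - α * e1
  obtain rfl : γ = μ ^ 2 := by field_simp at e1; exact e1
  exact m

end CF.FusG
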