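import Cfsg.Agent.FusG.E5a
import Cfsg.Agent.FusG.QB1
import Cfsg.Agent.FusG.E2

/-! Essential subgroups of a Sylow `p`-subgroup of `G₂(q)`, `p ≥ 5`: the four exceptional shapes do not occur. -/

set_option autoImplicit false
set_option linter.style.haveILetI false
set_option linter.unusedSimpArgs false

namespace CF.FusG

open Cfsg Cfsg.FusionSystem Subgroup CF.Fus CF.FusD CF.FusU Function Gu Matrix

namespace E5

variable {K : Type} [Field K] [Finite K] {p : ℕ} [Fact p.Prime] {F : FusionSystem (⊤ : Subgroup (Gu K))}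
  {E Z P : Subgroup (Gu K)} {Y M : Subgroup (MulAut E)} {g : MulAut E} {u y : Gu K}

/-- the essential subgroups above `Z` are the two parabolic ones -/
def Lz (F : FusionSystem (⊤ : Subgroup (Gu K))) (p : ℕ) (Z : Subgroup (Gu K)) : Prop :=
  ∀ P, F.IsEssential p P → Z ≤ P → P = Q1 K ∨ P = Q2 K

theorem six (h2 : (2 : K) ≠ 0) (h3 : (3 : K) ≠ 0) (h7 : Nat.card K ≠ 7) : ∃ μ : K, μ ≠ 0 ∧ μ ^ 6 ≠ 1 := by
  by_contra! c
  obtain ⟨α, a⟩ := IsCyclic.exists_ofOrder_eq_natCard (α := Kˣ)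
  rw [Nat.card_units] at a
  have d : Nat.card K - 1 ∣ 6 := a ▸ orderOf_dvd_of_pow_eq_one (Units.ext (by simpa using c α α.ne_zero))
  have e : ((Nat.card K : ℕ) : K) = 0 := by
    haveI := Fintype.ofFinite K
    rw [Nat.card_eq_fintype_card]; exact FiniteField.cast_card_eq_zero K
  have l := Nat.le_of_dvd (by norm_num) d
  have l' : 1 < Nat.card K := Finite.one_lt_card
  generalize Nat.card K = n at *
  have : n ≤ 7 := by omega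
  interval_cases n
  exacts [h2 (by exact_mod_cast e), h3 (by exact_mod_cast e),
    mul_ne_zero h2 h2 (by push_cast at e; linear_combination e), by omega, by omega, h7 rfl]

theorem extI (h3 : (3 : K) ≠ 0) (hF : Sat F p) (hZ : ∀ f, PIso f ⊤ ⊤ → ∀ x ∈ Z, f x ∈ Z) (L : Lz F p Z) (l : Z ≤ P)
    (n1 : ¬ P ≤ Q1 K) (n2 : ¬ P ≤ Q2 K ∨ ¬ F.IsEssential p (Q2 K)) {β : MulAut P} (hβ : β ∈ F.autGroup P) :
    ∃ f, PIso f ⊤ ⊤ ∧ ∀ x ∈ P, f x = fn β x := by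
  obtain ⟨α, -, e⟩ := ext_S hF (fun P => Z ≤ P ∧ ¬ P ≤ Q1 K ∧ (¬ P ≤ Q2 K ∨ ¬ F.IsEssential p (Q2 K)))
    (fun P Q l i => ⟨i.1.trans l, fun c => i.2.1 (l.trans c), i.2.2.imp_left fun n c => n (l.trans c)⟩)
    (fun α _ P _ i => ⟨fun y hy => fn_fn_inv α y ▸ mem_img_of_mem (i.1 (hZ _ (piso_fn α⁻¹) y hy)),
      fun c => i.2.1 fun x hx => CH.back (piso_fn α) (map_Q1 h3 (piso_fn α)) (img_le_iff.1 c x hx),
      i.2.2.imp_left fun n c => n fun x hx => CH.back (piso_fn α) (map_Q2 h3 (piso_fn α)) (img_le_iff.1 c x hx)⟩)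
    (fun P hP i => by
      rcases L P hP i.1 with rfl | rfl
      exacts [i.2.1 le_rfl, i.2.2.elim (· le_rfl) (· hP)]) ⟨l, n1, n2⟩ (mor_fn le_top hβ)
  exact ⟨_, piso_fn α, e⟩

variable (h2 : (2 : K) ≠ 0) (h3 : (3 : K) ≠ 0) (hF : Sat F p) (hE : F.IsEssential p E) (h : Mn p ⊤ E Y M)
  (sy : SylIn p (autInducedBy ⊤ E) Y) (yl : Y ≤ F.autGroup E)
include h2 h3 hF hE h sy yl

theorem killD (i2 : Y ≤ stab E (Z2 K)) (l3 : Z3 K ≤ E) (l : E ≤ Q2 K) (n1 : ¬ E ≤ Q1 K) : Y ≤ stab E (Z3 K) := by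
  by_contra c
  obtain ⟨g, hg, gn⟩ := h.exg
  obtain ⟨r, hr, n⟩ := h.moves l3 (fun n _ x hx => l23 (cm2 hx n)) c hg gn
  have um := fn_mem g (l3 hr)
  have k1 : ∀ x ∈ E, x.a * (fn g r).b = (fn g r).a * x.b := fun x hx => mul_left_cancel₀ h2 (by
    have := (E2.cm_fn (i2 hg) (l3 hr) (cm2 hr) hx).2.2.2
    rw [cm_c2 (l um) (l hx)] at this
    linear_combination this)
  have a0 : (fn g r).a ≠ 0 := fun e => n1 fun x hx => by_contra fun x0 =>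
    n ⟨e, l um, by simpa [e, show x.a ≠ 0 from x0] using k1 x hx⟩
  have k2 : ∀ x ∈ E, x.a = 0 → x ∈ Z3 K := fun x hx e => ⟨e, l hx, by simpa [e, a0] using k1 x hx⟩
  have hn : ∀ b, xb b ∈ NS ⊤ E := fun b => h.mem_NS trivial fun x _ => l3 (cm3' x (xb_mem _))
  have ln : ∀ a ∈ Z3 K, (xc a.c)⁻¹ * a ∈ Z2 K := fun a ha => of3 (mul_mem (inv_mem (xc_mem _)) ha) (by simp)
  have R : Ps ⊤ (Z3 K) (Z2 K) Y Gu.a xc fun κ => xb (-κ / 2) := ⟨l3, l23, i2, mul_a,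
    fun x hx => ⟨k2 x hx, fun m => m.1⟩, xc_mem, fun σ τ => by ext <;> simp, fun σ m => m.2.2.2, fun κ => hn _,
    fun κ x _ => of3 (mul_mem (inv_mem (xc_mem _)) (cm3' x (xb_mem _))) (by
      simp [cm_c4' x (xb_mem _)]; field_simp; ring), fun s hs x hx => k2 _ (cm_mem hx hs.2) (cm_a _ _),
    fun s _ x hx => cm2 hx s⟩
  have nq : ∀ s ∈ NS ⊤ E, s ∈ Q2 K := fun s hs => by
    simpa [cm_b, mem_Q2.1 (l um), a0, mem_Q2] using (R.n1 s hs _ um).2.2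
  obtain ⟨β, -, b1, b2, b3⟩ := (plx h R hg gn hF hE sy yl (kg_of h R hg gn (fun a ha => ⟨_, ln a ha⟩)
    (fun κ m => by simpa [h2] using (k2 _ m rfl).2.2) hr n) i2 (l23.trans l3)
    fun s hs c hc => cm_eq_one.2 (Q22 (nq s hs) hc).symm).2.2 (-1) (by simp)
  have b4 : ∀ x ∈ Z3 K, fn β x ∈ Z3 K ∧ (fn β x).c = -x.c := fun x hx =>
    ⟨(mul_mem_cancel_left (inv_mem (xc_mem _))).1 (l23 (b2 x _ (ln x hx))), by
      have := (b2 x _ (ln x hx)).2.2.2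
      simp only [mul_c, inv_c, inv_a, xc_a, xc_b, xc_c, xc_t] at this
      linear_combination this⟩
  have n' : (fn β (xb 1)).t = 0 := nq _ (fn_mem β (hn 1))
  have e1 := b3 _ (cm2 (xc_mem 1) (xb 1))
  rw [fn_cm β (le_NS le_top (l3 (xc_mem 1))) (hn 1)] at e1
  have e2 : (fn β (xb 1)).a = 0 := by
    simpa [cm_s3 (b4 _ (xc_mem 1)).1, cm_s3 (xc_mem (1 : K)), (b4 _ (xc_mem 1)).2, h3] using congrArg Gu.s e1
  have e3 : (fn β (xb 1)).b = -1 := mul_left_cancel₀ h3 (by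
    simpa [cm_z3 (b4 _ (xc_mem 1)).1, cm_z3 (xc_mem (1 : K)), (b4 _ (xc_mem 1)).2, n'] using congrArg Gu.z e1)
  have e4 := (b4 _ (cm3' (fn g r) (xb_mem 1))).2
  rw [fn_cm β (le_NS le_top um) (hn 1), cm_c4' _ ⟨e2, n'⟩, cm_c4' _ (xb_mem 1), (b1 _ um).2, e3, xb_b, inv_neg,
    inv_one] at e4
  exact mul_ne_zero (mul_ne_zero h2 h2) a0 (by linear_combination -e4)

theorem killC (L : Lz F p (Z3 K)) (i1 : Y ≤ stab E (Z1 K)) (l2 : Z2 K ≤ E) (hg : g ∈ Y) (gn : g ∉ M) (hy : y ∈ Z2 K)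
    (a0 : (fn g y).a ≠ 0) : (fn g y).t = 0 := by
  by_contra t0
  have um := fn_mem g (l2 hy)
  have k2 : ∀ x ∈ E, x.a = 0 → x ∈ Z2 K := fun x hx e => by
    have k := E2.cm_fn (i1 hg) (l2 hy) (cm1 hy) hx
    have m4 : x ∈ Z4 K := ⟨e, by simpa [cm_b, e, a0] using k.2.2.1⟩
    have m3 := of4 m4 (by simpa [cm_c4' _ m4, h2, a0] using k.2.2.2.1)
    exact of3 m3 (by simpa [cm_s3' _ m3, h3, a0] using k.2.2.2.2)
  have hn : Z3 K ≤ NS ⊤ E := fun b hb => h.mem_NS trivial fun x _ => l2 (cm2' x hb)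
  have ln : ∀ a ∈ Z2 K, (xs a.s)⁻¹ * a ∈ Z1 K := fun a ha => of2 (mul_mem (inv_mem (xs_mem _)) ha) (by simp)
  have R : Ps ⊤ (Z2 K) (Z1 K) Y Gu.a xs fun κ => xc (-κ / 3) := ⟨l2, l12, i1, mul_a,
    fun x hx => ⟨k2 x hx, fun m => m.1⟩, xs_mem, fun σ τ => by ext <;> simp, fun σ m => m.2.2.2.2,
    fun κ => hn (xc_mem _), fun κ x _ => of2 (mul_mem (inv_mem (xs_mem _)) (cm2' x (xc_mem _))) (by
      simp [cm_s3' x (xc_mem _)]; field_simp; ring), fun s hs x hx => k2 _ (cm_mem hx hs.2) (cm_a _ _),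
    fun s _ x hx => cm1 hx s⟩
  obtain ⟨su, -, q⟩ := plx h R hg gn hF hE sy yl (kg_of h R hg gn (fun a ha => ⟨_, ln a ha⟩)
    (fun κ m => by simpa [h3] using (k2 _ m rfl).2.2.2) hy fun m => a0 m.1) i1 (l12.trans l2) fun s _ c hc => cm0 hc s
  obtain ⟨β, hβ, b1, b2, b3⟩ := q (-1) (by simp)
  have eN := le_NS (P := E) le_top
  obtain ⟨f, f1, f2⟩ := extI h3 hF (fun _ => map_Z3 h2 h3) L hn (fun c => a0 (c (eN um)))
    (.inl fun c => t0 (c (eN um))) hβ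
  obtain ⟨α, γ, τ, -, -, ea, -, -, es, ez⟩ := wts h2 h3 f1
  obtain ⟨x, hx, x1⟩ := su 1
  have e1 := (ea x).1
  have e2 := es _ (xs_mem 1)
  have e3 := ez _ (xz_mem 1)
  have e4 := (b2 _ _ (ln _ (xs_mem 1))).2.2.2.2
  rw [f2 x (eN hx), (b1 x hx).2, x1, map_one, inv_neg, inv_one, mul_one, mul_one] at e1
  rw [f2 _ (eN (l2 (xs_mem 1))), xs_s, map_one] at e2
  rw [f2 _ (eN (l2 (l12 (xz_mem 1)))), b3 _ (xz_mem 1), xz_z, map_one] at e3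
  simp only [mul_s, inv_s, inv_a, xs_a, xs_b, xs_c, xs_t, xs_s, e2, ← e1] at e3 e4
  exact h2 (by linear_combination e3 + (γ + 1) * e4)

theorem killA (h7 : Nat.card K ≠ 7) (L : Lz F p (Z2 K)) : Z2 K ≤ E := fun a ha => by_contra fun an => by
  obtain ⟨C, c1, c2, c3⟩ := E2.dZ1 h
  obtain ⟨g, hg, gn⟩ := h.exg
  have l1 := E2.leZ1 h
  have k0 : ∀ z ∈ Z1 K, (fn g z).t = 0 → z ∈ C := fun z hz e => (c3 z hz g hg gn a (E2.n2 h ha) an).1 (Q22 e ha)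
  have k1 : ∀ z ∈ C, z = 1 := fun z hz => by_contra fun z0 => by
    obtain ⟨w, hw, wn⟩ : ∃ w ∈ Z1 K, w ∉ C := by
      by_contra! c
      exact an (h.ch2 (le_stab l1 fun α hα x hx => by rwa [c2 x (c x hx) α hα]) (E2.n2 h ha) (fun x _ => cm1' x ha)
        fun x _ hx => cm0 hx a)
    obtain ⟨t, ht, e⟩ := exists_cm2 (mt (k0 w hw) wn) (c1 hz)
    exact wn (k0 w hw ((c3 w hw g hg gn t (E2.n2 h ht) fun c => z0 (by rw [← e, cm_eq_one, E2.cenZ h hw g c])).2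
      (e ▸ hz)).2.1)
  have z1 := xz_mem (1 : K)
  have z0 : xz (1 : K) ≠ 1 := fun e => one_ne_zero (congrArg Gu.z e)
  have s0 := mt (fun e => k1 _ (k0 _ z1 e)) z0
  have c4 := fun e => E2.cenZ h z1 g (e := e)
  have wm := fn_mem g (l1 z1)
  have a0 : (fn g (xz 1)).a ≠ 0 := fun a0 => by
    have c5 := fun t ht tn e => z0 (k1 _ ((c3 _ z1 g hg gn t ht tn).1 e))
    generalize fn g (xz 1) = w at *
    have l : ∀ t ∈ Q1 K, (cm w t).z = 0 → t ∈ E := fun t ht e => by_contra fun tn => c5 t (h.mem_NS trivial fun x hx =>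
      l1 (cmQ1 (by simpa [a0, s0, mem_Q1] using comm_b (c4 x hx)) ht)) tn (cm_eq_one.1 (of1 (cmQ1 a0 ht) e))
    have m1 := l ⟨0, 0, 1, 0, -3 * w.c / w.t, 0⟩ rfl (by rw [cm_z1 a0 rfl]; field_simp; ring)
    have m2 := l ⟨0, 0, 0, 1, 3 * w.b / w.t, 0⟩ rfl (by rw [cm_z1 a0 rfl]; field_simp; ring)
    have := congrArg Gu.z (k1 (cm _ _) (k0 _ (cmQ1 rfl rfl) (by rw [fn_cm g m1 m2, cm_t])))
    rw [cm_z1 rfl rfl] at this
    simp [h3] at this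
  have k2 : ∀ x ∈ E, x.t = 0 → x ∈ Z1 K := fun x hx e => by
    have k := cm_eq_one.2 (c4 x hx)
    have m4 : x ∈ Z4 K := ⟨by simpa [e, s0] using comm_b (c4 x hx), e⟩
    have m3 := of4 m4 (by simpa [cm_c4 m4, h2, a0] using congrArg Gu.c k)
    have m2 := of3 m3 (by simpa [cm_s3 m3, h3, a0] using congrArg Gu.s k)
    exact of2 m2 (by simpa [cm_z2 m2, s0] using congrArg Gu.z k)
  have R : Ps ⊤ (Z1 K) ⊥ Y Gu.t xz fun κ => xs (-κ) := ⟨l1, bot_le, le_stab_bot, mul_t,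
    fun x hx => ⟨k2 x hx, fun m => m.2.1⟩, xz_mem, fun σ τ => by ext <;> simp, fun σ m => congrArg Gu.z (mem_bot.1 m),
    fun κ => E2.n2 h (xs_mem _), fun κ x _ => mem_bot.2 (of1 (mul_mem (inv_mem (xz_mem _)) (cm1' x (xs_mem _))) (by
      simp [cm_z2' x (xs_mem _)]; ring)), fun s hs x hx => k2 _ (cm_mem hx hs.2) (cm_t _ _),
    fun s _ x hx => mem_bot.2 (cm0 hx s)⟩
  obtain ⟨su, -, q⟩ := plx h R hg gn hF hE sy yl (fun x hx m => mem_bot.2 (k1 x (k0 x hx m.2.1))) le_stab_bot bot_le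
    fun s _ c hc => by rw [mem_bot.1 hc]; simp [cm]
  obtain ⟨μ, μ0, μ6⟩ := six h2 h3 h7
  obtain ⟨β, hβ, b1, b2, -⟩ := q μ μ0
  have eN := le_NS (P := E) le_top
  obtain ⟨f, f1, f2⟩ := extI h3 hF (fun _ => map_Z2 h3) L (fun _ => E2.n2 h) (fun c => a0 (c (eN wm)))
    (.inl fun c => s0 (c (eN wm))) hβ
  obtain ⟨α, γ, τ, -, γ0, ea, -, -, -, ez⟩ := wts h2 h3 f1
  obtain ⟨rfl, rfl⟩ := QB.eq_one_of (τ := τ) (β := μ⁻¹) γ0 fun κ => by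
    obtain ⟨x, hx, rfl⟩ := su κ
    rw [← (ea x).2, f2 x (eN hx), (b1 x hx).2]
  have e1 := comm_b (c4 _ (b1 _ wm).1)
  rw [(b1 _ wm).2, ← f2 _ (eN wm), (ea _).1] at e1
  have e2 : α = μ⁻¹ := mul_left_cancel₀ (mul_ne_zero s0 a0) (by
    simp only [RingAut.one_apply] at e1
    linear_combination e1)
  have e3 := ez _ z1
  rw [f2 _ (eN (l1 z1)), ← inv_mul_eq_one.1 (mem_bot.1 (b2 (xz 1) 1 (by simp))), e2] at e3
  simp only [xz_z, map_one, mul_one] at e3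
  field_simp at e3
  exact μ6 e3

theorem killB [CharP K p] (L : Lz F p (Z3 K)) (hu : ∀ x, x ∈ E ↔ u * x = x * u) (t0 : u.t = 0) : u.a = 0 := by
  by_contra a0
  obtain ⟨g, hg, gn⟩ := h.exg
  have um : u ∈ E := (hu u).2 rfl
  have l2 : Z2 K ≤ E := fun x hx => (hu x).2 (Q22 t0 hx)
  obtain ⟨κ, hκ⟩ : ∃ κ, u.b = κ * u.a := ⟨u.b / u.a, by field_simp⟩
  have k0 : ∀ s, cm u s ∈ Z2 K → s.t = 0 ∧ s.b = κ * s.a := fun s m => by
    have e : s.t = 0 := by simpa [cm_b, t0, a0] using m.2.2.1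
    have := m.2.2.2
    rw [cm_c2 t0 e, hκ] at this
    exact ⟨e, mul_left_cancel₀ (mul_ne_zero h2 a0) (by linear_combination -this)⟩
  have k2 : ∀ x ∈ E, x.a = 0 → x ∈ Z2 K := fun x hx e => by
    have k1 := cm_eq_one.2 ((hu x).1 hx)
    have k := k0 x (k1 ▸ one_mem _)
    have m3 : x ∈ Z3 K := ⟨e, k.1, by simpa [e] using k.2⟩
    exact of3 m3 (by simpa [cm_s3' _ m3, h3, a0] using congrArg Gu.s k1)
  have nq : ∀ s ∈ NS ⊤ E, s.t = 0 ∧ s.b = κ * s.a := fun s hs => k0 s (k2 _ (cm_mem um hs.2) (cm_a _ _))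
  have eN := le_NS (P := E) le_top
  have hn : Z3 K ≤ NS ⊤ E := fun b hb => h.mem_NS trivial fun x _ => l2 (cm2' x hb)
  by_cases e2 : F.IsEssential p (Q2 K)
  · haveI := NeZero.mk h3
    obtain ⟨m, m1, -, m2⟩ := QB.bar hF (stab_of_char (A := ⊤) (B := ⊤) (l34.trans l42) le_stab_top le_stab_top
      (fun φ _ => QB.stab_Z2 φ) fun x hx => ⟨fun m => ⟨trivial, fun e _ _ => cm2 m e⟩, fun m =>
        ⟨by simpa [cm_c2 hx (xb_mem 1).2, h2] using (m.2 (xb 1) rfl trivial).2.2.2, hx,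
          by simpa [cm_c2 hx (y := xa 1) rfl, h2] using (m.2 (xa 1) rfl trivial).2.2.2⟩⟩) e2
    have lq : E ≤ Q2 K := fun x hx => (nq x (eN hx)).1
    have c := (hF.ess_fn hE).2 _ ((mor_fn le_top (mul_mem m1.1 (cA_mem_autGroup F le_top (mem_top (xt κ))))).mono
      lq).isConj
    have i2 : img (fn (m * cA (Q2 K) (xt κ))) E ≤ Q1 K := img_le_iff.2 fun x hx => by
      rw [mem_Q1, fn_mul, (m2 _ (fn_mem _ (lq hx))).1, fn_cA (nQ2 _) (lq hx), ← mul_cm, mul_b, cm_b, (nq x (eN hx)).2]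
      simp
    generalize m * cA (Q2 K) (xt κ) = φ at c i2
    have i3 : Q1 K ≤ NS ⊤ (img (fn φ) E) := fun t ht => ⟨trivial, norm_of_cm (S := ⊤) le_top fun x hx =>
      fn_fn_inv φ (cm x t) ▸ mem_img_of_mem (l2 (stab_maps (QB.stab_Z2 φ⁻¹) (l12 (cmQ1 (i2 hx) ht))))⟩
    have j1 := Nat.card_le_card_of_injective (fun v : K × K × K × K × K =>
      (⟨⟨0, v.1, v.2.1, v.2.2.1, v.2.2.2.1, v.2.2.2.2⟩, i3 rfl⟩ : NS ⊤ (img (fn φ) E))) fun v w e => by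
        simpa [Prod.ext_iff] using e
    have j2 := Nat.card_le_card_of_injective (fun x : NS ⊤ E => (x.1.a, x.1.c, x.1.s, x.1.z)) fun x y e => by
      simp only [Prod.mk.injEq] at e
      exact Subtype.ext (Gu.ext e.1 ((nq _ x.2).1.trans (nq _ y.2).1.symm) (by rw [(nq _ x.2).2, (nq _ y.2).2, e.1])
        e.2.1 e.2.2.1 e.2.2.2)
    have := j1.trans (c.trans j2)
    simp only [Nat.card_prod] at this
    have l' : 1 < Nat.card K := Finite.one_lt_card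
    have l0 := one_pos.trans l'
    nlinarith [Nat.le_of_mul_le_mul_left (Nat.le_of_mul_le_mul_left (Nat.le_of_mul_le_mul_left this l0) l0) l0]
  obtain ⟨C, -, c1, c2, c3⟩ := FusT.d0 h l2 le_stab_bot
    (fun t _ => nrm (fun x hx y => by rw [mem_bot.1 hx]; simp [cm]) t) bot_le
    fun n hn x hx => mem_bot.2 (cm_eq_one.2 (Q22 (nq n hn).1 hx).symm)
  have sC : Y ≤ stab E C := le_stab (c1.trans l2) fun α hα x hx => by
    rwa [← inv_mul_eq_one.1 (mem_bot.1 (c2 x hx α hα))]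
  obtain ⟨ℓ, hℓ⟩ : ∃ ℓ : K → Gu K, ∀ σ, ℓ σ = ⟨0, 0, 0, 0, σ, -(κ * σ)⟩ := ⟨_, fun _ => rfl⟩
  have lm : ∀ σ, ℓ σ ∈ Z2 K := fun σ => hℓ σ ▸ ⟨rfl, rfl, rfl, rfl⟩
  have cc : ∀ x ∈ E, ∀ r ∈ Z3 K, cm x r = ℓ (-(3 * x.a * r.c)) := fun x hx r hr =>
    Z2_ext (cm2' x hr) (lm _) (by rw [hℓ, cm_s3' x hr]) (by
      rw [hℓ, cm_z3' x hr, (nq x (eN hx)).1, (nq x (eN hx)).2]; ring)
  have n1 : ∀ c, xc c ∈ E → c = 0 := fun c m => (k2 _ m rfl).2.2.2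
  obtain ⟨y, hy, n⟩ := h.moves l2 (fun n _ x hx => l12 (cm1 hx n)) (fun i => one_ne_zero (n1 1 (h.ch2 i
    (hn (xc_mem 1)) (fun x _ => cm2' x (xc_mem 1)) fun x _ hx => cm_eq_one.2 (Z33 (l23 hx) (xc_mem 1))))) hg gn
  have ym := fn_mem g (l2 hy)
  have y0 : (fn g y).a ≠ 0 := mt (k2 _ ym) n
  have R : Ps ⊤ (Z2 K) C Y Gu.a ℓ fun κ => xc (-κ / 3) := ⟨l2, c1, sC, mul_a, fun x hx => ⟨k2 x hx, fun m => m.1⟩, lm,
    fun σ τ => by ext <;> simp [hℓ]; ring, fun σ m => by_contra fun σ0 => n ((c3 y hy g hg gn _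
      (hn (xc_mem (-σ / (3 * (fn g y).a)))) fun c => σ0 (by simpa [h3, y0] using n1 _ c)).2 (by
        rwa [cc _ ym _ (xc_mem _), xc_c, mul_div_cancel₀ _ (mul_ne_zero h3 y0), neg_neg])),
    fun κ => hn (xc_mem _), fun κ x hx => by
      rw [cc x hx _ (xc_mem _), show -(3 * x.a * (xc (-κ / 3)).c) = κ * x.a by simp; field_simp, inv_mul_cancel]
      exact one_mem _,
    fun s hs x hx => k2 _ (cm_mem hx hs.2) (cm_a _ _), fun s hs x hx => by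
      rw [cm_eq_one.2 (Q22 (nq s hs).1 hx).symm]; exact one_mem _⟩
  obtain ⟨t, ht, tn⟩ := h.ext
  obtain ⟨su, ln, q⟩ := plx h R hg gn hF hE sy yl (fun x hx m => (c3 x hx g hg gn t ht tn).1
    (mem_bot.2 (cm_eq_one.2 (Q22 (nq t ht).1 m).symm))) sC (c1.trans l2)
    fun s hs c hc => cm_eq_one.2 (Q22 (nq s hs).1 (c1 hc)).symm
  obtain ⟨β, hβ, b1, b2, b3⟩ := q (-1) (by simp)
  obtain ⟨f, f1, f2⟩ := extI h3 hF (fun _ => map_Z3 h2 h3) L hn (fun c => a0 (c (eN um))) (.inr e2) hβ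
  obtain ⟨α, γ, τ, α0, -, ea, -, ec, es, ez⟩ := wts h2 h3 f1
  obtain ⟨rfl, rfl⟩ := QB.eq_one_of (τ := τ) (β := -1) α0 fun κ => by
    obtain ⟨x, hx, rfl⟩ := su κ
    rw [← (ea x).1, f2 x (eN hx), (b1 x hx).2, inv_neg, inv_one]
  have e1 := b2 (cm u (xc 1)) _ (by rw [← cc u um _ (xc_mem 1), inv_mul_cancel]; exact one_mem _)
  rw [fn_cm β (eN um) (hn (xc_mem 1)), ← f2 _ (hn (xc_mem 1)), cc _ (b1 u um).1 _ (map_Z3 h2 h3 f1 _ (xc_mem 1)),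
    (b1 u um).2, ec _ (xc_mem 1)] at e1
  obtain rfl : γ = 1 := sub_eq_zero.1 (mul_left_cancel₀ (mul_ne_zero h3 a0) ((R.l0 _ (by
    convert e1 using 1
    ext <;> simp [hℓ] <;> ring)).trans (mul_zero _).symm))
  obtain ⟨σ, d⟩ := ln _ (l12 (xz_mem 1))
  have e3 := es _ (c1 d)
  rw [f2 _ (eN (l2 (c1 d))), b3 _ d] at e3
  obtain rfl : σ = 0 := mul_left_cancel₀ h2 (by simp [hℓ] at e3; linear_combination e3)
  rw [show (ℓ 0)⁻¹ * xz 1 = xz 1 by ext <;> simp [hℓ]] at d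
  have e4 := ez _ (xz_mem 1)
  rw [f2 _ (eN (l2 (c1 d))), b3 _ d] at e4
  exact h2 (by simp at e4; linear_combination e4)

end E5

end CF.FusG
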