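import Cfsg.Agent.FusG.B
import Cfsg.Agent.FusT.P
import Cfsg.Prelude.Def_G2

/-! The Chevalley group `G₂(q)` and the model of its Sylow `p`-subgroup. -/

set_option autoImplicit false
set_option linter.style.haveILetI false
set_option linter.unusedSimpArgs false
set_option linter.unusedSectionVars false

namespace CF.FusG

open Cfsg Subgroup CF.Fus CF.FusD CF.FusU Function Gu CF.Tb CF.BN
open scoped commutatorElement

namespace GE

section

variable {K : Type*} [Field K] {x y : Gu K}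

/-- the standard hexagonal system -/
def hs0 (K : Type*) [Field K] : Hx.HS K K where
  e := 1
  sh a := a ^ 2
  N a := a ^ 3
  T := LinearMap.mk₂ _ (fun a b => 3 * a * b) (fun a b c => by ring) (fun c a b => by simp; ring)
    (fun a b c => by ring) fun c a b => by simp; ring
  cr := LinearMap.mk₂ _ (fun a b => 2 * a * b) (fun a b c => by ring) (fun c a b => by simp; ring)
    (fun a b c => by ring) fun c a b => by simp; ring
  Ts a b := by simp; ring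
  cs a b := by simp; ring
  sh_smul t a := by simp; ring
  N_smul t a := by simp; ring
  T_cr a b c := by simp; ring
  sh_add a b := by simp; ring
  N_add a b := by simp; ring
  T_sh a := by simp; ring
  sh_sh a := by simp; ring
  cr_cr a b := by simp; ring
  sh_e := by simp
  cr_e b := by simp; ring
  N_ne a e := pow_eq_zero_iff three_ne_zero |>.1 e
  ne := one_ne_zero

/-- the root subgroups -/
def rt (K : Type*) [Field K] (r : ℕ) : Subgroup (Gu K) where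
  carrier := {x | (r ≠ 0 → x.t = 0) ∧ (r ≠ 1 → x.b = 0) ∧ (r ≠ 2 → x.z = 0) ∧ (r ≠ 3 → x.c = 0) ∧
    (r ≠ 4 → x.s = 0) ∧ (r ≠ 5 → x.a = 0)}
  one_mem' := by simp
  mul_mem' := fun {x y} h k => by rcases r with _ | _ | _ | _ | _ | _ | r <;> simp_all
  inv_mem' := fun {x} h => by rcases r with _ | _ | _ | _ | _ | _ | r <;> simp_all

theorem mem_rt {r : ℕ} : x ∈ rt K r ↔ (r ≠ 0 → x.t = 0) ∧ (r ≠ 1 → x.b = 0) ∧ (r ≠ 2 → x.z = 0) ∧ (r ≠ 3 → x.c = 0) ∧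
    (r ≠ 4 → x.s = 0) ∧ (r ≠ 5 → x.a = 0) := Iff.rfl

theorem rt0 (h : x ∈ rt K 0) : x = xt x.t := by ext <;> simp_all [mem_rt]
theorem rt1 (h : x ∈ rt K 1) : x = xb x.b := by ext <;> simp_all [mem_rt]
theorem rt2 (h : x ∈ rt K 2) : x = xz x.z := by ext <;> simp_all [mem_rt]
theorem rt3 (h : x ∈ rt K 3) : x = xc x.c := by ext <;> simp_all [mem_rt]
theorem rt4 (h : x ∈ rt K 4) : x = xs x.s := by ext <;> simp_all [mem_rt]
theorem rt5 (h : x ∈ rt K 5) : x = xa x.a := by ext <;> simp_all [mem_rt]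
theorem mr0 (a : K) : xt a ∈ rt K 0 := by simp [mem_rt]
theorem mr1 (a : K) : xb a ∈ rt K 1 := by simp [mem_rt]
theorem mr2 (a : K) : xz a ∈ rt K 2 := by simp [mem_rt]
theorem mr3 (a : K) : xc a ∈ rt K 3 := by simp [mem_rt]
theorem mr4 (a : K) : xs a ∈ rt K 4 := by simp [mem_rt]
theorem mr5 (a : K) : xa a ∈ rt K 5 := by simp [mem_rt]

theorem gen {H : Subgroup (Gu K)} (h : ∀ r ≤ 5, rt K r ≤ H) : H = ⊤ := eq_top_iff.2 fun x _ => by
  rw [prod_x x]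
  exact mul_mem (mul_mem (mul_mem (mul_mem (mul_mem (h 0 (by omega) (mr0 _)) (h 1 (by omega) (mr1 _)))
    (h 3 (by omega) (mr3 _))) (h 4 (by omega) (mr4 _))) (h 2 (by omega) (mr2 _))) (h 5 le_rfl (mr5 _))

theorem dg_of_rt [Finite K] {f : Gu K →* Gu K} (h : Injective f) (r : ∀ r ≤ 5, ∀ x ∈ rt K r, f x ∈ rt K r) :
    ∃ (α β : K) (τ : K ≃+* K), α ≠ 0 ∧ β ≠ 0 ∧ ∀ x, f x = dg α β τ x := by
  obtain ⟨A, hA⟩ : ∃ A : K → K, ∀ a, f (xa a) = xa (A a) := ⟨_, fun a => rt5 (r 5 le_rfl _ (mr5 a))⟩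
  obtain ⟨B, hB⟩ : ∃ A : K → K, ∀ a, f (xt a) = xt (A a) := ⟨_, fun a => rt0 (r 0 (by omega) _ (mr0 a))⟩
  obtain ⟨C, hC⟩ : ∃ A : K → K, ∀ a, f (xb a) = xb (A a) := ⟨_, fun a => rt1 (r 1 (by omega) _ (mr1 a))⟩
  obtain ⟨D, hD⟩ : ∃ A : K → K, ∀ a, f (xc a) = xc (A a) := ⟨_, fun a => rt3 (r 3 (by omega) _ (mr3 a))⟩
  obtain ⟨S, hS⟩ : ∃ A : K → K, ∀ a, f (xs a) = xs (A a) := ⟨_, fun a => rt4 (r 4 (by omega) _ (mr4 a))⟩
  obtain ⟨Z, hZ⟩ : ∃ A : K → K, ∀ a, f (xz a) = xz (A a) := ⟨_, fun a => rt2 (r 2 (by omega) _ (mr2 a))⟩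
  have e : ∀ x, f x = ⟨A x.a, B x.t, C x.b, D x.c, S x.s, Z x.z⟩ := fun x => by
    conv_lhs => rw [prod_x x]
    simp only [map_mul, hA, hB, hC, hD, hS, hZ]
    ext <;> simp
  have z := (e 1).symm.trans f.map_one
  simp only [Gu.ext_iff, one_a, one_t, one_b, one_c, one_s, one_z] at z
  obtain ⟨z1, z2, z3, z4, z5, z6⟩ := z
  have m : ∀ x y : Gu K, (⟨A (x * y).a, B (x * y).t, C (x * y).b, D (x * y).c, S (x * y).s, Z (x * y).z⟩ : Gu K) =
      ⟨A x.a, B x.t, C x.b, D x.c, S x.s, Z x.z⟩ * ⟨A y.a, B y.t, C y.b, D y.c, S y.s, Z y.z⟩ := fun x y => by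
    rw [← e, ← e, ← e, map_mul]
  have a0 : A 1 ≠ 0 := fun q => one_ne_zero (congrArg Gu.a (h (a₂ := 1) (by rw [hA, q, map_one]; rfl)))
  have b0 : B 1 ≠ 0 := fun q => one_ne_zero (congrArg Gu.t (h (a₂ := 1) (by rw [hB, q, map_one]; rfl)))
  have n := mul_ne_zero a0 b0
  have k : ∀ a t, C (t * a) = B t * A a ∧ D (t * a ^ 2) = B t * A a ^ 2 ∧ S (t * a ^ 3) = B t * A a ^ 3 := fun a t => by
    have := m (xa a) (xt t)
    simp [Gu.ext_iff, z1, z2, z3, z4, z5, z6] at this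
    exact ⟨this.1, this.2.1, this.2.2.1⟩
  have kz : ∀ s, Z s = B 1 * S s := fun s => by
    have := congrArg Gu.z (m (xt 1 * xs s * xz s) 1)
    have h2 := congrArg Gu.z (m (xs s * xz s) (xt 1))
    simp [z1, z2, z3, z4, z5, z6] at h2
    linear_combination -h2
  have ad : ∀ a b, C (a + b) = C a + C b := fun a b => by
    simpa [z1, z2] using congrArg Gu.b (m (xb a) (xb b))
  have k1 : ∀ t, C t = B t * A 1 := fun t => by simpa using (k 1 t).1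
  have k2 : ∀ a, C a = B 1 * A a := fun a => by simpa using (k a 1).1
  let τ : K →+* K :=
    { toFun := fun u => C u / (A 1 * B 1)
      map_one' := by rw [k1, mul_comm, div_self n]
      map_mul' := fun t a => by rw [(k a t).1, k1 t, k2 a]; field_simp
      map_zero' := by rw [z3, zero_div]
      map_add' := fun a b => by rw [ad, add_div] }
  refine ⟨A 1, B 1, RingEquiv.ofBijective τ (Finite.injective_iff_bijective.1 τ.injective), a0, b0, fun x => ?_⟩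
  have t0 : ∀ u, RingEquiv.ofBijective τ (Finite.injective_iff_bijective.1 τ.injective) u = C u / (A 1 * B 1) :=
    fun _ => rfl
  have k3 : ∀ t, D t = B t * A 1 ^ 2 := fun t => by simpa using (k 1 t).2.1
  have k4 : ∀ t, S t = B t * A 1 ^ 3 := fun t => by simpa using (k 1 t).2.2
  rw [e]
  ext
  · simp only [dg_a, t0, k2]; field_simp
  · simp only [dg_t, t0, k1]; field_simp
  · simp only [dg_b, t0]; field_simp
  · simp only [dg_c, t0, k1, k3]; field_simp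
  · simp only [dg_s, t0, k1, k4]; field_simp
  · simp only [dg_z, t0, k1, kz, k4]; field_simp

theorem dg_rt {α β : K} {τ : K ≃+* K} (a0 : α ≠ 0) (b0 : β ≠ 0) {r : ℕ} :
    dg α β τ x ∈ rt K r ↔ x ∈ rt K r := by simp [mem_rt, a0, b0]

theorem gr_rt {r : ℕ} (hr : r ≤ 5) (h : x ∈ rt K r) : gr x ∈ rt K (5 - r) := by
  interval_cases r <;> simp_all [mem_rt]

universe u

variable {G : Type u} [Group G] {X : ℕ → Subgroup G} {ι : Gu K →* G}

/-- embeddings of the model which respect the root subgroups -/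
structure Em (X : ℕ → Subgroup G) (ι : Gu K →* G) : Prop where
  inj : Injective ι
  eq : ∀ r ≤ 5, X r = (rt K r).map ι

theorem em_of (M : Hx.H6 X) (L : Hx.LR X) {x0 x2 x4 y1 y3 y5 : K → G}
    (H : Hx.HC X (hs0 K) x0 x2 x4 y1 y3 y5) : ∃ ι : Gu K →* G, Em X ι := by
  have Q : Hx.HQ X x0 x2 x4 y1 y3 (hs0 K).T :=
    ⟨M, L, ⟨⟨H.c0.add, H.c0.inj, H.c0.mem⟩, ⟨H.c2.add, H.c2.inj, H.c2.mem⟩, ⟨H.c4.add, H.c4.inj, H.c4.mem⟩, H.r04⟩,
      H.c1, H.c3, H.r13⟩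
  obtain ⟨g0, g1, g2, g3, g4⟩ := Q.gen
  let f : Gu K → G := fun x => Q.P (x.t, x.b, x.c, x.s) x.z * y5 x.a
  have k : ∀ a v c, y5 a * Q.P v c = Q.P (v.1, v.1 • a, v.1 • a ^ 2, v.1 * (hs0 K).N a) (v.1 ^ 2 * (hs0 K).N a) *
      (Q.P (0, v.2.1, (hs0 K).cr a v.2.1, (hs0 K).T v.2.1 (a ^ 2)) ((hs0 K).T a (v.2.1 ^ 2)) * Q.P (0, 0, 0, 0) c *
        Q.P (0, 0, v.2.2.1, (hs0 K).T a v.2.2.1) 0 * Q.P (0, 0, 0, v.2.2.2) 0) * y5 a := fun a v c => by
    rw [← mul_inv_eq_iff_eq_mul, ← g2, ← g4]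
    simp only [Hx.HQ.P, ← conj_mul, H.r05, H.r15, H.r35, H.c0.zero, H.c1.zero, H.c2.zero, one_mul,
      (M.c1 (H.c4.mem' _) (H.c5.mem' a)).symm.mul_inv_cancel,
      (L 2 5 rfl (by omega) le_rfl _ (H.c2.mem' _) _ (H.c5.mem' a)).symm.mul_inv_cancel]
    simp only [mul_assoc]; rfl
  have e : ∀ x y, f (x * y) = f x * f y := fun x y => by
    simp only [f]
    rw [mul_assoc, ← mul_assoc (y5 _), k]
    simp only [← mul_assoc, Q.mul]
    rw [mul_assoc _ (y5 _), ← H.c5.add]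
    congr 2
    · ext <;> simp [hs0] <;> ring
    · simp [hs0]; ring
  refine ⟨.mk' f e, (injective_iff_map_eq_one _).2 fun x (q : f x = 1) => ?_, fun r hr => ?_⟩
  · have a := H.c5.inj ((M.disj' 0 5 (by omega) _ (H.c5.mem' x.a) (by
      rw [eq_inv_of_mul_eq_one_right q]; exact inv_mem (Q.mem.2 ⟨_, _, rfl⟩))).trans H.c5.zero.symm)
    simp only [f, a, H.c5.zero, mul_one] at q
    obtain ⟨e1, e2⟩ := Q.inj (q.trans (H.c2.zero.symm.trans (g2 0)))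
    simp only [Prod.mk.injEq] at e1 e2
    exact Gu.ext a e1.1 e1.2.1 e1.2.2.1 e1.2.2.2 e2
  have q : ∀ {y : K → G} {r}, Hx.Ad y (X r) → ∀ ε : K → Gu K, (∀ a, y a = f (ε a)) →
      (∀ a, ε a ∈ rt K r) → (∀ x ∈ rt K r, ∃ a, x = ε a) → X r = (rt K r).map (.mk' f e) := fun h ε e1 e2 e3 =>
    Subgroup.ext fun g => (h.mem g).trans ⟨fun ⟨a, q⟩ => ⟨_, e2 a, (e1 a).symm.trans q⟩, by
      rintro ⟨x, hx, rfl⟩
      obtain ⟨a, rfl⟩ := e3 x hx
      exact ⟨a, e1 a⟩⟩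
  have q0 : ∀ g, g = g * y5 0 := fun g => by rw [H.c5.zero, mul_one]
  interval_cases r
  exacts [q H.c0 xt (fun a => (g0 a).trans (q0 _)) mr0 fun x hx => ⟨_, rt0 hx⟩,
    q H.c1 xb (fun a => (g1 a).trans (q0 _)) mr1 fun x hx => ⟨_, rt1 hx⟩,
    q H.c2 xz (fun a => (g2 a).trans (q0 _)) mr2 fun x hx => ⟨_, rt2 hx⟩,
    q H.c3 xc (fun a => (g3 a).trans (q0 _)) mr3 fun x hx => ⟨_, rt3 hx⟩,
    q H.c4 xs (fun a => (g4 a).trans (q0 _)) mr4 fun x hx => ⟨_, rt4 hx⟩,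
    q H.c5 xa (fun a => (one_mul _).symm.trans (congrArg (· * _) (H.c2.zero.symm.trans (g2 0)))) mr5
      fun x hx => ⟨_, rt5 hx⟩]

theorem exists_em [Finite G] [Finite K] (M : Hx.H6 X) (L : Hx.LR X) (h0 : Nat.card (X 0) = Nat.card K)
    (h1 : Nat.card (X 1) = Nat.card K) : ∃ ι : Gu K →* G, Em X ι := by
  haveI := Fintype.ofFinite K
  obtain ⟨F, _, _, x, y, z, A⟩ := (M.m3 L (c := 0) rfl).exists_A2
  obtain ⟨J, _, _, S, y, z, y1, y3, y5, H⟩ := M.hc L (A.comp (FiniteField.ringEquivOfCardEq (K := K) (by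
    rw [← Nat.card_eq_fintype_card, ← Nat.card_eq_fintype_card, ← A.cx.card]; exact h0.symm)) one_ne_zero)
  haveI := Finite.of_injective _ H.c1.inj
  obtain ⟨φ, h⟩ := (hs0 K).iso S (by rw [← H.c1.card, h1])
  exact em_of M L (H.comp h)

theorem Em.Yy (h : Em X ι) {a b : ℕ} (hb : b ≤ 6) : Yy X a b = (Yy (rt K) a b).map ι := by
  simp only [Tb.Yy, Subgroup.map_iSup]
  exact iSup_congr fun t => iSup_congr fun ht => h.eq t (by have := ht.2; omega)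

theorem Em.range (h : Em X ι) : Tb.Yy X 0 6 = ι.range := by
  rw [h.Yy le_rfl, gen (H := Tb.Yy (rt K) 0 6) fun r hr => le_Yy r.zero_le (by omega), MonoidHom.range_eq_map]

theorem Em.mem (h : Em X ι) {r : ℕ} (hr : r ≤ 5) : ι x ∈ X r ↔ x ∈ rt K r := by
  rw [h.eq r hr, mem_map_iff_mem h.inj]

theorem Em.weyl (h : Em X ι) (M : MP 6 X) {a r s : ℕ} (e : (r + s) % 12 = (2 * a + 6) % 12) (hr : r ≤ 5) (hs : s ≤ 5)
    (hx : x ∈ rt K r) (x1 : x ≠ 1) : ∃ g, ∃ y ∈ rt K s, y ≠ 1 ∧ g * ι x * g⁻¹ = ι y := by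
  obtain ⟨u, hu, u1⟩ := M.ne a
  obtain ⟨n, -, hn⟩ := M.mu a u hu u1
  obtain ⟨y, hy, q⟩ := h.eq s hs ▸ (hn r s e _).1 ((h.mem hr).2 hx)
  exact ⟨n, y, hy, by rintro rfl; exact x1 (h.inj (by simpa using q.symm)), q.symm⟩

end

variable {I W : Type*} [Group W] [Finite W] {C : InvGen I W} {G X : Type*} [Group G] [Finite G] [MulAction G X]
  {T T' : TB C G X} {f : ℕ → I}

theorem pi_aut (L : Lb C 2 0 6 f) (M : T.Mo) (M' : T'.Mo) (g : Hx.Gn T) (g' : Hx.Gn T') {Φ : X → X → Prop}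
    (P : PI T T' {f 0, f 1} Φ) : ∃ θ : MulAut G, ∀ d ∈ St G G Φ, θ d.1 = d.2 := by
  have n := L.inj 0 1 one_pos one_lt_two
  have u : ({f 0, f 1} : Set I) = Set.univ := Set.eq_univ_of_forall (Hx.lb_or L)
  have c : C.s (f 0) * C.s (f 1) ≠ C.s (f 1) * C.s (f 0) := fun e => by
    have := (comm_iff T.inj n).1 e
    rw [Hx.lb_mm L] at this
    omega
  have r : ∀ w i, Gr (St G G Φ ⊓ (T.Rt w i).prod (T'.Rt w i)) (T.Rt w i) (T'.Rt w i) := fun w i => by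
    rcases Hx.lb_or L i with rfl | rfl
    exacts [P.gr M M' c rfl (u ▸ mem_univ w), P.gr M M' c.symm (Set.pair_comm _ _) (u ▸ mem_univ w)]
  have h7 : Surjective ((MonoidHom.fst G G).comp (St G G Φ).subtype) := fun x => by
    obtain ⟨d, h, e⟩ : x ∈ (St G G Φ).map (MonoidHom.fst G G) := (g _ fun w i u hu =>
      let ⟨_, h⟩ := (r w i).fst u hu; Subgroup.mem_map.2 ⟨_, h.1, rfl⟩).ge trivial
    exact ⟨⟨d, h⟩, e⟩
  have h8 : Surjective ((MonoidHom.snd G G).comp (St G G Φ).subtype) := fun x => by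
    obtain ⟨d, h, e⟩ : x ∈ (St G G Φ).map (MonoidHom.snd G G) := (g' _ fun w i u hu =>
      let ⟨_, h⟩ := (r w i).snd u hu; Subgroup.mem_map.2 ⟨_, h.1, rfl⟩).ge trivial
    exact ⟨⟨d, h⟩, e⟩
  have h9 : Injective ((MonoidHom.fst G G).comp (St G G Φ).subtype) :=
    (MonoidHom.ker_eq_bot_iff _).1 (eq_bot_iff.2 fun d hd => Subtype.ext (Prod.ext hd
      (Hx.norm_one (T := T') ((MonoidHom.normal_ker _).map _ h8) (by
        rintro _ ⟨d, hd, rfl⟩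
        have := (d.2 _ _).1 (P.a 1 (one_mem _))
        rw [show d.1.1 = 1 from hd, one_smul] at this
        exact P.uq this (P.a 1 (one_mem _))) ⟨d, hd, rfl⟩)))
  let e := MulEquiv.ofBijective _ ⟨h9, h7⟩
  refine ⟨.ofBijective (((MonoidHom.snd G G).comp (St G G Φ).subtype).comp e.symm.toMonoidHom)
    (Finite.surjective_iff_bijective.1 (h8.comp e.symm.surjective)), fun d hd => ?_⟩
  exact congrArg (fun x : St G G Φ => x.1.2) (e.symm_apply_apply ⟨d, hd⟩)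

variable (L : Lb C 2 0 6 f) (M : T.Mo) {K : Type*} [Field K] [Finite K] {ι : Gu K →* G} (h : Em (T.Xs (f 0) (f 1)) ι)
include L M h

theorem em_aut' (M' : T'.Mo) (g : Hx.Gn T) (g' : Hx.Gn T') {d : Gu K →* Gu K} (hd : PIso d ⊤ ⊤)
    (hr : ∀ r ≤ 5, ∀ x, ι (d x) ∈ T'.Xs (f 0) (f 1) r ↔ x ∈ rt K r)
    (hs : ∀ r ≤ 5, T'.Xs (f 0) (f 1) r ≤ ι.range) : ∃ θ : MulAut G, ∀ x, θ (ι x) = ι (d x) := by
  have m := Hx.lb_mm L
  have c := exists_PI M M' (L.inj 0 1 one_pos one_lt_two) (D := fun r => (rt K r).map (ι.prod (ι.comp d)))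
    (fun r hr' => ⟨?_, ?_, ?_, ?_⟩) fun a b h1 h2 => by
      rintro _ ⟨x, hx, rfl⟩ _ ⟨y, hy, rfl⟩
      have := (Hx.mp6 L M).comm a b h1 (by omega) _ ((h.mem (by omega)).2 hx) _ ((h.mem (by omega)).2 hy)
      rw [h.Yy (by omega), ← map_inv, ← map_inv, ← map_mul, ← map_mul, ← map_mul, mem_map_iff_mem h.inj] at this
      rw [← map_inv, ← map_inv, ← map_mul, ← map_mul, ← map_mul, Yy]
      simp only [← Subgroup.map_iSup]
      exact mem_map_of_mem _ this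
  · obtain ⟨Φ, P, c⟩ := c
    obtain ⟨θ, e⟩ := pi_aut L M M' g g' P
    exact ⟨θ, fun x => (gen (H := (θ.toMonoidHom.comp ι).eqLocus (ι.comp d)) fun r hr y hy =>
      e _ (c r (by omega) (mem_map_of_mem _ hy))).ge (mem_top x)⟩
  · rintro _ ⟨x, hx, rfl⟩
    exact ⟨(h.mem (by omega)).2 hx, (hr r (by omega) x).2 hx⟩
  · intro u hu
    obtain ⟨x, hx, rfl⟩ := h.eq r (by omega) ▸ hu
    exact ⟨_, x, hx, rfl⟩
  · intro u hu
    obtain ⟨x, rfl⟩ := hs r (by omega) hu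
    obtain ⟨y, -, rfl⟩ := hd.surj (mem_top x)
    exact ⟨_, y, (hr r (by omega) y).1 hu, rfl⟩
  · rintro _ ⟨x, -, rfl⟩
    exact (map_eq_one_iff ι h.inj).trans ((hd.eq_one_iff trivial).symm.trans (map_eq_one_iff ι h.inj).symm)

theorem em_aut (g : Hx.Gn T) (d : Gu K → Gu K) (hd : Dh d) : ∃ θ : MulAut G, ∀ x, θ (ι x) = ι (d x) := by
  have s : ∀ r ≤ 5, T.Xs (f 0) (f 1) r ≤ ι.range := fun r hr => h.eq r hr ▸ map_le_range _ _
  have k : ∀ {α β : K} (τ : K ≃+* K), α ≠ 0 → β ≠ 0 → ∃ θ : MulAut G, ∀ x, θ (ι x) = ι (dg α β τ x) :=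
    fun τ a0 b0 => em_aut' L M h M g g (piso_dg a0 b0) (fun r hr x => (h.mem hr).trans (dg_rt a0 b0)) s
  obtain ⟨α, β, τ, a0, b0, e | ⟨h3, e⟩⟩ := hd
  · simpa only [e] using k τ a0 b0
  obtain ⟨θ, q⟩ := k τ a0 b0
  obtain ⟨F, hF⟩ := L.exists_is (Hx.lb_swap L) T.E T.E
  have x : ∀ r ≤ 5, (F.tp T).Xs (f 0) (f 1) r = T.Xs (f 0) (f 1) (5 - r) := fun r hr => by
    rw [Hx.tp_Xs, hF 0 two_pos, hF 1 one_lt_two]
    exact M.Xs_rev (L.inj 0 1 one_pos one_lt_two) (by rw [Hx.lb_mm L]; omega)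
  obtain ⟨η, q'⟩ := em_aut' L M h (Hx.tp_mo F M) g (Hx.tp_gn F g) (d := .mk' gr (gr_mul h3)) (piso_gr h3)
    (fun r hr y => by
      rw [x r hr, h.mem (by omega)]
      refine ⟨fun hy => ?_, gr_rt hr⟩
      have := gr_rt (by omega) hy
      rw [show 5 - (5 - r) = r by omega, MonoidHom.mk'_apply, gr_gr h3] at this
      simpa [mem_rt] using this) fun r hr => x r hr ▸ s _ (by omega)
  exact ⟨θ * η, fun y => by rw [e, ← q, MulAut.mul_apply, q']; rfl⟩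

theorem em_fix (x : Gu K) : ι x • T.a 1 = T.a 1 :=
  Yy_le (Z := MulAction.stabilizer G (T.a 1)) (fun t _ ht g hg => TB.Xs_fix (r := 0) hg t.zero_le (by
    rw [Hx.lb_mm L]; omega)) (h.range.ge ⟨x, rfl⟩)

theorem em_uq {c : X} (e : ∀ x, ι x • c = c) : c = T.a 1 := by_contra fun n => by
  obtain ⟨i, hi⟩ := C.exists_left_descent (mt T.eq_one.1 (Ne.symm n))
  have l : C.len (C.s i * (C.s i * T.δ (T.a 1) c)) = C.len (C.s i) + C.len (C.s i * T.δ (T.a 1) c) := by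
    rw [C.s_mul_s_mul, T.E.len_s]; omega
  obtain ⟨z, z1, z2⟩ := T.split (C.s_mul_s_mul ..).symm l
  obtain ⟨g, hg, g1⟩ := M.Rt_ne 1 i
  obtain ⟨x, rfl⟩ : g ∈ ι.range := by
    rw [TB.Rt_one] at hg
    rcases Hx.lb_or L i with rfl | rfl
    · exact h.range.le (Hx.mY (t := 0) (TB.Xs_zero (T := T) ▸ hg))
    · exact h.range.le (Hx.mY (t := 5) (M.Xs_last (L.inj 0 1 one_pos one_lt_two) (Hx.lb_mm L).symm ▸ hg))
  exact g1 (M.Rt_reg' hg z1 (T.split_uq (by rw [← em_fix L M h x, T.δg, z1]) (by rw [← e x, T.δg, e x, z2]) z1 z2 l))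

theorem em_nrm (g : G) (φ : Gu K → Gu K) (e : ∀ x, g * ι x * g⁻¹ = ι (φ x)) :
    ∃ t α β τ, α ≠ 0 ∧ β ≠ 0 ∧ ∀ x, φ x = t * dg α β τ x * t⁻¹ := by
  have a : g⁻¹ • T.a 1 = T.a 1 := em_uq L M h fun x => by
    rw [eq_inv_smul_iff, ← mul_smul, ← mul_smul, e, em_fix L M h]
  rw [inv_smul_eq_iff] at a
  have w : w0 C = ws C (f 0) (f 1) 6 := by
    rw [← Hx.lb_mm L, ← wl_pair T.E, w0, Set.eq_univ_of_forall (s := {f 0, f 1}) (Hx.lb_or L)]
  obtain ⟨u, hu, e1⟩ := M.tr_alt (t := 0) (i := f 0) (k := f 1) (Y := Yy (T.Xs (f 0) (f 1)) 0 6) (y := g • T.a (w0 C)) 6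
    (Hx.lb_mm L).ge (fun r _ hr => le_Yy r.zero_le hr) (by rw [ws_zero, a, T.δg, T.δ1, w]; rfl)
  obtain ⟨t, rfl⟩ := h.range.le hu
  have m : (ι t)⁻¹ * g ∈ T.H := T.mem_H_of (v := 1) (by rw [mul_smul, ← a, inv_smul_eq_iff, em_fix L M h])
    (by rw [one_mul, mul_smul, ← e1, inv_smul_smul, w])
  have e2 : ∀ x, ι (t⁻¹ * φ x * t) = (ι t)⁻¹ * g * ι x * ((ι t)⁻¹ * g)⁻¹ := fun x => by
    rw [map_mul, map_mul, ← e, map_inv]; group
  obtain ⟨α, β, τ, a0, b0, q⟩ := dg_of_rt (f := .mk' (fun x => t⁻¹ * φ x * t) fun x y =>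
    h.inj (by rw [map_mul ι (t⁻¹ * φ x * t), e2, e2, e2, map_mul]; group))
    (fun x y q => h.inj (by simpa using (e2 x).symm.trans ((congrArg ι q).trans (e2 y)))) fun r hr x hx =>
      (h.mem hr).1 ((e2 x).symm ▸ TB.conj_Rt_H m ((h.mem hr).2 hx) : ι (t⁻¹ * φ x * t) ∈ _)
  exact ⟨t, α, β, τ, a0, b0, fun x => by rw [← q, MonoidHom.mk'_apply]; group⟩

theorem em_ge (g : Hx.Gn T) {p : ℕ} (s : SylIn p ι.range ⊤) (ab : ∀ g k : G, g ∈ normalizer (ι.range : Set G) →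
    k ∈ normalizer (ι.range : Set G) → g * k * g⁻¹ * k⁻¹ ∈ ι.range) : Ge p ι := by
  refine ⟨⟨‹_›, h.inj, s, ?_⟩, em_nrm L M h, ab, em_aut L M h g⟩
  have n : xz (1 : K) ≠ 1 := fun e => one_ne_zero (congrArg Gu.z e)
  obtain ⟨a, x, hx, x1, e⟩ := h.weyl (Hx.mp6 L M) (a := 4) (r := 2) (s := 0) rfl (by omega) (by omega) (mr2 (1 : K)) n
  obtain ⟨b, y, hy, y1, e'⟩ := h.weyl (Hx.mp6 L M) (a := 0) (r := 2) (s := 4) rfl (by omega) (by omega) (mr2 (1 : K)) n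
  refine ⟨_, xz_mem 1, _, xz_mem 1, a, b, x, y, e, e', fun c => ?_⟩
  rcases mul_eq_zero.1 ((Z2_comm (rt4 hy ▸ xs_mem y.s)).1 c) with q | q
  exacts [x1 (by rw [rt0 hx, q]; rfl), y1 (by rw [rt4 hy, q]; rfl)]

omit L M h

theorem tr {p : ℕ} {Y : Type*} [Group Y] (h : Ge p ι) (e : G ≃* Y) (s : SylIn p (e.toMonoidHom.comp ι).range ⊤) :
    Ge p (e.toMonoidHom.comp ι) := by
  have r : (e.toMonoidHom.comp ι).range = ι.range.map e.toMonoidHom := MonoidHom.range_comp _ _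
  have n : ∀ g, e g ∈ normalizer ((e.toMonoidHom.comp ι).range : Set Y) → g ∈ normalizer (ι.range : Set G) :=
    fun g hg => by
      rw [r, ← map_equiv_normalizer_eq] at hg
      exact (mem_map_iff_mem e.injective).1 hg
  obtain ⟨z, hz, z', hz', g, g', x, y, e1, e2, c⟩ := h.nc
  refine ⟨⟨Finite.of_equiv _ e.toEquiv, e.injective.comp h.inj, s, z, hz, z', hz', e g, e g', x, y, ?_, ?_, c⟩,
    fun g φ q => h.nrm (e.symm g) φ fun x => e.injective ?_, fun g k hg hk => ?_, fun d hd => ?_⟩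
  · simpa using congrArg e e1
  · simpa using congrArg e e2
  · simpa using q x
  · obtain ⟨g, rfl⟩ := e.surjective g
    obtain ⟨k, rfl⟩ := e.surjective k
    rw [r, ← map_inv, ← map_inv, ← map_mul, ← map_mul, ← map_mul]
    exact mem_map_of_mem e.toMonoidHom (h.ab g k (n g hg) (n k hk))
  · obtain ⟨θ, q⟩ := h.aut d hd
    exact ⟨(e.symm.trans θ).trans e, fun x => by simp [q]⟩

section

open Lie Chev

variable {K : Type} [Field K] [Finite K] {p : ℕ} [Fact p.Prime] [CharP K p] (e : chevG2.group K ≃* G) {U : Subgroup G}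
include e

theorem syl (a : Nat.card U = Nat.card K ^ 6) : SylIn p U ⊤ := by
  have hp : p.Prime := Fact.out
  haveI := Fintype.ofFinite K
  obtain ⟨n, -, q⟩ := FiniteField.card K p
  rw [← Nat.card_eq_fintype_card] at q
  rw [q] at a
  refine SylIn.of_not_dvd le_top (IsPGroup.of_card (by rw [a, ← pow_mul])) fun c => ?_
  have b := cardG2 K q
  rw [Nat.card_congr e.toEquiv, ← card_mul_index U, a, mul_assoc] at b
  rw [relIndex_top_right, Nat.eq_of_mul_eq_mul_left (pow_pos (pow_pos hp.pos n) 6) b, hp.dvd_mul] at c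
  have d : ∀ i, i ≠ 0 → p ∣ (p ^ (n : ℕ)) ^ i := fun i => (dvd_pow_self p n.ne_zero).pow
  refine hp.one_lt.ne' (Nat.dvd_one.1 ?_)
  rcases c with c | c <;> exact (Nat.dvd_sub_iff_right (Nat.one_le_pow _ _ (pow_pos hp.pos n)) (d _ (by omega))).1 c

theorem ab (s : SylIn p U ⊤) : ∀ g k : G, g ∈ normalizer (U : Set G) → k ∈ normalizer (U : Set G) →
    g * k * g⁻¹ * k⁻¹ ∈ U := by
  refine FusT.form_ab (trivTw_form (linkG2.faithful_gpRep K) (linkG2.gpRep_Gp K)) (linkG2.r3_gpRep K)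
    (topEquiv.trans e) (syl e ?_) s
  rw [card_map_of_injective (MulEquiv.injective _), Nat.card_congr (subgroupOfEquivOfLe le_top).toEquiv,
    StRep.card_Up (linkG2.faithful_gpRep K)]
  rfl

end

end GE

open _root_.CF.FusG.GE in
theorem exists_ge {K : Type} [Field K] [Finite K] {p : ℕ} [Fact p.Prime] [CharP K p] :
    ∃ ι : Gu K →* Lie.chevG2.group K, Ge p ι := by
  obtain ⟨Y, _, _, P, hf, f, ⟨e⟩, L, M, g, h0, h1⟩ := Hx.mmG2 K
  wlog r : Hx.LR ((Hx.tb0 P hf).Xs (f 0) (f 1)) generalizing f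
  · exact this _ (Hx.lb_swap L) h1 h0 ((Hx.lr_or L M).resolve_left r)
  obtain ⟨ι, h⟩ := exists_em (K := K) (Hx.mp6 L M) r (by rw [TB.Xs_zero, h0]) (by rw [Hx.card_X1, h1])
  have s := syl (p := p) e (U := ι.range) (by rw [← Nat.card_congr (MonoidHom.ofInjective h.inj).toEquiv, Gu.card])
  haveI := Finite.of_equiv _ e.toEquiv.symm
  exact ⟨_, tr (em_ge L M h g s (ab e s)) e.symm (syl (.refl _) (by
    rw [← Nat.card_congr (MonoidHom.ofInjective (f := e.symm.toMonoidHom.comp ι) (e.symm.injective.comp h.inj)).toEquiv,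
      Gu.card]))⟩

end CF.FusG
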