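import Cfsg.Agent.FusG.C

/-! Fusion systems on a Sylow `3`-subgroup of `G₂(3ⁿ)`: kernels of the actions on the sections of `Q1`. -/

set_option autoImplicit false
set_option linter.style.haveILetI false
set_option linter.unusedSimpArgs false
set_option linter.unusedSectionVars false

namespace CF.FusG

open Cfsg Cfsg.FusionSystem Subgroup CF.Fus CF.FusD CF.FusU Function Gu Matrix

namespace KA

section
variable {G W : Type*} [Group G] [AddCommGroup W] {X T M : Subgroup G} {ρ : G → W →+ W} {p : ℕ} [Fact p.Prime]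

theorem avg0 [Finite X] (r : Rp X ρ) (hW : ∀ v : W, p • v = 0) (hM : M ≤ X)
    (hp : ¬ p ∣ Nat.card M) : ∃ π : W →+ W, (∀ v, ∀ m ∈ M, ρ m (π v) = π v) ∧
      (∀ (D : AddSubgroup W) v, (∀ m ∈ M, ρ m v - v ∈ D) → π v - v ∈ D) ∧
        ∀ y ∈ X, y ∈ normalizer (M : Set G) → ∀ v, π (ρ y v) = ρ y (π v) := by
  haveI := fin_of_le hM
  haveI := Fintype.ofFinite M
  have hp' : p.Prime := Fact.out
  obtain ⟨n, -, hn⟩ := Nat.exists_mul_mod_eq_one_of_coprime ((Nat.Prime.coprime_iff_not_dvd hp').2 hp).symm hp'.one_lt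
  have e : ∀ v, (n • ∑ m : M, ρ m) v = n • ∑ m : M, ρ m v := fun v => by
    rw [AddMonoidHom.nsmul_apply, AddMonoidHom.finset_sum_apply]
  refine ⟨n • ∑ m : M, ρ m, fun v m hm => ?_, fun D v hv => ?_, fun y y0 hy v => ?_⟩
  · rw [e, map_nsmul, map_sum, ← Equiv.sum_comp (Equiv.mulLeft (⟨m, hm⟩ : M)) fun k : M => ρ k v]
    exact congrArg _ (Finset.sum_congr rfl fun k _ => (r.mul _ (hM hm) _ (hM k.2) v).symm)
  · have e1 : n • ∑ _m : M, v = v := by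
      rw [Finset.sum_const, Finset.card_univ, ← Nat.card_eq_fintype_card,
        smul_smul, mul_comm, ← Nat.div_add_mod (Nat.card M * n) p, hn, add_smul, mul_smul, hW, one_smul, zero_add]
    have := D.nsmul_mem (D.sum_mem (t := Finset.univ) fun (k : M) _ => hv k k.2) n
    rwa [Finset.sum_sub_distrib, smul_sub, e1, ← e] at this
  · rw [e, e, map_nsmul, map_sum, ← Equiv.sum_comp (M.normalizerMonoidHom ⟨y, hy⟩).toEquiv]
    refine congrArg _ (Finset.sum_congr rfl fun k _ => ?_)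
    change ρ (y * k * y⁻¹) (ρ y v) = _
    rw [r.mul3 y0 (hM k.2) (inv_mem y0), r.inv_app y0]

theorem avg [Finite X] [Finite W] (r : Rp X ρ) (hW : ∀ v : W, p • v = 0) (hT : SylIn p T X) (hM : M ≤ X)
    (hn : X ≤ normalizer (M : Set G)) (h : ∀ t ∈ T, t ∈ M → ∀ v, ρ t v = v) :
    ∃ π : W →+ W, (∀ v, ∀ m ∈ M, ρ m (π v) = π v) ∧
      (∀ (D : AddSubgroup W) v, (∀ m ∈ M, ρ m v - v ∈ D) → π v - v ∈ D) ∧ ∀ y ∈ X, ∀ v, π (ρ y v) = ρ y (π v) := by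
  haveI := fin_of_le hM
  haveI : Finite (AddMonoid.End W) := DFunLike.finite (W →+ W)
  have a : ∀ g, ∃ u : (AddMonoid.End W)ˣ, g ∈ X → ∀ v, u.1 v = ρ g v := fun g => by
    by_cases hg : g ∈ X
    · exact ⟨⟨ρ g, ρ g⁻¹, AddMonoidHom.ext (r.app_inv hg), AddMonoidHom.ext (r.inv_app hg)⟩, fun _ _ => rfl⟩
    · exact ⟨1, fun e => absurd e hg⟩
  choose f hf using a
  have m : MulOn f X := fun x hx y hy => Units.ext (AddMonoidHom.ext fun v => by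
    change (f (x * y)).1 v = (f x).1 ((f y).1 v)
    rw [hf _ (mul_mem hx hy), hf _ hx, hf _ hy, r.mul _ hx _ hy])
  have m' := m.mono hM
  have s := (hT.inf_norm' hM hn).img_mulOn m'
  have b : img f (T ⊓ M) = ⊥ := le_bot_iff.1 (img_le_iff.2 fun t ht =>
    mem_bot.2 (Units.ext (AddMonoidHom.ext fun v => (hf t (hM ht.2) v).trans (h t ht.1 ht.2 v))))
  have c := s.not_dvd_relIndex
  rw [b, relIndex_bot_left] at c
  obtain ⟨π, p1, p2, p3⟩ := avg0 (X := ⊤) (ρ := fun u : (AddMonoid.End W)ˣ => (u.1 : W →+ W))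
    ⟨fun _ _ _ _ _ => rfl, fun _ => rfl⟩ hW le_top c
  refine ⟨π, fun v k hk => (hf k (hM hk) _).symm.trans (p1 v _ (mem_img_of_mem hk)), fun D v hv => p2 D v fun u hu => ?_,
    fun y hy v => ?_⟩
  · obtain ⟨k, hk, rfl⟩ := m'.mem_img.1 hu
    exact hf k (hM hk) v ▸ hv k hk
  · rw [← hf y hy, ← hf y hy]
    exact p3 _ trivial (m.norm_apply hM hy (hn hy)) v

end

variable {K : Type} [Field K] [Finite K] {p : ℕ} [Fact p.Prime] [CharP K p]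
  {F : FusionSystem (⊤ : Subgroup (Gu K))} {x y : Gu K} {Y : Subgroup (MulAut (Q1 K))}

theorem cm_xz (z : K) : cm (xs z) (xt 1) = xz z := Z1_ext (cm1 (xs_mem z) _) (xz_mem z) (by simp [cm_z2 (xs_mem z)])

theorem eq_xz (hx : x ∈ Z1 K) : x = xz x.z := Z1_ext hx (xz_mem _) rfl

theorem stab_Z1 : Y ≤ stab (Q1 K) (Z1 K) := le_stab (fun _ h => h.1) fun φ _ x hx => by
  rw [eq_xz hx, ← cm_xz, fn_cm φ rfl rfl]
  exact cmQ1 (fn_mem φ rfl) (fn_mem φ rfl)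

theorem two_ne (h3 : (3 : K) = 0) : (2 : K) ≠ 0 := fun h => one_ne_zero (by linear_combination h3 - h : (1 : K) = 0)

theorem A1_comm (h3 : (3 : K) = 0) (hx : x ∈ Q1 K) (hy : y ∈ A1 K) : x * y = y * x :=
  cm_eq_one.1 (of1 (cmQ1 hx hy.1) (by simp [cm_z1 hx hy.1, h3, hy.2.1, hy.2.2]))

theorem stab_A1 (h3 : (3 : K) = 0) : Y ≤ stab (Q1 K) (A1 K) := le_stab (fun _ h => h.1) fun φ _ x hx => by
  have m := fn_mem φ (show x ∈ Q1 K from hx.1)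
  have k : ∀ y ∈ Q1 K, (cm y (fn φ x)).z = 0 := fun y hy => by
    rw [cm_eq_one.2 (fn_comm φ hx.1 (fun e he => A1_comm h3 he hx) hy), one_z]
  exact ⟨m, by simpa [cm_z1 (x := xs 1) rfl m, h3] using k (xs 1) rfl,
    by simpa [cm_z1 (x := xt 1) rfl m, h3] using k (xt 1) rfl⟩

theorem inn0 (hF : Sat F p) {φ : MulAut (Q1 K)} (hφ : φ ∈ F.autGroup (Q1 K))
    (e : ∀ x ∈ Q1 K, p1 (fn φ x) = p1 x) : φ ∈ Inn (Q1 K) := by
  obtain ⟨g, -, n, rfl⟩ := mem_autInducedBy.1 ((hF.syl_of_fn (fn_of_norm F le_top fun s _ => nQ1 s)).OpIn_le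
    (mem_OpIn₂ (pg.to_le le_top) stab_Z1 hφ (fun x hx => Z1_of_p1 (mul_mem (inv_mem hx) (fn_mem φ hx)) (by
      have := p1_mul hx x⁻¹
      rw [mul_inv_cancel, p1_Z1 (one_mem _)] at this
      rw [p1_mul (inv_mem hx), e x hx, add_comm, ← this])) fun x _ hx => by
      refine Z1_ext (stab_maps (stab_Z1 (mem_top φ)) hx) hx ?_
      rw [eq_xz hx, ← cm_xz, fn_cm φ rfl rfl, cm_om (fn_mem φ rfl) (fn_mem φ rfl), e _ rfl, e _ rfl, cm_om rfl rfl]))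
  refine cA_mem_Inn ?_
  have := congrFun (e (xt 1) rfl) 1
  rw [fn_cA n (show xt 1 ∈ Q1 K from rfl)] at this
  simp only [p1, cons_val_one, cons_val_zero, mul_b, mul_a, inv_b, inv_t, xt_a, xt_b, xt_t] at this
  exact mem_Q1.2 (by linear_combination this)

theorem core (hF : Sat F p) {C D : Subgroup (Gu K)} (hC : F.autGroup (Q1 K) ≤ stab (Q1 K) C)
    (hD : F.autGroup (Q1 K) ≤ stab (Q1 K) D) (h : ∀ g, (∀ x ∈ Q1 K, x ∈ C → cm x g ∈ D) → g.a = 0) :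
    ∃ π : (Fin 4 → K) →+ (Fin 4 → K), (∀ a v, π (uM a *ᵥ v) = uM a *ᵥ π v) ∧ (∀ v, π (π v) = π v) ∧
      (∀ (B : AddSubgroup (Fin 4 → K)), ∀ x ∈ Q1 K, (∀ φ ∈ trivOn (Q1 K) C D, p1 (fn φ x) - p1 x ∈ B) →
        π (p1 x) - p1 x ∈ B) ∧
      ((∀ v, π v = v) → ∀ φ ∈ F.autGroup (Q1 K), φ ∈ trivOn (Q1 K) C D → φ ∈ Inn (Q1 K)) := by
  obtain ⟨ρ, r, e⟩ := exists_rp (F.autGroup (Q1 K)) p1 (fun x hx y _ => p1_mul hx y) p1_sur fun φ _ x hx q =>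
    p1_Z1 (stab_maps (stab_Z1 (mem_top φ)) (Z1_of_p1 hx q))
  have k : ∀ g v, ρ (cA (Q1 K) g) v = uM g.a *ᵥ v := fun g v => by
    obtain ⟨x, hx, rfl⟩ := p1_sur v
    rw [e _ (cA_mem_autGroup F le_top trivial) x hx, fn_cA (nQ1 g) hx, p1_cj hx]
  obtain ⟨π, p1, p2, p3⟩ := avg r (p := p) (fun v => by rw [← Nat.cast_smul_eq_nsmul K, CharP.cast_eq_zero, zero_smul])
    (hF.syl_of_fn (fn_of_norm F le_top fun s _ => nQ1 s)) (M := F.autGroup (Q1 K) ⊓ trivOn (Q1 K) C D) inf_le_left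
    (fun φ hφ => inf_normalizer_le_normalizer_inf ⟨le_normalizer hφ, le_norm_trivOn ⟨hC hφ, hD hφ⟩⟩) fun t ht m v => by
      obtain ⟨g, -, n, rfl⟩ := mem_autInducedBy.1 ht
      rw [k, h g fun x hx hx' => by simpa only [fn_cA n hx, cm] using m.2.2 x hx hx', uM_zero, one_mulVec]
  refine ⟨π, fun a v => ?_, fun v => sub_eq_zero.1 (AddSubgroup.mem_bot.1 (p2 ⊥ _ fun m hm => by simp [p1 v m hm])),
    fun B x hx q => p2 B _ fun m hm => e m hm.1 x hx ▸ q m hm.2, fun q φ h1 h2 => inn0 hF h1 fun x hx => ?_⟩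
  · simpa only [k, xa_a] using p3 _ (cA_mem_autGroup F le_top (mem_top (xa a))) v
  · rw [← e φ h1 x hx, ← q (FusG.p1 x), p1 _ φ ⟨h1, h2⟩]

/-- the plane of the coordinates `b` and `c` -/
def pl (K : Type) [Field K] : AddSubgroup (Fin 4 → K) where
  carrier := {v | v 0 = 0 ∧ v 3 = 0}
  zero_mem' := ⟨rfl, rfl⟩
  add_mem' := fun {x y} h k => by simp_all
  neg_mem' := fun {x} h => by simp_all

theorem mem_pl {v : Fin 4 → K} : v ∈ pl K ↔ v 0 = 0 ∧ v 3 = 0 := Iff.rfl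

theorem N1 (h3 : (3 : K) = 0) (a : K) (v : Fin 4 → K) :
    uM a *ᵥ v - v = ![0, a * v 0, 2 * a * v 1 + a ^ 2 * v 0, a ^ 3 * v 0] := by
  rw [uM_mulVec]; ext i; fin_cases i <;> simp [h3]; ring

section
variable (h3 : (3 : K) = 0) {π : (Fin 4 → K) →+ (Fin 4 → K)} (c : ∀ a v, π (uM a *ᵥ v) = uM a *ᵥ π v)
include h3 c

theorem pN (a : K) (v : Fin 4 → K) : π ![0, a * v 0, 2 * a * v 1 + a ^ 2 * v 0, a ^ 3 * v 0] =
    ![0, a * π v 0, 2 * a * π v 1 + a ^ 2 * π v 0, a ^ 3 * π v 0] := by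
  rw [← N1 h3, ← N1 h3, map_sub, c]

theorem pN2 (v : Fin 4 → K) : π ![0, 0, 2 * v 0, 0] = ![0, 0, 2 * π v 0, 0] := by
  have := pN h3 c 1 ![0, 1 * v 0, 2 * 1 * v 1 + 1 ^ 2 * v 0, 1 ^ 3 * v 0]
  rw [pN h3 c 1 v] at this
  simpa using this

theorem lin_a (i : ∀ v, π (π v) = π v) (h : ∀ v ∈ pl K, π v = v) (v : Fin 4 → K) : π v = v := by
  have h2 := two_ne h3
  have k0 : ∀ v, π v 0 = v 0 := fun v => by
    have := congrFun ((h _ ⟨rfl, rfl⟩).symm.trans (pN2 h3 c v)) 2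
    simpa [h2] using this.symm
  obtain ⟨u, hu⟩ : ∃ u, u = v - π v := ⟨_, rfl⟩
  have u1 : π u = 0 := by rw [hu, map_sub, i, sub_self]
  have u0 : u 0 = 0 := by rw [← k0 u, u1]; rfl
  obtain ⟨a, ha⟩ := (Finite.injective_iff_surjective (f := fun a : K => a ^ 3)).1 (fun _ _ => cube_inj h3) (u 3)
  have e := pN h3 c a (π ![1, 0, 0, 0])
  rw [i] at e
  generalize hw : ![0, a * π ![1, 0, 0, 0] 0, 2 * a * π ![1, 0, 0, 0] 1 + a ^ 2 * π ![1, 0, 0, 0] 0,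
    a ^ 3 * π ![1, 0, 0, 0] 0] = w at e
  have := h (u - w) ⟨by simp [← hw, u0], by simpa [← hw, k0, sub_eq_zero] using ha.symm⟩
  rw [map_sub, u1, e, sub_left_inj, hu] at this
  exact (sub_eq_zero.1 this.symm).symm

theorem lin_b (i : ∀ v, π (π v) = π v) (h : ∀ v, π v - v ∈ pl K) (v : Fin 4 → K) : π v = v := by
  have h2 := two_ne h3
  have k0 : ∀ v, π v 0 = v 0 := fun v => sub_eq_zero.1 (h v).1
  have k1 : ∀ d, π ![0, 0, d, 0] = ![0, 0, d, 0] := fun d => by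
    have := pN2 h3 c ![d / 2, 0, 0, 0]
    rw [k0] at this
    simpa [mul_div_cancel₀ _ h2] using this
  obtain ⟨u, hu⟩ : ∃ u, u = π v - v := ⟨_, rfl⟩
  have u1 : π u = 0 := by rw [hu, map_sub, i, sub_self]
  obtain ⟨u0, u3⟩ : u ∈ pl K := hu ▸ h v
  have e := pN h3 c 1 u
  simp only [u0, u1, mul_zero, add_zero, mul_one, k1, Pi.zero_apply] at e
  have e1 : u 1 = 0 := by simpa [h2] using congrFun e 2
  have e2 : u = ![0, 0, u 2, 0] := by ext j; fin_cases j <;> simp [u0, u3, e1]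
  rw [e2, k1, ← e2, hu] at u1
  exact sub_eq_zero.1 u1

end

end KA

open KA

variable {K : Type} [Field K] [Finite K] {p : ℕ} [Fact p.Prime] [CharP K p] {F : FusionSystem (⊤ : Subgroup (Gu K))}

theorem inn3a (h3 : (3 : K) = 0) (hF : Sat F p) {φ : MulAut (Q1 K)} (hφ : φ ∈ F.autGroup (Q1 K))
    (e : ∀ x ∈ A1 K, (fn φ x).b = x.b ∧ (fn φ x).c = x.c) : φ ∈ Inn (Q1 K) := by
  obtain ⟨π, p1, p2, p3, p4⟩ := core hF (stab_A1 h3) stab_Z1 fun g q => by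
    simpa [cm_c4 (xb_mem _), two_ne h3] using (q (xb 1) rfl ⟨rfl, rfl, rfl⟩).2.2.2.1
  refine p4 (lin_a h3 p1 p2 fun v hv => ?_) φ hφ ⟨stab_Z1 (mem_top φ), fun x _ hx => ?_⟩
  · obtain ⟨x, hx, rfl⟩ := p1_sur v
    refine sub_eq_zero.1 (AddSubgroup.mem_bot.1 (p3 ⊥ x hx fun ψ m => ?_))
    rw [← mul_inv_cancel_left x (fn ψ x), p1_mul hx, p1_Z1 (m.2 x hx ⟨hx, hv.1, hv.2⟩)]
    simp
  · have m := stab_maps (stab_A1 h3 (mem_top φ)) hx
    simp [mem_Z1, hx.1, hx.2.1, hx.2.2, m.1, m.2.1, m.2.2, e x hx]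

theorem inn3b (h3 : (3 : K) = 0) (hF : Sat F p) {φ : MulAut (Q1 K)} (hφ : φ ∈ F.autGroup (Q1 K))
    (e : ∀ x ∈ Q1 K, (fn φ x).t = x.t ∧ (fn φ x).s = x.s) : φ ∈ Inn (Q1 K) := by
  obtain ⟨π, p1, p2, p3, p4⟩ := core hF (C := Q1 K) (stab_self.ge.trans' le_top) (stab_A1 h3) fun g q => by
    simpa [cm_s1 (x := xt (1 : K)) rfl] using (q (xt 1) rfl rfl).2.2
  refine p4 (lin_b h3 p1 p2 fun v => ?_) φ hφ ⟨stab_A1 h3 (mem_top φ), fun x hx _ => ?_⟩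
  · obtain ⟨x, hx, rfl⟩ := p1_sur v
    refine p3 _ x hx fun ψ m => ?_
    rw [← mul_inv_cancel_left x (fn ψ x), p1_mul hx, add_sub_cancel_left]
    exact (m.2 x hx hx).2
  · simp [mem_A1, mem_Q1.1 hx, mem_Q1.1 (fn_mem φ hx), e x hx]

end CF.FusG
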