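import Cfsg.Agent.FusG.L5a

/-! The linear groups for `q = 5`. -/

set_option autoImplicit false
set_option maxRecDepth 100000

namespace CF.FusG.L5

open Subgroup Matrix Pointwise CF.Fus

theorem rch_cons (A s : List ℕ) (v : ℕ) (l : List ℕ) : rch A s (v :: l) =
    (A.any (fun g => fc (mv g v) fun c => s.contains c) && rch A (v :: s) l) := rfl

theorem orb_card {A O : List ℕ} (h : orb A O = true) {Γ : Subgroup G4} (hA : ∀ m ∈ A, In Γ m)
    (hΓ : ∀ H : Subgroup G4, (∀ g : G4, en g.1 ∈ A → g ∈ H) → Γ ≤ H) :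
    Nat.card (MulAction.orbit Γ (![0, 0, 0, 1] : Fin 4 → F5)) = O.length + 1 := by
  simp only [orb, fc_eq, Bool.and_eq_true, decide_eq_true_eq, List.all_eq_true, beq_iff_eq,
    List.contains_iff_mem] at h
  obtain ⟨⟨h1, h2⟩, h3⟩ := h
  have e4 : ev ![0, 0, 0, 1] = 512 := by decide
  have vd : ∀ v ∈ 512 :: O, ∃ x, ev x = v := fun v hv =>
    ⟨![(v % 8 : ℕ), (v / 8 % 8 : ℕ), (v / 64 % 8 : ℕ), (v / 512 % 8 : ℕ)], by
      rw [← (h3 v hv).1]; simp only [(h3 v hv).1, ev]; simpa [ZMod.val_natCast] using (h3 v hv).1⟩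
  have k1 : ∀ l s : List ℕ, rch A s l = true → (∀ v ∈ l, ∃ x, ev x = v) →
      (∀ v ∈ s, v ∈ ev '' MulAction.orbit Γ (![0, 0, 0, 1] : Fin 4 → F5)) →
      ∀ v ∈ l, v ∈ ev '' MulAction.orbit Γ (![0, 0, 0, 1] : Fin 4 → F5) := fun l => by
    induction l with
    | nil => simp
    | cons a l ih =>
      intro s hs hv hS
      simp only [rch_cons, fc_eq, Bool.and_eq_true, List.any_eq_true, List.contains_iff_mem] at hs
      obtain ⟨⟨m, hm, k⟩, hs⟩ := hs
      obtain ⟨g, hg, rfl⟩ := hA m hm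
      obtain ⟨x, rfl⟩ := hv a List.mem_cons_self
      rw [mv_en] at k
      obtain ⟨y, hy, e⟩ := hS _ k
      have : ev x ∈ ev '' MulAction.orbit Γ (![0, 0, 0, 1] : Fin 4 → F5) :=
        ⟨x, inv_smul_smul (⟨g, hg⟩ : Γ) x ▸ MulAction.mem_orbit_of_mem_orbit (⟨g, hg⟩ : Γ)⁻¹
          (show g.1 *ᵥ x ∈ _ from ev_inj e ▸ hy), rfl⟩
      exact List.forall_mem_cons.2 ⟨this, ih _ hs (fun v k => hv v (List.mem_cons_of_mem _ k))
        (List.forall_mem_cons.2 ⟨this, hS⟩)⟩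
  have k0 : 512 ∈ ev '' MulAction.orbit Γ (![0, 0, 0, 1] : Fin 4 → F5) := ⟨_, MulAction.mem_orbit_self _, e4⟩
  have k2 := hΓ (MulAction.stabilizer G4 {x : Fin 4 → F5 | ev x ∈ 512 :: O}) fun g hg =>
    (MulAction.mem_stabilizer_set' (Set.toFinite _)).2 fun x hx =>
      show ev (g.1 *ᵥ x) ∈ 512 :: O from mv_en g.1 x ▸ (h3 _ hx).2 _ hg
  have : ev '' MulAction.orbit Γ (![0, 0, 0, 1] : Fin 4 → F5) = (512 :: O).toFinset := by
    refine Set.Subset.antisymm ?_ fun v hv => ?_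
    · rintro _ ⟨_, ⟨g, rfl⟩, rfl⟩
      exact List.mem_toFinset.2 ((MulAction.mem_stabilizer_set.1 (k2 g.2) _).2 (show ev _ ∈ 512 :: O from e4 ▸ List.mem_cons_self))
    · exact (List.mem_cons.1 (List.mem_toFinset.1 hv)).elim (fun e => e ▸ k0) (k1 O _ h1
        (fun v k => vd v (List.mem_cons_of_mem _ k)) (by simpa using k0) v)
  rw [Nat.card_coe_set_eq, ← Set.ncard_image_of_injective _ fun _ _ => ev_inj, this, Set.ncard_coe_finset,
    List.toFinset_card_of_nodup h2, List.length_cons]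

/-- the stabilizer of the line is the Borel subgroup -/
def Sb (Γ : Subgroup G4) : Prop := ∀ g ∈ Γ, ∀ l : F5, g.1 *ᵥ ![0, 0, 0, 1] = ![0, 0, 0, l] →
  ∃ a α β, g = uG a * dG α β

variable {Γ : Subgroup G4}

theorem e4 : ev ![0, 0, 0, 1] = 512 := by decide

theorem line {v : Fin 4 → F5} (h : ev v % 512 = 0) : v = ![0, 0, 0, v 3] := by
  have a := ev_dig v
  ext i; fin_cases i
  exacts [(ZMod.val_eq_zero _).1 (by change (v 0).val = 0; omega), (ZMod.val_eq_zero _).1 (by change (v 1).val = 0; omega),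
    (ZMod.val_eq_zero _).1 (by change (v 2).val = 0; omega), rfl]

theorem card_of (st : Sb Γ) (hB : PU F5 ⊔ DT F5 ≤ Γ) {A O : List ℕ} (h : orb A O = true) (hA : ∀ m ∈ A, In Γ m)
    (hΓ : ∀ H : Subgroup G4, (∀ g : G4, en g.1 ∈ A → g ∈ H) → Γ ≤ H) : Nat.card Γ = (O.length + 1) * 20 := by
  have nd : (St.map bG).Nodup := List.Nodup.of_map (fun g : G4 => en g.1) (by
    rw [List.map_map, List.map_congr_left (f := (fun g : G4 => en g.1) ∘ bG) (g := fun n => BL.getD n 0)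
      fun n hn => en_bG n (St_fix n hn).1]
    decide +kernel)
  have s : Nat.card (MulAction.stabilizer Γ (![0, 0, 0, 1] : Fin 4 → F5)) = 20 := by
    have : Subtype.val '' (MulAction.stabilizer Γ (![0, 0, 0, 1] : Fin 4 → F5) : Set Γ) = (St.map bG).toFinset := by
      ext g
      rw [Finset.mem_coe, List.mem_toFinset, List.mem_map]
      refine ⟨?_, ?_⟩
      · rintro ⟨g, hg, rfl⟩
        obtain ⟨a, α, β, e⟩ := st g g.2 1 hg
        obtain ⟨n, hn, e'⟩ := ex_bG a α β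
        have : ∀ n < 80, mv (BL.getD n 0) 512 = 512 → n ∈ St := by decide +kernel
        exact ⟨n, this n hn (by rw [← en_bG n hn, ← e', ← e, ← e4, mv_en]; exact congrArg ev hg), (e.trans e').symm⟩
      · rintro ⟨n, hn, rfl⟩
        exact ⟨⟨_, bG_B hB n⟩, ev_inj (by
          have := St_fix n hn
          rw [← en_bG n this.1, ← e4, mv_en] at this
          exact this.2), rfl⟩
    rw [← SetLike.coe_sort_coe, Nat.card_coe_set_eq, ← Set.ncard_image_of_injective _ Subtype.val_injective, this,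
      Set.ncard_coe_finset, List.toFinset_card_of_nodup nd]
    rfl
  rw [← orb_card h hA hΓ, ← s, ← Nat.card_prod]
  exact (Nat.card_congr (MulAction.orbitProdStabilizerEquivGroup _ _)).symm

theorem not_bad (st : Sb Γ) (hB : PU F5 ⊔ DT F5 ≤ Γ) {A : List ℕ} (hA : ∀ m ∈ A, In Γ m) {n : ℕ}
    (h : bad A n = true) : False := by
  obtain ⟨g, hg, e⟩ := in_B hB hA 20 n
  simp only [bad, fc_eq, ← e, Bool.and_eq_true, beq_iff_eq, Bool.not_eq_true', ← Bool.not_eq_true,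
    List.contains_iff_mem] at h
  rw [← e4, mv_en, e4] at h
  obtain ⟨a, α, β, rfl⟩ := st g hg _ (line h.1)
  obtain ⟨k, hk, e'⟩ := ex_bG a α β
  exact h.2 (by rw [e', en_bG k hk, List.getD_eq_getElem _ _ (hn := hk)]; exact List.getElem_mem _)

/-- the conjugates of the involution -/
structure Iv (Γ : Subgroup G4) (j : G4) : Prop where
  mem : j ∈ Γ
  sq : j * j = 1
  om : ∀ v w, om (j.1 *ᵥ v) (j.1 *ᵥ w) = -om v w

theorem Iv.gd (st : Sb Γ) (hB : PU F5 ⊔ DT F5 ≤ Γ) {j : G4} (h : Iv Γ j)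
    (hv : ev (j.1 *ᵥ ![0, 0, 0, 1]) ∈ CL.map (·.1)) : en j.1 ∈ GD := by
  obtain ⟨⟨v, L⟩, hL, e⟩ := List.mem_map.1 hv
  have c := List.all_eq_true.1 ck_CL _ hL
  have sq : j.1 * j.1 = 1 := congrArg Units.val h.sq
  have sy : ∀ v w, FusG.om (j.1 *ᵥ v) w = FusG.om (j.1 *ᵥ w) v := fun v w => by
    have := h.om v (j.1 *ᵥ w)
    rw [mulVec_mulVec, sq, one_mulVec] at this
    rw [this]; simp only [FusG.om]; ring
  have s01 := sy ![1, 0, 0, 0] ![0, 1, 0, 0]
  have s02 := sy ![1, 0, 0, 0] ![0, 0, 1, 0]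
  have s03 := sy ![1, 0, 0, 0] ![0, 0, 0, 1]
  have s12 := sy ![0, 1, 0, 0] ![0, 0, 1, 0]
  have s13 := sy ![0, 1, 0, 0] ![0, 0, 0, 1]
  have s23 := sy ![0, 0, 1, 0] ![0, 0, 0, 1]
  have h5 : (5 : F5) = 0 := rfl
  have r1 := congrArg ZMod.val (congrFun (congrFun sq 1) 3)
  have r2 := congrArg ZMod.val (congrFun (congrFun sq 2) 3)
  have r3 := congrArg ZMod.val (congrFun (congrFun sq 3) 3)
  have en1 := mm_en j.1 j.1
  rw [sq, en_one] at en1
  have hj : In Γ (en j.1) := ⟨j, h.mem, rfl⟩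
  replace e : v = ev (j.1 · 3) := e.trans (congrArg ev (by ext i; simp [mulVec, dotProduct, Fin.sum_univ_four]))
  generalize j.1 = m at *
  simp only [FusG.om, mulVec, dotProduct, Fin.sum_univ_four, cons_val_zero, cons_val_one, cons_val, mul_one, mul_zero,
    add_zero, zero_add, sub_zero, zero_sub] at s01 s02 s03 s12 s13 s23
  have t00 : m 0 0 = 4 * m 3 3 := by linear_combination -s03 - m 3 3 * h5
  have t01 : m 0 1 = 3 * m 2 3 := by linear_combination -s13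
  have t02 : m 0 2 = 2 * m 1 3 := by linear_combination -s23 - m 1 3 * h5
  have t31 : m 3 1 = 2 * m 2 0 := by linear_combination -s01 - m 2 0 * h5
  have t32 : m 3 2 = 3 * m 1 0 := by linear_combination -s02
  have t22 : m 2 2 = 4 * m 1 1 := by linear_combination 2 * s12 - (m 2 2 + 2 * m 1 1) * h5
  have v2 : ∀ a : F5, (2 * a).val = 2 * a.val % 5 := by decide
  have v3 : ∀ a : F5, (3 * a).val = 3 * a.val % 5 := by decide
  have v4 : ∀ a : F5, (4 * a).val = 4 * a.val % 5 := by decide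
  have em : jm (m 0 3).val (m 1 3).val (m 2 3).val (m 3 3).val (m 1 0).val (m 1 1).val (m 1 2).val (m 2 0).val
      (m 2 1).val (m 3 0).val = en m := by simp only [jm, en, ev, t00, t01, t02, t31, t32, t22, v2, v3, v4]
  simp only [mul_apply, Fin.sum_univ_four, val4, t31, t32, t22, v2, v3, v4] at r1 r2 r3
  simp only [ck, fc_eq, e, ev_dig, List.all_eq_true, List.mem_range, Bool.or_eq_true, bne_iff_ne, List.any_eq_true,
    Bool.and_eq_true, List.contains_iff_mem] at c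
  have c1 := ((c _ (ZMod.val_lt (m 1 0)) _ (ZMod.val_lt (m 1 1)) _ (ZMod.val_lt (m 1 2))).resolve_left
    (not_not.2 r1) _ (ZMod.val_lt (m 2 0)) _ (ZMod.val_lt (m 2 1))).resolve_left (not_not.2 r2) _ (ZMod.val_lt (m 3 0))
  rw [em] at c1
  rcases c1.resolve_left (not_not.2 r3) with (k | k) | ⟨_, -, -, k⟩
  exacts [absurd en1 k, k, (not_bad st hB (by simpa using hj) k).elim]

def GW : List (ℕ × List (ℕ × ℕ) × ℕ) := [(68853957120, [(cw, 5181)], 5181),
  (69122654720, [(c3, 528104810581048102), (cf, 128105810381058102)], 218281),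
  (549791465664, [(cf, 81)], 81),
  (4406636458000, [(c3, 81)], 81),
  (618918053632, [(cw, 5581148102), (c3, 71811181)], 42820481),
  (4493073200648, [(cf, 6810681)], 5381058103),
  (4698829239304, [(cf, 46810681)], 6281038102),
  (74993752944675, [(c3, 381128104), (cf, 4581148102)], 418205810282)]

theorem gw : ∀ J ∈ GD, ∃ e ∈ GW, e.1 = J ∧ wd (BL ++ e.2.1.map (·.1)) 20 e.2.2 = J ∧
    ∀ x ∈ e.2.1, x.1 ∈ [cw, c3, cf] ∧ wd (BL ++ [J]) 20 x.2 = x.1 := by decide +kernel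

/-- the subgroup generated by the standard generators that lie in `Γ` -/
def T (Γ : Subgroup G4) : Subgroup G4 := G5 ({wG F5, j3, jf} ∩ Γ)

theorem B_G5 (s : Set G4) : PU F5 ⊔ DT F5 ≤ G5 s := le_sup_left

theorem mem_G5 {s : Set G4} {g : G4} (h : g ∈ s) : g ∈ G5 s := mem_sup_right (subset_closure h)

theorem T_le (hB : PU F5 ⊔ DT F5 ≤ Γ) : T Γ ≤ Γ := sup_le hB ((closure_le _).2 Set.inter_subset_right)

theorem gd_T (hB : PU F5 ⊔ DT F5 ≤ Γ) {j : G4} (h : j ∈ Γ) (k : en j.1 ∈ GD) : j ∈ T Γ := by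
  obtain ⟨e, -, -, h1, h2⟩ := gw _ k
  refine In.mem (h1 ▸ in_B (B_G5 _) (List.forall_mem_map.2 fun x hx => ?_) _ _)
  have := in_B hB (A := [en j.1]) (by simpa using ⟨j, h, rfl⟩) 20 x.2
  rw [(h2 x hx).2] at this
  have c := (h2 x hx).1
  simp only [List.mem_cons, List.not_mem_nil, or_false] at c
  rcases c with c | c | c <;> rw [c] at this ⊢
  · exact ⟨_, mem_G5 ⟨by simp, In.mem (en_w ▸ this)⟩, en_w⟩
  · exact ⟨_, mem_G5 ⟨by simp, In.mem (en_3 ▸ this)⟩, en_3⟩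
  · exact ⟨_, mem_G5 ⟨by simp, In.mem (en_f ▸ this)⟩, en_f⟩

theorem Iv.cj (h : Lg 5 Γ) {j g : G4} (i : Iv Γ j) (hg : g ∈ Γ) : Iv Γ (g * j * g⁻¹) where
  mem := mul_mem (mul_mem hg i.mem) (inv_mem hg)
  sq := by rw [← MulAut.conj_apply, ← map_mul, i.sq, map_one]
  om v w := by
    obtain ⟨μ, k, -⟩ := h.sim g hg
    have e : ∀ v, g.1 *ᵥ (g⁻¹.1 *ᵥ v) = v := fun v => by rw [mulVec_mulVec, Units.mul_inv, one_mulVec]
    simp only [Units.val_mul, ← mulVec_mulVec]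
    rw [k, i.om, mul_neg, ← k, e, e]

theorem Iv.neg (hB : PU F5 ⊔ DT F5 ≤ Γ) {j : G4} (i : Iv Γ j) : Iv Γ (bG 40 * j) := by
  have e : bG 40 = -1 := eg_inj (by decide +kernel)
  refine ⟨mul_mem (bG_B hB _) i.mem, by rw [e, neg_one_mul, neg_mul_neg, i.sq], fun v w => ?_⟩
  rw [← i.om, e, neg_one_mul, Units.val_neg, neg_mulVec, neg_mulVec]
  simp only [FusG.om, Pi.neg_apply]; ring

theorem Iv.mem_T (h : Lg 5 Γ) (st : Sb Γ) {j : G4} (i : Iv Γ j) : j ∈ T Γ := by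
  have hB := sup_le h.syl.le h.tor
  rcases red _ (ZMod.val_lt _) _ (ZMod.val_lt _) _ (ZMod.val_lt _) _ (ZMod.val_lt _) with k | ⟨n, hn, m, hm, k⟩
  · obtain ⟨a, α, β, rfl⟩ := st j i.mem _ (line k)
    exact B_G5 _ (mul_mem_sup ⟨a, rfl⟩ ⟨α, β, rfl⟩)
  have f := St_fix n hn
  rw [← en_bG n f.1, ← e4, mv_en] at f
  have i' : Iv Γ (bG m * (bG n * j * (bG n)⁻¹)) := by
    have := i.cj h (bG_B hB n)
    simp only [List.mem_cons, List.not_mem_nil, or_false] at hm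
    rcases hm with rfl | rfl
    · rwa [show bG 0 = 1 by simp [bG], one_mul]
    · exact this.neg hB
  have := gd_T hB i'.mem (i'.gd st hB (by
    have e : (bG n)⁻¹.1 *ᵥ ![0, 0, 0, 1] = ![0, 0, 0, 1] := by
      conv_lhs => rw [← ev_inj f.2, mulVec_mulVec, Units.inv_mul, one_mulVec]
    simp only [Units.val_mul, ← mulVec_mulVec]
    rw [e, ← mv_en, ← mv_en, en_bG n f.1, en_bG m (by simp at hm; omega)]
    exact k))
  have b := bG_B (B_G5 ({wG F5, j3, jf} ∩ Γ))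
  exact (mul_mem_cancel_left (b n)).1 ((mul_mem_cancel_right (inv_mem (b n))).1 ((mul_mem_cancel_left (b m)).1 this))

theorem eq_T (h : Lg 5 Γ) (st : Sb Γ) : Γ = T Γ := by
  have hB := sup_le h.syl.le h.tor
  refine le_antisymm (fun g hg => ?_) (T_le hB)
  have i : Iv Γ (dG (-1) 1) := ⟨h.tor ⟨_, _, rfl⟩, eg_inj (by decide +kernel), fun v w => by
    simp only [val_dG, dM_mulVec, om, cons_val_zero, cons_val_one, cons_val, Units.val_neg, Units.val_one]; ring⟩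
  have e : uG (1 : F5) = uG 3 * dG (-1) 1 * (uG 3)⁻¹ * dG (-1) 1 := eg_inj (by decide +kernel)
  have k : g * uG 1 * g⁻¹ ∈ T Γ := by
    rw [e, ← MulAut.conj_apply, map_mul]
    exact mul_mem (((i.cj h (h.syl.le ⟨3, rfl⟩)).cj h hg).mem_T h st) ((i.cj h hg).mem_T h st)
  obtain ⟨b, hb, a, ea⟩ := (h.syl.mono (le_sup_left.trans (B_G5 _)) (T_le hB)).exists_conj_elt k (k := 1) (by
    rw [conj_pow, show uG (1 : F5) ^ 5 ^ 1 = 1 from eg_inj (by decide +kernel), mul_one, mul_inv_cancel])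
  have e1 : b * g * uG 1 = uG a * (b * g) := by rw [← ea]; group
  have a0 : a ≠ 0 := by
    rintro rfl
    rw [show uG (0 : F5) = 1 from Units.ext uM_zero, one_mul, mul_eq_left] at e1
    exact absurd (congrArg (fun g : G4 => en g.1) e1) (by decide +kernel)
  have e2 := congrArg (fun g : G4 => g.1 *ᵥ ![0, 0, 0, 1]) e1
  simp only [Units.val_mul (b * g), Units.val_mul (uG a), ← mulVec_mulVec, val_uG] at e2
  rw [show uM (1 : F5) *ᵥ ![0, 0, 0, 1] = ![0, 0, 0, 1] by decide, uM_mulVec] at e2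
  have : ∀ a x y z : F5, a ≠ 0 → y = y + a * x → z = z + 2 * a * y + a ^ 2 * x → ∀ t : F5,
    t = t + 3 * a * z + 3 * a ^ 2 * y + a ^ 3 * x → x = 0 ∧ y = 0 ∧ z = 0 := by decide +kernel
  obtain ⟨x, y, z⟩ := this a _ _ _ a0 (congrFun e2 1) (congrFun e2 2) _ (congrFun e2 3)
  obtain ⟨c, α, β, e3⟩ := st (b * g) (mul_mem (T_le hB hb) hg) (((b * g).1 *ᵥ ![0, 0, 0, 1]) 3) (by
    ext i; fin_cases i; exacts [x, y, z, rfl])
  exact (mul_mem_cancel_left hb).1 (e3 ▸ B_G5 _ (mul_mem_sup ⟨c, rfl⟩ ⟨α, β, rfl⟩))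

theorem card_G5 (st : Sb Γ) {s : List G4} (e : Γ = G5 {g | g ∈ s}) {O : List ℕ}
    (h : orb (gs (s.map fun g => en g.1)) O = true) {n : ℕ} (hn : (O.length + 1) * 20 = n) : Nat.card Γ = n := by
  have hB : PU F5 ⊔ DT F5 ≤ Γ := e ▸ B_G5 _
  subst hn
  refine card_of st hB h ?_ fun H k => e ▸ sup_le (B_le (k _ ?_) (k _ ?_) (k _ ?_)) ((closure_le _).2 fun g hg => k g ?_)
  · simp only [gs, List.forall_mem_cons, List.forall_mem_map]
    exact ⟨⟨_, bG_B hB 1, en_bG 1 (by omega)⟩, ⟨_, bG_B hB 5, en_bG 5 (by omega)⟩, ⟨_, bG_B hB 20, en_bG 20 (by omega)⟩,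
      fun g hg => ⟨g, e ▸ mem_G5 hg, rfl⟩⟩
  · exact List.mem_cons.2 (.inl (by decide +kernel))
  · exact List.mem_cons_of_mem _ (List.mem_cons.2 (.inl (by decide +kernel)))
  · exact List.mem_cons_of_mem _ (List.mem_cons_of_mem _ (List.mem_cons.2 (.inl (by decide +kernel))))
  · exact List.mem_cons_of_mem _ (List.mem_cons_of_mem _ (List.mem_cons_of_mem _ (List.mem_map_of_mem hg)))

theorem core (h : Lg 5 Γ) (st : Sb Γ) : Γ = G5 {wG _} ∧ Nat.card Γ = 480 ∨ Γ = G5 {j3} ∨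
    Γ = G5 {wG _, j3} ∧ Nat.card Γ = 2880 ∨ Γ = G5 {jf} ∧ Nat.card Γ = 1280 ∨
      Γ = G5 {j3, jf} ∧ Nat.card Γ = 7680 := by
  have hB := sup_le h.syl.le h.tor
  have e := eq_T h st
  rw [T] at e
  by_cases a : wG F5 ∈ Γ <;> by_cases b : j3 ∈ Γ <;> by_cases c : jf ∈ Γ
  all_goals first
    | exact (not_bad st hB (A := [cw, cf]) (n := 8281824181) (by simpa using ⟨⟨_, a, en_w⟩, _, c, en_f⟩)
        (by decide +kernel)).elim
    | skip
  all_goals simp only [Set.insert_inter_of_mem, Set.insert_inter_of_notMem, Set.singleton_inter_of_mem,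
    Set.singleton_inter_of_notMem, SetLike.mem_coe, a, b, c, not_false_eq_true, insert_empty_eq] at e
  · exact .inr (.inr (.inl ⟨e, card_G5 st (s := [wG _, j3]) (by simpa [Set.insert_def] using e)
      (by simpa only [List.map, en_w, en_3] using orb2) (by decide +kernel)⟩))
  · exact .inl ⟨e, card_G5 st (s := [wG _]) (by simpa using e) (by simpa only [List.map, en_w] using orb1) (by decide +kernel)⟩
  · exact .inr (.inr (.inr (.inr ⟨e, card_G5 st (s := [j3, jf]) (by simpa [Set.insert_def] using e)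
      (by simpa only [List.map, en_3, en_f] using orb4) (by decide +kernel)⟩)))
  · exact .inr (.inl e)
  · exact .inr (.inr (.inr (.inl ⟨e, card_G5 st (s := [jf]) (by simpa using e)
      (by simpa only [List.map, en_f] using orb3) (by decide +kernel)⟩)))
  · refine (h.nn (e.le.trans ?_)).elim
    rw [G5, Subgroup.closure_empty, sup_bot_eq]
    refine sup_le le_normalizer ?_
    rintro _ ⟨α, β, rfl⟩
    refine mem_normalizer_fintype ?_
    rintro _ ⟨a, rfl⟩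
    refine ⟨α * a, mul_inv_eq_iff_eq_mul.2 (Units.ext ?_)⟩
    ext i j
    fin_cases i <;> fin_cases j <;> simp [uM, dM, Matrix.mul_apply, Fin.sum_univ_four] <;> ring

end L5

open L5 Subgroup

theorem cl5 : dG 1 (-1) ∈ Cl (G5 {jf}) ∧ dG (-1) (ZMod.unitOfCoprime 2 (by norm_num)) ∈ Cl (G5 {j3}) := by
  have u : ∀ s a, uG a ∈ Cl (G5 s) := fun s a => subset_closure ⟨1, one_mem _, a, by simp⟩
  have v : ∀ (j : G4) a, j * uG a * j⁻¹ ∈ Cl (G5 {j}) := fun j a => subset_closure ⟨j, mem_G5 rfl, a, rfl⟩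
  constructor
  · rw [show dG 1 (-1) = uG 1 * (jf * uG 1 * jf⁻¹) * uG 1 * (jf * uG 1 * jf⁻¹) from eg_inj (by decide +kernel)]
    exact mul_mem (mul_mem (mul_mem (u _ _) (v _ _)) (u _ _)) (v _ _)
  · rw [show dG (-1) (ZMod.unitOfCoprime 2 (by norm_num)) = uG 1 * (j3 * uG 3 * j3⁻¹) * uG 3 * (j3 * uG 1 * j3⁻¹) from
      eg_inj (by decide +kernel)]
    exact mul_mem (mul_mem (mul_mem (u _ _) (v _ _)) (u _ _)) (v _ _)

end CF.FusG
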