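import Cfsg.Agent.FusG.LA1

/-! The linear group: the orbit of the highest weight vector and the Bruhat decomposition. -/

set_option autoImplicit false
set_option linter.style.haveILetI false
set_option linter.unusedSimpArgs false

namespace CF.FusG

open Subgroup CF.Fus Function Matrix LA

variable {K : Type} [Field K] [Finite K] {p : ℕ} [Fact p.Prime] [CharP K p] {Γ : Subgroup (GL (Fin 4) K)}
  {g d : GL (Fin 4) K} {l μ : K} {v w : Fin 4 → K}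

namespace LA

omit [Finite K] [Fact p.Prime] [CharP K p] in
theorem om_smul (hg : g ∈ Γ) (o : Om Γ v) : Om Γ (g • v) := by
  obtain ⟨k, hk, rfl⟩ := o
  exact ⟨g * k, mul_mem hg hk, mul_smul g k _⟩

omit [Finite K] [Fact p.Prime] [CharP K p] in
theorem om_e4 : Om Γ ![0, 0, 0, 1] := ⟨1, one_mem _, one_smul (GL (Fin 4) K) _⟩

omit [Finite K] [Fact p.Prime] [CharP K p] in
theorem om_u (h : Lg p Γ) (a : K) (o : Om Γ v) : Om Γ (uG a • v) := om_smul (h.syl.le ⟨a, rfl⟩) o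

omit [Finite K] [Fact p.Prime] [CharP K p] in
theorem om_d (h : Lg p Γ) (α β : Kˣ) (o : Om Γ v) : Om Γ (dG α β • v) := om_smul (h.tor ⟨α, β, rfl⟩) o

omit [Finite K] [Fact p.Prime] [CharP K p] in
theorem om_sc (h : Lg p Γ) (hl : l ≠ 0) (o : Om Γ v) : Om Γ (l • v) := d_one (Units.mk0 l hl) v ▸ om_d h 1 _ o

omit [Finite K] [Fact p.Prime] [CharP K p] in
theorem om_ne (o : Om Γ v) : v ≠ 0 := by
  obtain ⟨g, -, e⟩ := o
  rintro rfl
  exact ne_zero (g := g) (l := 0) (e.trans (by apply vext <;> rfl)) rfl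

omit [Fact p.Prime] [CharP K p] in
theorem hq_of (h4 : 4 ≤ Nat.card K) : (2 : K) = 0 ∨ 5 ≤ Nat.card K := by
  refine (h4.eq_or_lt).imp (fun e => ?_) id
  have := Fintype.ofFinite K
  have c := FiniteField.cast_card_eq_zero K
  rw [← Nat.card_eq_fintype_card, ← e] at c
  exact pow_eq_zero_iff (n := 2) (by omega) |>.1 (by linear_combination c)

theorem eig (h : Lg p Γ) (h3 : (3 : K) ≠ 0) (hq : (2 : K) = 0 ∨ 5 ≤ Nat.card K) (hg : g ∈ Γ) (hd : d ∈ Γ)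
    (e : d • g • (![0, 0, 0, 1] : Fin 4 → K) = l • g • ![0, 0, 0, 1]) (m : Mu d μ) :
    ∃ (a : K) (γ δ : Kˣ), g⁻¹ * d * g = uG a * dG γ δ ∧ (γ : K) ^ 3 * δ = l ∧ l * δ = μ ∧
      d.1.trace = δ * (1 + γ + γ ^ 2 + γ ^ 3) := by
  have f : (g⁻¹ * d * g) • (![0, 0, 0, 1] : Fin 4 → K) = ![0, 0, 0, l] := by
    rw [mul_smul, mul_smul, e, sm, inv_smul_smul]
    simp
  obtain ⟨a, γ, δ, e⟩ := h.st h3 hq (mul_mem (mul_mem (inv_mem hg) hd) hg) f
  obtain ⟨ν, n⟩ := mu h hg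
  have q := (n.conj m).uniq (e ▸ mu_ud a γ δ)
  have q' : (γ : K) ^ 3 * δ = l := by simpa [e, ud_e4] using f
  exact ⟨a, γ, δ, e, q', by rw [q, ← q']; ring, by rw [← tr_conj g, e, tr_ud]⟩

include p in
theorem exists_45 (h4 : 4 ≤ Nat.card K) (h5 : Nat.card K ≠ 5) : ∃ α : Kˣ, α ^ 4 ≠ 1 ∧ α ^ 5 ≠ 1 := by
  obtain ⟨α, a⟩ := IsCyclic.exists_ofOrder_eq_natCard (α := Kˣ)
  rw [Nat.card_units] at a
  have h6 : Nat.card K ≠ 6 := fun e => by
    have := Fintype.ofFinite K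
    obtain ⟨n, hp, c⟩ := FiniteField.card K p
    rw [← Nat.card_eq_fintype_card, e] at c
    have a := (Nat.prime_dvd_prime_iff_eq Nat.prime_two hp).1 (Nat.prime_two.dvd_of_dvd_pow (c ▸ (by norm_num : 2 ∣ 6)))
    have b := (Nat.prime_dvd_prime_iff_eq Nat.prime_three hp).1 (Nat.prime_three.dvd_of_dvd_pow (c ▸ (by norm_num : 3 ∣ 6)))
    omega
  refine ⟨α, fun e => ?_, fun e => ?_⟩ <;> have := orderOf_dvd_of_pow_eq_one e <;>
    have := Nat.le_of_dvd (by omega) this <;> generalize orderOf α = n at * <;> interval_cases n <;> omega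

theorem exists_swap (h : Lg p Γ) (h3 : (3 : K) ≠ 0) (h4 : 4 ≤ Nat.card K)
    (H : ∀ v, Om Γ v → v 0 = 0 ∧ v 1 = 0 ∧ v 2 = 0 ∨ ∃ a, v = v 0 • ![1, a, a ^ 2, a ^ 3]) :
    ∃ n ∈ Γ, n • (![0, 0, 0, 1] : Fin 4 → K) = ![1, 0, 0, 0] ∧
      ∃ r, n • (![1, 0, 0, 0] : Fin 4 → K) = ![0, 0, 0, r] := by
  obtain ⟨g, hg, n⟩ := SetLike.not_le_iff_exists.1 h.nn
  obtain ⟨a, e⟩ := (H _ ⟨g, hg, rfl⟩).resolve_left fun c => by
    obtain ⟨a, α, β, rfl⟩ := h.st h3 (hq_of h4) hg (vext c.1 c.2.1 c.2.2 rfl)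
    exact n (ud_norm a α β)
  have o : Om Γ (g.1 *ᵥ ![0, 0, 0, 1]) := ⟨g, hg, rfl⟩
  generalize g.1 *ᵥ ![0, 0, 0, 1] = v at e o
  have v0 : v 0 ≠ 0 := fun c => om_ne o (by rw [e, c, zero_smul])
  obtain ⟨k, hk, e1⟩ : Om Γ ![1, 0, 0, 0] := by
    convert om_u h (-a) (om_sc h (inv_ne_zero v0) o) using 1
    rw [e, smul_smul, u_smul]
    apply vext <;> simp [v0] <;> ring
  change k • (![0, 0, 0, 1] : Fin 4 → K) = _ at e1
  have o := om_smul (inv_mem hk) (om_e4 (Γ := Γ))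
  obtain ⟨b, e2⟩ := (H _ o).resolve_left fun c => by
    have := congrArg (k • ·) (show k⁻¹ • (![0, 0, 0, 1] : Fin 4 → K) = (k⁻¹ • (![0, 0, 0, 1] : Fin 4 → K)) 3 •
      ![0, 0, 0, 1] from vext (by simp [c.1]) (by simp [c.2.1]) (by simp [c.2.2]) (by simp))
    simp only [smul_inv_smul, sm, e1] at this
    simpa using congrFun this 3
  have w0 : (k⁻¹ • (![0, 0, 0, 1] : Fin 4 → K)) 0 ≠ 0 := fun c => om_ne o (by rw [e2, c, zero_smul])
  generalize (k⁻¹ • (![0, 0, 0, 1] : Fin 4 → K)) 0 = t at e2 w0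
  refine ⟨k * uG b, mul_mem hk (h.syl.le ⟨b, rfl⟩), by simp [mul_smul, u_smul, e1], t⁻¹, ?_⟩
  rw [inv_smul_eq_iff, sm, ← inv_smul_eq_iff₀ w0] at e2
  simpa [mul_smul, u_smul] using e2.symm

omit [Finite K] [Fact p.Prime] [CharP K p] in
theorem dec (g : GL (Fin 4) K) (v : Fin 4 → K) : g • v = v 0 • g • ![1, 0, 0, 0] + v 1 • g • ![0, 1, 0, 0] +
    v 2 • g • ![0, 0, 1, 0] + v 3 • g • ![0, 0, 0, 1] := by
  rw [← sm, ← sm, ← sm, ← sm, ← smul_add, ← smul_add, ← smul_add]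
  congr 1
  apply vext <;> simp

omit [Finite K] [Fact p.Prime] [CharP K p] in
theorem shape (h : Lg p Γ) (hg : g ∈ Γ) (e4 : g • (![0, 0, 0, 1] : Fin 4 → K) = ![1, 0, 0, 0])
    (e1 : g • (![1, 0, 0, 0] : Fin 4 → K) = ![0, 0, 0, l]) : l ≠ 0 ∧ ∃ x1 x2 y1 y2 : K, ∀ v : Fin 4 → K,
      g • v = ![v 3, x1 * v 1 + y1 * v 2, x2 * v 1 + y2 * v 2, l * v 0] := by
  obtain ⟨μ, m⟩ := mu h hg
  have a0 := m ![0, 0, 0, 1] ![1, 0, 0, 0]
  have a1 := m ![0, 1, 0, 0] ![1, 0, 0, 0]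
  have a2 := m ![0, 1, 0, 0] ![0, 0, 0, 1]
  have a3 := m ![0, 0, 1, 0] ![1, 0, 0, 0]
  have a4 := m ![0, 0, 1, 0] ![0, 0, 0, 1]
  have dn := dec g
  rw [e1, e4] at *
  generalize g • (![0, 1, 0, 0] : Fin 4 → K) = x at *
  generalize g • (![0, 0, 1, 0] : Fin 4 → K) = y at *
  have r0 : l ≠ 0 := fun c => m.ne (by simpa [om, c] using a0.symm)
  simp [om, r0] at a1 a2 a3 a4
  refine ⟨r0, x 1, x 2, y 1, y 2, fun v => (dn v).trans ?_⟩
  apply vext <;> simp only [Pi.add_apply, Pi.smul_apply, smul_eq_mul] <;> simp [a1, a2, a3, a4] <;> ring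

theorem no_refl (h : Lg p Γ) (h2 : (2 : K) = 0) (hg : g ∈ Γ) :
    ¬ ∀ v : Fin 4 → K, g • v = ![v 3, v 1, v 2, v 0] := fun e => by
  have h3 : (3 : K) ≠ 0 := fun c => one_ne_zero (α := K) (by linear_combination c - h2)
  obtain rfl : p = 2 := ((Nat.prime_dvd_prime_iff_eq Fact.out Nat.prime_two).1 ((CharP.cast_eq_zero_iff K p 2).1 h2))
  obtain ⟨k, -, a, e'⟩ := h.syl.exists_conj_elt hg (k := 1) (gext fun v => by
    rw [pow_one, sq, mul_smul, e, e]; apply vext <;> simp)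
  have f : ∀ x : Fin 4 → K, ∃ c : K, uG a • x - x = c • k • (![1, 0, 0, -1] : Fin 4 → K) := fun x =>
    ⟨(k⁻¹ • x) 3 - (k⁻¹ • x) 0, by
      rw [← e', mul_smul, mul_smul, ← sm, sub_eq_iff_eq_add]
      conv_rhs => rw [← smul_inv_smul k x]
      rw [← smul_add, inv_smul_smul, e]
      congr 1
      apply vext <;> simp⟩
  obtain ⟨c, q⟩ := f ![1, 0, 0, 0]
  obtain ⟨c', q'⟩ := f ![0, 0, 1, 0]
  have q1 := congrFun q 1
  have q2 := congrFun q' 1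
  have q3 := congrFun q' 3
  simp [u_smul] at q1 q2 q3
  have : a = 0 := by
    rcases q2 with rfl | q2
    · simpa [h3] using q3
    · simpa [q2] using q1
  rw [this, uG_zero, mul_inv_eq_one, mul_eq_left] at e'
  simpa [e'] using congrFun (e ![1, 0, 0, 0]) 0

end LA

theorem Lg.ne23 (h : Lg p Γ) (h3 : (3 : K) ≠ 0) (h4 : 4 ≤ Nat.card K) (h5 : Nat.card K ≠ 5) :
    ¬ Om Γ ![0, 1, 0, 0] ∧ ¬ Om Γ ![0, 0, 1, 0] := by
  obtain ⟨α, a4, a5⟩ := exists_45 (p := p) h4 h5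
  have key : ∀ v, Om Γ v → ∀ d ∈ Γ, d • v = (α : K) • v → Mu d (α ^ 3) → d.1.trace ≠ 1 + α + α ^ 2 + α ^ 3 := by
    rintro _ ⟨g, hg, rfl⟩ d hd e m t
    obtain ⟨-, γ, δ, -, q1, q2, q3⟩ := eig h h3 (hq_of h4) hg hd e m
    have q4 : (δ : K) = α ^ 2 := mul_left_cancel₀ α.ne_zero (by linear_combination q2)
    rw [q4] at q1 q3
    have q5 : (γ : K) ^ 3 * α = 1 := mul_left_cancel₀ α.ne_zero (by linear_combination q1)
    obtain rfl : α = (γ ^ 3)⁻¹ := eq_inv_of_mul_eq_one_right (Units.ext (by simpa using q5))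
    have : ((γ : K) ^ 4 - 1) * (γ ^ 5 - 1) = 0 := by
      generalize (((γ ^ 3)⁻¹ : Kˣ) : K) = x at *
      linear_combination (γ ^ 9 : K) * (q3 - t) + (γ ^ 9 * x - (γ ^ 6 * x ^ 2 + γ ^ 3 * x + 1) +
        (γ ^ 4 + γ ^ 5) * (γ ^ 3 * x + 1) : K) * q5
    rcases mul_eq_zero.1 this with c | c
    · exact a4 (by rw [inv_pow, ← pow_mul, mul_comm, pow_mul, show γ ^ 4 = 1 from Units.ext (by simpa using sub_eq_zero.1 c)]; simp)
    · exact a5 (by rw [inv_pow, ← pow_mul, mul_comm, pow_mul, show γ ^ 5 = 1 from Units.ext (by simpa using sub_eq_zero.1 c)]; simp)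
  refine ⟨fun o => key _ o _ (h.tor ⟨α, 1, rfl⟩) (by simp [d_smul]) (by simpa using mu_d α 1) (by rw [tr_d]; simp),
    fun o => key _ o _ (h.tor ⟨α⁻¹, α ^ 3, rfl⟩) ?_ ?_ ?_⟩
  · simp [d_smul]
    field_simp
  · convert mu_d α⁻¹ (α ^ 3) using 1
    simp
    field_simp
  · rw [tr_d]
    simp
    field_simp
    ring

theorem Lg.br (h : Lg p Γ) (h3 : (3 : K) ≠ 0) (h4 : 4 ≤ Nat.card K)
    (H : ∀ v, Om Γ v → v 0 = 0 ∧ v 1 = 0 ∧ v 2 = 0 ∨ ∃ a, v = v 0 • ![1, a, a ^ 2, a ^ 3]) : Br Γ := by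
  have hq := hq_of h4
  suffices hw : wG K ∈ Γ from ⟨hw, fun g hg => (H _ ⟨g, hg, rfl⟩).imp (fun c => by
    obtain ⟨a, α, β, rfl⟩ := h.st h3 hq hg (vext c.1 c.2.1 c.2.2 rfl)
    exact ud_norm a α β) fun ⟨a, e⟩ => ⟨uG (-a), ⟨_, rfl⟩, by
      obtain ⟨b, α, β, e⟩ := h.st h3 hq (mul_mem (mul_mem (inv_mem hw) (h.syl.le ⟨-a, rfl⟩)) hg)
        (l := (g • (![0, 0, 0, 1] : Fin 4 → K)) 0) (by
          change (_ : GL (Fin 4) K) • (![0, 0, 0, 1] : Fin 4 → K) = _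
          change g • (![0, 0, 0, 1] : Fin 4 → K) = (g • (![0, 0, 0, 1] : Fin 4 → K)) 0 • _ at e
          generalize (g • (![0, 0, 0, 1] : Fin 4 → K)) 0 = t at e ⊢
          rw [mul_smul, mul_smul, inv_smul_eq_iff, e, u_smul, w_smul]
          apply vext <;> simp <;> ring)
      exact e ▸ ud_norm b α β⟩⟩
  obtain ⟨n, hn, e4, r, e1⟩ := exists_swap h h3 h4 H
  obtain ⟨r0, x1, x2, y1, y2, dn⟩ := shape h hn e4 e1
  obtain ⟨α, α1, α3⟩ : ∃ α : Kˣ, α ^ 1 ≠ 1 ∧ ((2 : K) = 0 ∨ α ^ 3 ≠ 1) := hq.elim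
    (fun c => (exists_pow_ne (by omega) (by omega)).imp fun _ a => ⟨a, .inl c⟩) fun c =>
      (exists_pow_ne (n := 3) (by omega) c).imp fun _ a =>
        ⟨fun e => a (by rw [pow_one] at e; rw [e, one_pow]), .inr a⟩
  obtain ⟨a, γ, δ, e, q1, q2, -⟩ := eig h h3 hq hn (h.tor ⟨α, 1, rfl⟩) (l := 1) (by simp [e4, d_smul]) (mu_d α 1)
  rw [mul_assoc, inv_mul_eq_iff_eq_mul] at e
  have b := fun (v : Fin 4 → K) i => congrFun (congrArg (· • v) e) i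
  simp only [mul_smul, dn] at b
  obtain rfl : a = 0 := by simpa [u_smul, d_smul] using b ![1, 0, 0, 0] 0
  have p1 : x1 = 0 ∨ (α : K) = γ * δ := by simpa [u_smul, d_smul, or_comm, mul_comm x1] using b ![0, 1, 0, 0] 1
  have p2 : x2 = 0 ∨ (α : K) ^ 2 = γ * δ := by simpa [u_smul, d_smul, or_comm, mul_comm x2] using b ![0, 1, 0, 0] 2
  have p3 : y1 = 0 ∨ (α : K) = γ ^ 2 * δ := by simpa [u_smul, d_smul, or_comm, mul_comm y1] using b ![0, 0, 1, 0] 1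
  have p4 : y2 = 0 ∨ (α : K) ^ 2 = γ ^ 2 * δ := by
    simpa [u_smul, d_smul, or_comm, mul_comm y2] using b ![0, 0, 1, 0] 2
  obtain ⟨c, c1, c2, c3⟩ : ∃ c, x1 + y1 = c ∧ x2 + y2 = c ^ 2 ∧ r = c ^ 3 := by
    simpa [dn, u_smul] using H _ (om_smul hn (om_u h 1 ⟨n, hn, e4⟩))
  have c0 : c ≠ 0 := fun e => r0 (by simp [c3, e])
  by_cases z : x1 = 0 ∧ y2 = 0
  · have : wG K = (dG (Units.mk0 (-c) (neg_ne_zero.2 c0)) 1)⁻¹ * n := eq_inv_mul_of_mul_eq (gext fun v => by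
      rw [z.1, zero_add] at c1
      rw [z.2, add_zero] at c2
      rw [mul_smul, dn, w_smul, d_smul]
      apply vext <;> simp [z.1, z.2, c1, c2, c3]
      ring)
    exact this ▸ mul_mem (inv_mem (h.tor ⟨_, _, rfl⟩)) hn
  have α0 := α.ne_zero
  simp only [one_mul, Units.val_one, one_pow, mul_one] at q2
  rw [q2] at q1 p1 p2 p3 p4
  obtain ⟨k3, k⟩ : (α : K) ^ 3 = 1 ∧ (γ : K) = α := by
    rcases not_and_or.1 z with z | z
    · have := mul_left_cancel₀ α0 (show (α : K) * 1 = α * (γ * α ^ 2) by linear_combination p1.resolve_left z)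
      constructor <;> grind
    · have := mul_left_cancel₀ (pow_ne_zero 2 α0)
        (show (α : K) ^ 2 * 1 = α ^ 2 * (γ ^ 2 * α) by linear_combination p4.resolve_left z)
      constructor <;> grind
  have ne : (α : K) ^ 2 ≠ α := fun e => α1 (Units.ext (mul_left_cancel₀ α0 (by simpa [sq] using e)))
  rw [k3, k, mul_one] at p2 p3
  obtain rfl := p2.resolve_right ne
  obtain rfl := p3.resolve_right ne.symm
  refine (no_refl h (α3.resolve_right fun e => e (Units.ext (by simpa using k3)))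
    (mul_mem (h.tor ⟨(Units.mk0 c c0)⁻¹, 1, rfl⟩) hn) fun v => ?_).elim
  rw [add_zero] at c1
  rw [zero_add] at c2
  rw [mul_smul, dn, d_smul]
  apply vext <;> simp [c1, c2, c3, c0]

theorem Lg.om2 (h : Lg p Γ) (h2 : (2 : K) = 0) (h4 : 4 ≤ Nat.card K) :
    ∀ v, Om Γ v → v 0 = 0 ∧ v 1 = 0 ∧ v 2 = 0 ∨ ∃ a, v = v 0 • ![1, a, a ^ 2, a ^ 3] := by
  have h3 : (3 : K) = 1 := by linear_combination h2
  obtain rfl : p = 2 := ((Nat.prime_dvd_prime_iff_eq Fact.out Nat.prime_two).1 ((CharP.cast_eq_zero_iff K p 2).1 h2))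
  obtain ⟨n2, n3⟩ := h.ne23 (h3 ▸ one_ne_zero) h4 fun e => by
    have := Fintype.ofFinite K
    have c := FiniteField.cast_card_eq_zero K
    rw [← Nat.card_eq_fintype_card, e] at c
    exact one_ne_zero (α := K) (by linear_combination c - 2 * h2)
  have sg : ∀ v, Om Γ v → v 1 * v 2 = v 0 * v 3 := by
    rintro _ ⟨g, hg, rfl⟩
    obtain ⟨μ, -, q⟩ := h.sim g hg
    simpa [qf, h3, sub_eq_zero] using q h2 ![0, 0, 0, 1]
  have z : ∀ v, Om Γ v → v 0 = 0 → v 1 = 0 ∧ v 2 = 0 := fun v o e => by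
    have s := sg v o
    rw [e, zero_mul] at s
    have b : v 1 = 0 := by
      by_contra b
      obtain ⟨a, q⟩ := surjective_frobenius K 2 (v 3 / v 1)
      refine n2 ?_
      convert om_sc h (inv_ne_zero b) (om_u h a o) using 1
      rw [frobenius_def, eq_div_iff b] at q
      apply vext <;> simp [u_smul, e, b, (mul_eq_zero.1 s).resolve_left b, h3, h2]
      linear_combination q + v 3 * h2
    refine ⟨b, by_contra fun c => n3 ?_⟩
    convert om_sc h (inv_ne_zero c) (om_u h (v 3 / v 2) o) using 1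
    apply vext <;> simp [u_smul, e, b, c, h3]
    linear_combination v 3 * h2
  intro v o
  by_cases e : v 0 = 0
  · exact .inl ⟨e, z v o e⟩
  have o' := om_u h (-(v 1 / v 0)) o
  generalize hw : uG (-(v 1 / v 0)) • v = w at o'
  have w0 : w 0 = v 0 := by simp [← hw, u_smul]
  have w1 : w 1 = 0 := by simp [← hw, u_smul, e]
  have w3 : w 3 = 0 := by simpa [w0, w1, e] using sg w o'
  have w2 : w 2 = 0 := by
    obtain ⟨α, a⟩ := exists_pow_ne (K := K) (n := 2) (by omega) (by omega)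
    obtain ⟨g, hg, q⟩ := id o'
    change g • (![0, 0, 0, 1] : Fin 4 → K) = w at q
    obtain ⟨μ, m⟩ := mu h hg
    have o2 := om_smul (inv_mem hg) (om_d h α 1 o')
    have f := m ![0, 0, 0, 1] (g⁻¹ • dG α 1 • w)
    rw [smul_inv_smul, q] at f
    have f0 : (g⁻¹ • dG α 1 • w) 0 = 0 := by simpa [om, d_smul, w1, w3, m.ne] using f
    have f1 := dec g (g⁻¹ • dG α 1 • w)
    rw [smul_inv_smul, f0, (z _ o2 f0).1, (z _ o2 f0).2, q] at f1
    have f2 := congrFun f1 0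
    have f3 := congrFun f1 2
    simp [d_smul, w0, e] at f2 f3
    by_contra c
    exact a (Units.ext (by simpa [← f2, c] using f3))
  refine .inr ⟨v 1 / v 0, ?_⟩
  rw [← eq_inv_smul_iff] at hw
  rw [show (uG (-(v 1 / v 0)))⁻¹ = uG (v 1 / v 0) from
    inv_eq_of_mul_eq_one_right (by rw [uG_mul, neg_add_cancel, uG_zero])] at hw
  generalize v 1 / v 0 = a at hw
  rw [← w0, hw]
  apply vext <;> simp [u_smul, w1, w2, w3, mul_comm]

end CF.FusG
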