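import Cfsg.Agent.FusG.LA

/-! The linear group: fixed points of the involution of the torus. -/

set_option autoImplicit false
set_option linter.style.haveILetI false
set_option linter.unusedSimpArgs false

namespace CF.FusG

open Subgroup CF.Fus Function Matrix LA

namespace LB

section
variable {K : Type} [Field K] {Γ : Subgroup (GL (Fin 4) K)} {g k k' : GL (Fin 4) K} {a b c d a' b' c' d' : K}
  {v : Fin 4 → K} {p : ℕ}

/-- elements that centralize the involution and whose multiplier is the determinant on the plane -/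
structure K0 (Γ : Subgroup (GL (Fin 4) K)) (k : GL (Fin 4) K) (a b c d : K) : Prop where
  mem : k ∈ Γ
  cm : Commute k (dG (-1) 1)
  ac : ∀ x y : K, k • (![0, x, 0, y] : Fin 4 → K) = ![0, a * x + b * y, 0, c * x + d * y]
  mu : Mu k (a * d - b * c)

theorem K0.mul (h : K0 Γ k a b c d) (h' : K0 Γ k' a' b' c' d') :
    K0 Γ (k * k') (a * a' + b * c') (a * b' + b * d') (c * a' + d * c') (c * b' + d * d') :=
  ⟨mul_mem h.mem h'.mem, h.cm.mul_left h'.cm, fun x y => by
    rw [mul_smul, h'.ac, h.ac]; apply vext <;> simp <;> ring, by convert h.mu.mul h'.mu using 1; ring⟩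

theorem K0.inv (h : K0 Γ k a b c d) :
    K0 Γ k⁻¹ (d / (a * d - b * c)) (-b / (a * d - b * c)) (-c / (a * d - b * c)) (a / (a * d - b * c)) := by
  have := h.mu.ne
  refine ⟨inv_mem h.mem, h.cm.inv_left, fun x y => ?_, ?_⟩
  · rw [inv_smul_eq_iff, h.ac]
    generalize e : a * d - b * c = Δ at this
    apply vext <;> simp <;> field_simp
    exacts [by linear_combination -x * e, by linear_combination -y * e]
  · convert h.mu.inv using 1
    generalize e : a * d - b * c = Δ at this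
    field_simp
    linear_combination e

theorem cm_d (α β : Kˣ) : Commute (dG α β) (dG (-1) 1) := by
  rw [Commute, SemiconjBy, dG_mul, dG_mul, mul_comm α, mul_comm β]

theorem K0.cj (hΓ : Lg p Γ) (h : K0 Γ k a b c d) (α : Kˣ) :
    K0 Γ ((dG α 1)⁻¹ * k * dG α 1) a (b * α ^ 2) (c / α ^ 2) d := by
  have t := hΓ.tor ⟨α, 1, rfl⟩
  refine ⟨mul_mem (mul_mem (inv_mem t) h.mem) t, ((cm_d α 1).inv_left.mul_left h.cm).mul_left (cm_d α 1),
    fun x y => ?_, ?_⟩
  · rw [mul_smul, mul_smul, inv_smul_eq_iff, d_smul]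
    simp only [cons_val_zero, cons_val_one, cons_val, mul_zero, h.ac, d_smul]
    apply vext <;> simp <;> field_simp
  · convert (mu_d α 1).conj h.mu using 1
    field_simp

theorem k0_sc (hΓ : Lg p Γ) (β : Kˣ) : K0 Γ (dG 1 β) β 0 0 β :=
  ⟨hΓ.tor ⟨1, β, rfl⟩, cm_d 1 β, fun x y => by simp [d_one], by simpa [sq] using mu_d 1 β⟩

theorem K0.om (h : K0 Γ k a b c d) : Om Γ ![0, b, 0, d] := 
  ⟨k, h.mem, show k • (![0, 0, 0, 1] : Fin 4 → K) = _ by simpa using h.ac 0 1⟩

theorem plane (h2 : (2 : K) ≠ 0) (e : dG (-1 : Kˣ) 1 • v = -v) : v = ![0, v 1, 0, v 3] := by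
  have e0 := congrFun e 0
  have e2 := congrFun e 2
  simp [d_smul] at e0 e2
  exact vext (mul_left_cancel₀ h2 (show 2 * v 0 = 2 * 0 by linear_combination e0)) rfl
    (mul_left_cancel₀ h2 (show 2 * v 2 = 2 * 0 by linear_combination e2)) rfl

theorem half (h2 : (2 : K) ≠ 0) {β : Kˣ} (e : g⁻¹ * dG (-1) 1 * g = uG a * dG (-1) β) :
    dG (-1) 1 * (g * uG (a / 2)) = g * uG (a / 2) * dG (-1) β := by
  rw [mul_assoc, inv_mul_eq_iff_eq_mul] at e
  rw [← mul_assoc, e, mul_assoc, mul_assoc, mul_assoc, d_u, ← mul_assoc (uG a), uG_mul]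
  congr 3
  simp
  field_simp
  ring

end

variable {K : Type} [Field K] [Finite K] {p : ℕ} [Fact p.Prime] [CharP K p] {Γ : Subgroup (GL (Fin 4) K)}
  {g k k' : GL (Fin 4) K} {a b c d a' b' c' d' x y : K}
  (h : Lg p Γ) (h2 : (2 : K) ≠ 0) (h3 : (3 : K) ≠ 0) (h9 : 9 ≤ Nat.card K)
include h h2 h3 h9

theorem K0.sc (z : K0 Γ k a 0 c d) : ∃ β, k = dG 1 β := by
  obtain ⟨t, α, β, rfl⟩ := h.st h3 (.inr (by omega)) z.mem (l := d)
    (show k • (![0, 0, 0, 1] : Fin 4 → K) = _ by simpa using z.ac 0 1)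
  obtain rfl : t = 0 := by
    have := congrFun (congrArg (· • (![1, 0, 0, 0] : Fin 4 → K)) z.cm.eq) 1
    simp only [mul_smul, u_smul, d_smul] at this
    simp at this
    exact mul_left_cancel₀ (mul_ne_zero h2 β.ne_zero) (by linear_combination this)
  have q := z.mu.uniq (mu_ud 0 α β)
  have q1 := congrFun (z.ac 1 0) 1
  have q2 := congrFun (z.ac 0 1) 3
  simp [mul_smul, u_smul, d_smul] at q1 q2
  obtain rfl : α = 1 := Units.ext (mul_left_cancel₀ (mul_ne_zero (pow_ne_zero 3 α.ne_zero) (pow_ne_zero 2 β.ne_zero))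
    (by rw [← q1, ← q2] at q; rw [Units.val_one]; linear_combination q))
  exact ⟨β, by rw [uG_zero, one_mul]⟩

theorem K0.reg (z : K0 Γ k a b c d) (z' : K0 Γ k' a' b' c' d') (e : b * d' = b' * d) : a * d' = a' * d := by
  have n := z.mu.ne
  have w := z.inv.mul z'
  rw [show d / (a * d - b * c) * b' + -b / (a * d - b * c) * d' = 0 by linear_combination -(a * d - b * c)⁻¹ * e] at w
  obtain ⟨β, q⟩ := w.sc h h2 h3 h9
  rw [inv_mul_eq_iff_eq_mul] at q
  have q1 := congrFun (z'.ac 1 0) 1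
  have q2 := congrFun (z'.ac 0 1) 3
  rw [q, mul_smul, d_one, sm, z.ac] at q1 q2
  simp at q1 q2
  rw [← q1, ← q2]
  ring

theorem exists_k0 (o : Om Γ ![0, x, 0, y]) : ∃ k a c, K0 Γ k a x c y := by
  obtain ⟨g, hg, e⟩ := id o
  change g • (![0, 0, 0, 1] : Fin 4 → K) = _ at e
  obtain ⟨t, γ, δ, q, q1, q2, q3⟩ := eig h h3 (.inr (by omega)) hg (h.tor ⟨-1, 1, rfl⟩) (l := -1)
    (by simp [e, d_smul]; norm_num) (mu_d (-1) 1)
  obtain rfl : δ = 1 := Units.ext (by norm_num at q2; simpa using q2)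
  obtain rfl : γ = -1 := Units.ext (mul_left_cancel₀ γ.ne_zero (by
    rw [tr_d] at q3; simp at q1 q3 ⊢; linear_combination -q3 - q1))
  have cm : Commute (g * uG (t / 2)) (dG (-1) 1) := (half h2 q).symm
  have hk := mul_mem hg (h.syl.le ⟨t / 2, rfl⟩)
  replace e : (g * uG (t / 2)) • (![0, 0, 0, 1] : Fin 4 → K) = ![0, x, 0, y] := by simp [mul_smul, u_smul, e]
  generalize g * uG (t / 2) = k at cm hk e
  obtain ⟨a, c, f⟩ : ∃ a c, k • (![0, 1, 0, 0] : Fin 4 → K) = ![0, a, 0, c] := ⟨_, _, plane h2 (by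
    rw [← mul_smul, ← cm.eq, mul_smul, ← smul_neg]; congr 1; apply vext <;> simp [d_smul])⟩
  have ac : ∀ s t : K, k • (![0, s, 0, t] : Fin 4 → K) = ![0, a * s + x * t, 0, c * s + y * t] := fun s t => by
    rw [dec, e, f]
    simp [mul_comm]
  have n : a * y - x * c ≠ 0 := fun z => by
    have z1 := ac y (-c)
    have z2 := ac (-x) a
    rw [show (![0, a * y + x * -c, 0, c * y + y * -c] : Fin 4 → K) = 0 from
      vext rfl (by simpa [sub_eq_add_neg] using z) rfl (by simp [mul_comm]), smul_eq_zero_iff_eq] at z1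
    rw [show (![0, a * -x + x * a, 0, c * -x + y * a] : Fin 4 → K) = 0 from
      vext rfl (by simp [mul_comm]) rfl (by simp; linear_combination z), smul_eq_zero_iff_eq] at z2
    exact om_ne o (vext rfl (by simpa using congrFun z2 1) rfl (congrFun z1 1))
  obtain ⟨μ, m⟩ := mu h hk
  obtain ⟨α, e⟩ : ∃ α : Kˣ, α * (a * y - x * c) = μ :=
    ⟨Units.mk0 (μ / (a * y - x * c)) (div_ne_zero m.ne n), div_mul_cancel₀ _ n⟩
  refine ⟨k * dG α (α ^ 3)⁻¹, a / α ^ 2, c / α ^ 2, mul_mem hk (h.tor ⟨_, _, rfl⟩), cm.mul_left (cm_d _ _),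
    fun s t => ?_, ?_⟩
  · rw [mul_smul, d_smul]
    simp only [cons_val_zero, cons_val_one, cons_val, mul_zero, ac]
    apply vext <;> simp <;> field_simp
  · convert m.mul (mu_d α (α ^ 3)⁻¹) using 1
    simp [← e]
    field_simp

theorem K0.uni (z : K0 Γ k a b 0 a) : b = 0 := by
  have a0 : a ≠ 0 := fun e => z.mu.ne (by simp [e])
  have w := z.mul (k0_sc h (Units.mk0 a a0)⁻¹)
  simp only [Units.val_inv_eq_inv_val, Units.val_mk0, mul_zero, zero_mul, add_zero, zero_add, mul_inv_cancel₀ a0] at w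
  generalize k * dG 1 (Units.mk0 a a0)⁻¹ = k at w
  have pw : ∀ n : ℕ, K0 Γ (k ^ n) 1 (n * (b * a⁻¹)) 0 1 := fun n => by
    induction n with
    | zero => simpa [dG_one] using k0_sc h 1
    | succ n ih => convert ih.mul w using 1 <;> simp [pow_succ, add_mul, add_comm]
  have q := pw p
  rw [CharP.cast_eq_zero, zero_mul] at q
  obtain ⟨β, e⟩ := q.sc h h2 h3 h9
  obtain rfl : β = 1 := Units.ext (by simpa [e, d_one] using congrFun (q.ac 0 1) 3)
  obtain ⟨g, hg, t, e'⟩ := h.syl.exists_conj_elt w.mem (k := 1) (by rw [pow_one, e, dG_one])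
  by_cases t0 : t = 0
  · rw [t0, uG_zero, mul_inv_eq_one, mul_eq_left] at e'
    simpa [e', a0] using congrFun (w.ac 0 1) 1
  have f : uG t • g • (![0, 1, 0, 0] : Fin 4 → K) = g • ![0, 1, 0, 0] := by
    rw [← e', mul_smul, mul_smul, inv_smul_smul, w.ac]
    simp
  have n : g • (![0, 1, 0, 0] : Fin 4 → K) ≠ 0 := fun c => by
    simpa using congrFun ((smul_eq_zero_iff_eq g).1 c) 1
  refine ((h.ne23 h3 (by omega) (by omega)).1 ?_).elim
  rw [← inv_smul_smul g (![0, 1, 0, 0] : Fin 4 → K)]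
  refine om_smul (inv_mem hg) ?_
  generalize g • (![0, 1, 0, 0] : Fin 4 → K) = v at f n
  have f0 : v 0 = 0 := by simpa [u_smul, t0] using congrFun f 1
  have f1 : v 1 = 0 := by simpa [u_smul, t0, f0, h2] using congrFun f 2
  have f2 : v 2 = 0 := by simpa [u_smul, t0, f0, f1, h3] using congrFun f 3
  convert om_sc h (fun c => n (vext f0 f1 f2 c)) om_e4 using 1
  apply vext <;> simp [f0, f1, f2]

theorem fix1 (o : Om Γ ![0, x, 0, y]) : x = 0 := by
  by_contra x0
  have n2 := (h.ne23 h3 (by omega) (by omega)).1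
  have ne : ∀ s t : K, Om Γ ![0, s, 0, t] → t ≠ 0 := fun s t o e => n2 (by
    have : s ≠ 0 := fun c => om_ne o (vext rfl c rfl e)
    simpa [this, e] using om_sc h (inv_ne_zero this) o)
  have y0 := ne _ _ o
  obtain ⟨k, a, c, z⟩ := exists_k0 h h2 h3 h9 o
  have n := z.mu.ne
  obtain ⟨α, hα⟩ := IsCyclic.exists_generator (α := Kˣ)
  have pw : ∀ n : ℕ, n ≠ 0 → n ≤ 6 → (α : K) ^ n ≠ 1 := fun n n0 n6 e => pow_ne_one_of_lt_orderOf n0
    (by rw [orderOf_eq_card_of_forall_mem_zpowers hα, Nat.card_units]; omega) (Units.ext (by simpa using e))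
  have par : ∀ s t : K, s ≠ 0 → t ≠ 0 → ∃ γ : Kˣ, x * γ ^ 2 * t = s * y ∨ x * α * γ ^ 2 * t = s * y := fun s t s0 t0 => by
    obtain ⟨m, e⟩ := mem_powers_iff_mem_zpowers.2 (hα (Units.mk0 (s * y / (x * t)) (by positivity)))
    have e : (α : K) ^ m * (x * t) = s * y := by
      rw [← eq_div_iff (mul_ne_zero x0 t0)]
      simpa using congrArg Units.val e
    obtain ⟨j, rfl | rfl⟩ := m.even_or_odd'
    · exact ⟨α ^ j, .inl (by simp; linear_combination e)⟩
    · exact ⟨α ^ j, .inr (by simp; linear_combination e)⟩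
  have mv : ∀ (s t s' t' : K) (γ : Kˣ), Om Γ ![0, s, 0, t] → t' ≠ 0 → s * γ ^ 2 * t' = s' * t →
      Om Γ ![0, s', 0, t'] := fun s t s' t' γ o t0 e => by
    have := ne _ _ o
    convert om_sc h (div_ne_zero t0 this) (om_d h γ⁻¹ (γ ^ 3) o) using 1
    apply vext <;> simp [d_smul] <;> field_simp
    exact e.symm.trans (by ring)
  by_cases o' : Om Γ ![0, x * α, 0, y]
  · have all : ∀ s t : K, t ≠ 0 → Om Γ ![0, s, 0, t] := fun s t t0 => by
      by_cases s0 : s = 0
      · simpa [s0] using om_sc h t0 om_e4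
      obtain ⟨γ, e | e⟩ := par s t s0 t0
      exacts [mv _ _ _ _ γ o t0 e, mv _ _ _ _ γ o' t0 e]
    obtain rfl : c = 0 := by
      by_contra c0
      refine n2 ?_
      rw [← inv_smul_smul k (![0, 1, 0, 0] : Fin 4 → K), z.ac]
      exact om_smul (inv_mem z.mem) (all _ _ (by simpa))
    obtain rfl : y = a := by
      by_contra e
      obtain ⟨g, a', c', w⟩ := exists_k0 h h2 h3 h9 (all x (y - a) (sub_ne_zero.2 e))
      have n' := w.mu.ne
      have u := (w.inv.mul z).mul w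
      generalize hb : (_ * a + _) * x + _ = b at u
      obtain rfl : b = 0 := by rw [← hb]; field_simp; ring
      obtain ⟨β, q⟩ := u.sc h h2 h3 h9
      rw [mul_assoc, inv_mul_eq_iff_eq_mul] at q
      have : k • (![0, 0, 0, 1] : Fin 4 → K) = (β : K) • ![0, 0, 0, 1] := by
        rw [← smul_inv_smul g (![0, 0, 0, 1] : Fin 4 → K), ← mul_smul, q, mul_smul, d_one, sm]
      exact x0 (by simpa [z.ac] using congrFun this 1)
    exact x0 (z.uni h h2 h3 h9)
  have rat : ∀ k' a' b' c' d', K0 Γ k' a' b' c' d' → b' ≠ 0 → a * d' = a' * y := fun k' a' b' c' d' w b0 => by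
    have d0 := ne _ _ w.om
    obtain ⟨γ, e | e⟩ := par b' d' b0 d0
    · exact (z.cj h γ).reg h h2 h3 h9 w e
    · exact (o' (mv _ _ _ _ γ⁻¹ w.om y0 (by simp; field_simp; linear_combination -e))).elim
  have r1 := rat _ _ _ _ _ z.inv (div_ne_zero (neg_ne_zero.2 x0) n)
  have r2 := fun γ : Kˣ => rat _ _ _ _ _ (z.mul (z.cj h γ))
  have α0 := α.ne_zero
  field_simp at r1
  rcases sq_eq_sq_iff_eq_or_eq_neg.1 r1 with rfl | rfl
  · have r := r2 α (fun e => pw 4 (by omega) (by omega) (by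
      have := mul_left_cancel₀ (mul_ne_zero x0 y0) (show x * a * α ^ 2 = x * a * -1 by linear_combination e)
      linear_combination (α ^ 2 - 1 : K) * this))
    field_simp at r
    obtain rfl : c = 0 := mul_left_cancel₀ (mul_ne_zero x0 (sub_ne_zero.2 (pw 4 (by omega) (by omega))))
      (by linear_combination r)
    exact x0 (z.uni h h2 h3 h9)
  · have r := fun (γ : Kˣ) (q : (γ : K) ^ 2 ≠ 1) => r2 γ fun e =>
      q (mul_left_cancel₀ (mul_ne_zero x0 y0) (by linear_combination -e))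
    have r3 := r α (pw 2 (by omega) (by omega))
    have r4 := r (α ^ 2) (by simpa [← pow_mul] using pw 4 (by omega) (by omega))
    simp only [Units.val_pow_eq_pow_val] at r4
    field_simp at r3 r4
    have c0 : c ≠ 0 := fun e => mul_ne_zero h2 (mul_ne_zero (pow_ne_zero 2 y0) (pow_ne_zero 2 α0))
      (by rw [e] at r3; linear_combination -r3)
    exact mul_ne_zero (mul_ne_zero c0 x0) (mul_ne_zero (sub_ne_zero.2 (pw 2 (by omega) (by omega)))
      (sub_ne_zero.2 (pw 6 (by omega) (by omega)))) (by linear_combination α ^ 2 * r3 - r4)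

end LB

open LB

variable {K : Type} [Field K] [Finite K] {p : ℕ} [Fact p.Prime] [CharP K p] {Γ : Subgroup (GL (Fin 4) K)}

theorem Lg.fix2 (h : Lg p Γ) (h2 : (2 : K) ≠ 0) (h3 : (3 : K) ≠ 0) (h9 : 9 ≤ Nat.card K) :
    (∀ b s, Om Γ ![0, b, 0, s] → b = 0) ∧ ∀ t c, Om Γ ![t, 0, c, 0] → c = 0 := by
  refine ⟨fun _ _ => fix1 h h2 h3 h9, fun x y o => ?_⟩
  obtain ⟨g, hg, e⟩ := id o
  change g • (![0, 0, 0, 1] : Fin 4 → K) = _ at e
  obtain ⟨t, γ, δ, q, q1, q2, q3⟩ := eig h h3 (.inr (by omega)) hg (h.tor ⟨-1, 1, rfl⟩) (l := 1)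
    (by simp [e, d_smul]) (mu_d (-1) 1)
  obtain rfl : δ = -1 := Units.ext (by norm_num at q2; simpa using q2)
  obtain rfl : γ = -1 := Units.ext (mul_left_cancel₀ γ.ne_zero (by
    rw [tr_d] at q3; simp at q1 q3 ⊢; linear_combination q3 + q1))
  have cm := half h2 q
  have hk := mul_mem hg (h.syl.le ⟨t / 2, rfl⟩)
  replace e : (g * uG (t / 2)) • (![0, 0, 0, 1] : Fin 4 → K) = ![x, 0, y, 0] := by simp [mul_smul, u_smul, e]
  generalize g * uG (t / 2) = k at cm hk e
  obtain ⟨α, hα⟩ := exists_pow_ne (K := K) (n := 2) (by omega) (by omega)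
  have o' := om_smul (inv_mem hk) (om_d h α 1 o)
  have f : k • k⁻¹ • dG α 1 • (![x, 0, y, 0] : Fin 4 → K) = _ := smul_inv_smul ..
  have pl : dG (-1 : Kˣ) 1 • k⁻¹ • dG α 1 • (![x, 0, y, 0] : Fin 4 → K) = -(k⁻¹ • dG α 1 • ![x, 0, y, 0]) := by
    have := congrArg (· • k⁻¹ • dG α 1 • (![x, 0, y, 0] : Fin 4 → K)) cm
    simp only [mul_smul, f] at this
    rw [show dG (-1 : Kˣ) 1 • dG α 1 • (![x, 0, y, 0] : Fin 4 → K) = dG α 1 • ![x, 0, y, 0] by simp [d_smul],
      ← inv_smul_eq_iff] at this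
    generalize k⁻¹ • dG α 1 • (![x, 0, y, 0] : Fin 4 → K) = w at this
    conv_rhs => rw [this]
    apply vext <;> simp [d_smul]
  generalize k⁻¹ • dG α 1 • (![x, 0, y, 0] : Fin 4 → K) = w at o' f pl
  rw [plane h2 pl] at o' f
  rw [fix1 h h2 h3 h9 o', show (![0, 0, 0, w 3] : Fin 4 → K) = w 3 • ![0, 0, 0, 1] by simp, sm, e] at f
  have f0 := congrFun f 0
  have f2 := congrFun f 2
  simp [d_smul] at f0 f2
  by_contra y0
  by_cases x0 : x = 0
  · exact (h.ne23 h3 (by omega) (by omega)).2 (by simpa [x0, y0] using om_sc h (inv_ne_zero y0) o)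
  · exact hα (Units.ext (by
      rw [mul_right_cancel₀ x0 (f0.trans (one_mul x).symm)] at f2
      exact (f2.resolve_right y0).symm))

end CF.FusG
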