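import Cfsg.Agent.FusG.LB

/-! The linear group: the centralizer of a diagonal element of order three. -/

set_option autoImplicit false
set_option linter.style.haveILetI false
set_option linter.unusedSimpArgs false

namespace CF.FusG

open Cfsg Cfsg.FusionSystem Subgroup CF.Fus CF.FusD CF.FusU Function Gu Matrix

variable {K : Type} [Field K] [Finite K] {p : ℕ} [Fact p.Prime] [CharP K p]
  {Γ : Subgroup (GL (Fin 4) K)}

namespace LC

theorem fpf {G : Type*} [Group G] [Finite G] (H : Subgroup G) {i : G} (hi : i * i = 1)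
    (hn : ∀ k ∈ H, i * k * i ∈ H) (hf : ∀ k ∈ H, i * k * i = k → k = 1) :
    (∀ k ∈ H, k * (i * k * i) = 1) ∧ ∀ k ∈ H, ∀ l ∈ H, k * l = l * k := by
  let φ : H →* H := MonoidHom.mk' (fun k => ⟨i * k * i, hn _ k.2⟩) fun a b => Subtype.ext (by
    show i * (a * b) * i = i * a * i * (i * b * i)
    calc i * (a * b) * i = i * a * (i * i) * b * i := by rw [hi]; group
      _ = _ := by group)
  have h1 : MonoidHom.FixedPointFree φ := fun k e => Subtype.ext (hf _ k.2 (congrArg Subtype.val e))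
  have h2 : Involutive φ := fun k => Subtype.ext (by
    show i * (i * k * i) * i = k
    calc i * (i * k * i) * i = (i * i) * k * (i * i) := by group
      _ = _ := by rw [hi]; group)
  refine ⟨fun k hk => ?_, fun k hk l hl => congrArg Subtype.val (h1.commute_all_of_involutive h2 ⟨k, hk⟩ ⟨l, hl⟩).eq⟩
  have e : i * k * i = k⁻¹ := congrArg Subtype.val (congrFun (h1.coe_eq_inv_of_involutive h2) ⟨k, hk⟩)
  rw [e, mul_inv_cancel]

omit [Finite K] [Fact p.Prime] [CharP K p] in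
theorem uG_mem (h : Lg p Γ) (a : K) : uG a ∈ Γ := h.syl.le ⟨a, rfl⟩
omit [Finite K] [Fact p.Prime] [CharP K p] in
theorem dG_mem (h : Lg p Γ) (α β : Kˣ) : dG α β ∈ Γ := h.tor ⟨α, β, rfl⟩

omit [Finite K] in
theorem uG_mul (a b : K) : uG a * uG b = uG (a + b) := Units.ext (uM_mul a b)
omit [Finite K] in
theorem uG_zero : uG (0 : K) = 1 := Units.ext uM_zero
omit [Finite K] in
theorem dG_mul (α β γ δ : Kˣ) : dG α β * dG γ δ = dG (α * γ) (β * δ) := Units.ext (dM_mul ..)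
omit [Finite K] in
theorem dG_one : dG (1 : Kˣ) 1 = 1 := Units.ext dM_one
omit [Finite K] in
theorem dG_uG (α β : Kˣ) (a : K) : dG α β * uG a = uG (α * a) * dG α β := Units.ext (by
  ext i j; fin_cases i <;> fin_cases j <;> simp [uM, dM, Matrix.mul_apply, Fin.sum_univ_four] <;> ring)
omit [Finite K] in
theorem uG_inv (a : K) : (uG a)⁻¹ = uG (-a) := Units.ext rfl
omit [Finite K] in
theorem dG_inv (α β : Kˣ) : (dG α β)⁻¹ = dG α⁻¹ β⁻¹ := Units.ext rfl

omit [Finite K] in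
theorem cj_form {α : Kˣ} (h : α ≠ 1) (β : Kˣ) (a : K) : ∃ x, uG a * dG α β = uG x * dG α β * uG (-x) := by
  have h1 : (1 : K) - α ≠ 0 := sub_ne_zero.2 fun e => h (Units.ext e.symm)
  refine ⟨a / (1 - α), ?_⟩
  rw [mul_assoc, dG_uG, ← mul_assoc, uG_mul]
  congr 2
  field_simp
  ring

omit [Finite K] in
theorem ne0 (g : GL (Fin 4) K) {v : Fin 4 → K} (h : g.1 *ᵥ v = 0) : v = 0 := by
  have e := congrArg (fun w => (g⁻¹).1 *ᵥ w) h
  simpa only [mulVec_mulVec, ← Units.val_mul, inv_mul_cancel, Units.val_one, one_mulVec, mulVec_zero] using e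

omit [Finite K] in
theorem iv {g : GL (Fin 4) K} {v w : Fin 4 → K} (e : g.1 *ᵥ v = w) : (g⁻¹).1 *ᵥ w = v := by
  rw [← e, mulVec_mulVec, Units.inv_mul, one_mulVec]

theorem ex_pow {n : ℕ} (h0 : n ≠ 0) (h : n + 1 < Nat.card K) : ∃ α : Kˣ, (α : K) ^ n ≠ 1 := by
  obtain ⟨α, e⟩ := exists_pow_ne_one_of_isCyclic (G := Kˣ) h0 (by rw [Nat.card_units]; omega)
  exact ⟨α, fun e' => e (Units.ext (by simpa using e'))⟩

/-- a block on the first and the last base vector -/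
def bk (a b c e : K) : Matrix (Fin 4) (Fin 4) K := !![a, 0, 0, b; 0, 1, 0, 0; 0, 0, 1, 0; c, 0, 0, e]

omit [Finite K] in
theorem bk_mul (a b c e a' b' c' e' : K) : bk a b c e * bk a' b' c' e' =
    bk (a * a' + b * c') (a * b' + b * e') (c * a' + e * c') (c * b' + e * e') := by
  ext i j; fin_cases i <;> fin_cases j <;> simp [bk, Matrix.mul_apply, Fin.sum_univ_four]
omit [Finite K] in
theorem bk_one : bk (1 : K) 0 0 1 = 1 := by ext i j; fin_cases i <;> fin_cases j <;> simp [bk]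
omit [Finite K] in
theorem bk_inj {a b c e a' b' c' e' : K} (h : bk a b c e = bk a' b' c' e') : a = a' ∧ b = b' ∧ c = c' ∧ e = e' :=
  ⟨congrFun (congrFun h 0) 0, congrFun (congrFun h 0) 3, congrFun (congrFun h 3) 0, congrFun (congrFun h 3) 3⟩
omit [Finite K] in
theorem bk_cj (α γ : K) (h : α * γ = 1) (a b c e : K) :
    dM α 1 * bk a b c e * dM γ 1 = bk a (b * γ ^ 3) (c * α ^ 3) e := by
  ext i j; fin_cases i <;> fin_cases j <;> simp [bk, dM, Matrix.mul_apply, Fin.sum_univ_four] <;>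
    first | exact h | ring1 | (rw [← mul_pow, h, one_pow]; done) | linear_combination e * (α ^ 2 * γ ^ 2 + α * γ + 1) * h
omit [Finite K] in
theorem bk_pow (b : K) (n : ℕ) : bk 1 b 0 1 ^ n = bk 1 (n * b) 0 1 := by
  induction n with
  | zero => simp [bk_one]
  | succ n ih => rw [pow_succ, ih, bk_mul]; congr 1 <;> push_cast <;> ring

/-- the elements which fix the second and the third base vector and the span of the other two -/
def K0 (Γ : Subgroup (GL (Fin 4) K)) : Subgroup (GL (Fin 4) K) where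
  carrier := {k | k ∈ Γ ∧ k.1 * bk 0 0 0 0 = bk 0 0 0 0 ∧ bk 0 0 0 0 * k.1 = bk 0 0 0 0}
  one_mem' := ⟨one_mem _, by simp, by simp⟩
  mul_mem' := by
    rintro a b ⟨a1, a2, a3⟩ ⟨b1, b2, b3⟩
    exact ⟨mul_mem a1 b1, by rw [Units.val_mul, mul_assoc, b2, a2], by rw [Units.val_mul, ← mul_assoc, a3, b3]⟩
  inv_mem' := by
    rintro a ⟨a1, a2, a3⟩
    refine ⟨inv_mem a1, ?_, ?_⟩
    · conv_lhs => rw [← a2, ← mul_assoc, Units.inv_mul, one_mul]
    · conv_lhs => rw [← a3, mul_assoc, Units.mul_inv, mul_one]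

omit [Finite K] in
theorem mem_K0 {k : GL (Fin 4) K} : k ∈ K0 Γ ↔ k ∈ Γ ∧ ∃ a b c e, k.1 = bk a b c e := by
  refine and_congr_right fun _ => ⟨fun ⟨h1, h2⟩ => ⟨k.1 0 0, k.1 0 3, k.1 3 0, k.1 3 3, ?_⟩, ?_⟩
  · have a := fun i j => congrFun (congrFun h1 i) j
    have b := fun i j => congrFun (congrFun h2 i) j
    simp only [Fin.forall_fin_succ, bk, Matrix.mul_apply, Fin.sum_univ_four] at a b
    simp at a b
    ext i j; fin_cases i <;> fin_cases j <;> simp [bk, a, b]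
  · rintro ⟨a, b, c, e, h⟩
    rw [h, bk_mul, bk_mul]; simp

theorem k0 (h : Lg p Γ) (h2 : (2 : K) ≠ 0) (h3 : (3 : K) ≠ 0) (h9 : 9 ≤ Nat.card K) {k : GL (Fin 4) K}
    (hk : k ∈ Γ) {a b c e : K} (ek : k.1 = bk a b c e) : b = 0 := by
  have cj : ∀ (α γ : Kˣ), α * γ = 1 → ∀ k : GL (Fin 4) K, ∀ a b c e, k.1 = bk a b c e →
      (dG α 1 * k * dG γ 1).1 = bk a (b * γ ^ 3) (c * α ^ 3) e := fun α γ hh k a b c e ek => by
    rw [Units.val_mul, Units.val_mul, ek]
    exact bk_cj _ _ (by rw [← Units.val_mul, hh, Units.val_one]) ..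
  have cm : ∀ (α γ : Kˣ), α * γ = 1 → ∀ k ∈ K0 Γ, dG α 1 * k * dG γ 1 ∈ K0 Γ := fun α γ hh k hk => by
    obtain ⟨h1, a, b, c, e, ek⟩ := mem_K0.1 hk
    exact mem_K0.2 ⟨mul_mem (mul_mem (dG_mem h ..) h1) (dG_mem h ..), _, _, _, _, cj α γ hh k a b c e ek⟩
  obtain ⟨f1, f2⟩ := fpf (K0 Γ) (i := dG (-1) 1) (by rw [dG_mul]; simp [dG_one]) (cm _ _ (by simp)) fun k hk e => by
    obtain ⟨h1, a, b, c, d, ek⟩ := mem_K0.1 hk
    have e1 := cj (-1) (-1) (by simp) k a b c d ek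
    rw [e, ek] at e1
    have hb : b = 0 := by
      have := (bk_inj e1).2.1
      simp only [Units.val_neg, Units.val_one] at this
      exact (mul_eq_zero.1 (by linear_combination this : 2 * b = 0)).resolve_left h2
    obtain ⟨x, α, β, ex⟩ := h.st h3 (Or.inr (by omega)) h1 (l := d) (by
      rw [ek, hb]; ext i; fin_cases i <;> simp [bk, mulVec, dotProduct, Fin.sum_univ_four])
    have m := fun i j => congrFun (congrFun (ek.symm.trans (congrArg Units.val ex)) i) j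
    have m11 := m 1 1
    have m22 := m 2 2
    have m21 := m 2 1
    simp [bk, uM, dM, Matrix.mul_apply, Fin.sum_univ_four, h2] at m11 m22 m21
    have hα : (α : K) = 1 := by linear_combination (α : K) * m11 - m22
    have hβ : (β : K) = 1 := by rw [hα] at m11; linear_combination -m11
    rw [ex, m21, show α = 1 from Units.ext hα, show β = 1 from Units.ext hβ, uG_zero, one_mul]; exact dG_one
  by_contra hb
  have hk0 : k ∈ K0 Γ := mem_K0.2 ⟨hk, _, _, _, _, ek⟩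
  have e1 := congrArg Units.val (f1 k hk0)
  rw [Units.val_mul, cj _ _ (by simp) k a b c e ek, ek, bk_mul, Units.val_one, ← bk_one] at e1
  obtain ⟨α, hα⟩ := ex_pow (K := K) (n := 6) (by norm_num) (by omega)
  have e2 := congrArg Units.val (f2 k hk0 _ (cm α α⁻¹ (by simp) k hk0))
  rw [Units.val_mul k, Units.val_mul _ k, cj _ _ (by simp) k a b c e ek, ek, bk_mul, bk_mul] at e2
  have a1 := (bk_inj e1).1
  have a2 := (bk_inj e1).2.1
  have a3 := (bk_inj e2).1
  simp only [Units.val_neg, Units.val_one] at a1 a2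
  have hi : (α : K) * (α⁻¹ : Kˣ) = 1 := α.mul_inv
  have hc : c = 0 := by
    have : b * c * ((α : K) ^ 6 - 1) = 0 := by
      linear_combination (α : K) ^ 3 * a3 + b * c * (((α : K) * (α⁻¹ : Kˣ)) ^ 2 + α * (α⁻¹ : Kˣ) + 1) * hi
    exact (mul_eq_zero.1 ((mul_eq_zero.1 this).resolve_right (sub_ne_zero.2 hα))).resolve_left hb
  have he : e = a := mul_left_cancel₀ hb (by linear_combination a2)
  subst hc he
  have er : (k * k).1 = bk 1 (2 * e * b) 0 1 := by
    rw [Units.val_mul, ek, bk_mul]; congr 1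
    · linear_combination a1
    · ring
    · ring
    · linear_combination a1
  obtain ⟨y, -, x, ex⟩ := h.syl.exists_conj_elt (mul_mem hk hk) (k := 1) (Units.ext (by
    rw [Units.val_pow_eq_pow_val, er, bk_pow, pow_one, CharP.cast_eq_zero, zero_mul, bk_one, Units.val_one]))
  have s1 : uM x - 1 = y.1 * (bk 1 (2 * e * b) 0 1 - 1) * (y⁻¹).1 := by
    rw [mul_sub, sub_mul, mul_one, Units.mul_inv, ← er, ← Units.val_mul, ← Units.val_mul, ex]; rfl
  have s2 : (bk 1 (2 * e * b) 0 1 - 1) * (bk 1 (2 * e * b) 0 1 - 1) = 0 := by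
    ext i j; fin_cases i <;> fin_cases j <;> simp [bk, Matrix.mul_apply, Fin.sum_univ_four, Matrix.one_apply]
  have s3 : (uM x - 1) * (uM x - 1) = 0 := by
    rw [s1, mul_assoc, mul_assoc, ← mul_assoc (y⁻¹).1, ← mul_assoc (y⁻¹).1, Units.inv_mul, one_mul,
      ← mul_assoc _ _ (y⁻¹).1, s2, zero_mul, mul_zero]
  have s4 := congrFun (congrFun s3 2) 0
  simp [uM, Matrix.mul_apply, Fin.sum_univ_four, Matrix.one_apply, h2] at s4
  rw [s4, uG_zero, mul_inv_eq_one, mul_eq_left] at ex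
  rw [ex, Units.val_one, ← bk_one] at er
  have := (bk_inj er).2.1
  have h0 : e ≠ 0 := by rintro rfl; simp at a1
  exact mul_ne_zero (mul_ne_zero h2 h0) hb this.symm

theorem cen (h : Lg p Γ) (h2 : (2 : K) ≠ 0) (h3 : (3 : K) ≠ 0) (h9 : 9 ≤ Nat.card K) {ω : Kˣ}
    (hω : (ω : K) ^ 2 + ω + 1 = 0) {g : GL (Fin 4) K} (hg : g ∈ Γ) (e : g * dG ω 1 = dG ω 1 * g) :
    ∃ l, g.1 *ᵥ ![0, 0, 0, 1] = ![0, 0, 0, l] := by
  have w3 : (ω : K) ^ 3 = 1 := by linear_combination ((ω : K) - 1) * hω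
  have w1 : (ω : K) - 1 ≠ 0 := fun e => h3 (by linear_combination hω - ((ω : K) + 2) * e)
  have w2 : (ω : K) ^ 2 - 1 ≠ 0 := fun e => w1 (by linear_combination w3 - (ω : K) * e)
  have w4 : (ω : K) ^ 2 - ω ≠ 0 := fun e => w1 (by linear_combination (ω : K) ^ 2 * e - ((ω : K) - 1) * w3)
  have e' : g.1 * dM (ω : K) 1 = dM (ω : K) 1 * g.1 := congrArg Units.val e
  have m : ∀ i j, g.1 i j * (![1, (ω : K), (ω : K) ^ 2, 1] j - ![1, (ω : K), (ω : K) ^ 2, 1] i) = 0 := fun i j => by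
    have := congrFun (congrFun e' i) j
    fin_cases i <;> fin_cases j <;> simp [-mul_eq_zero, dM, Matrix.mul_apply, Fin.sum_univ_four, w3,
      -mul_eq_mul_left_iff, -mul_eq_mul_right_iff] at this ⊢ <;> linear_combination this
  have z : ∀ {x y : K}, y ≠ 0 → x * y = 0 → x = 0 := fun a b => (mul_eq_zero.1 b).resolve_right a
  have m01 := z w1 (m 0 1)
  have m02 := z w2 (m 0 2)
  have m31 := z w1 (m 3 1)
  have m32 := z w2 (m 3 2)
  have m12 := z w4 (m 1 2)
  have m10 := z (sub_ne_zero.2 (sub_ne_zero.1 w1).symm) (m 1 0)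
  have m13 := z (sub_ne_zero.2 (sub_ne_zero.1 w1).symm) (m 1 3)
  have m20 := z (sub_ne_zero.2 (sub_ne_zero.1 w2).symm) (m 2 0)
  have m23 := z (sub_ne_zero.2 (sub_ne_zero.1 w2).symm) (m 2 3)
  have m21 := z (sub_ne_zero.2 (sub_ne_zero.1 w4).symm) (m 2 1)
  have n1 : g.1 1 1 ≠ 0 := fun n => one_ne_zero (congrFun (ne0 g (v := ![0, 1, 0, 0]) (by
    ext i; fin_cases i <;> simp [mulVec, dotProduct, Fin.sum_univ_four, *])) 1)
  have n2 : g.1 2 2 ≠ 0 := fun n => one_ne_zero (congrFun (ne0 g (v := ![0, 0, 1, 0]) (by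
    ext i; fin_cases i <;> simp [mulVec, dotProduct, Fin.sum_univ_four, *])) 2)
  have k := k0 h h2 h3 h9 (mul_mem hg (dG_mem h (Units.mk0 _ (div_ne_zero n1 n2))
    (Units.mk0 _ (div_ne_zero n2 (pow_ne_zero 2 n1))))) (a := g.1 0 0 * (g.1 2 2 / g.1 1 1 ^ 2))
    (b := g.1 0 3 * (g.1 1 1 / g.1 2 2 ^ 2)) (c := g.1 3 0 * (g.1 2 2 / g.1 1 1 ^ 2))
    (e := g.1 3 3 * (g.1 1 1 / g.1 2 2 ^ 2)) (by
      ext i j; fin_cases i <;> fin_cases j <;> simp [bk, dM, Matrix.mul_apply, Fin.sum_univ_four, *] <;>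
        field_simp <;> simp)
  have m03 := z (div_ne_zero n1 (pow_ne_zero 2 n2)) k
  exact ⟨g.1 3 3, by ext i; fin_cases i <;> simp [mulVec, dotProduct, Fin.sum_univ_four, *]⟩

end LC

open LC in
theorem Lg.fix3 (h : Lg p Γ) (h2 : (2 : K) ≠ 0) (h3 : (3 : K) ≠ 0) (h9 : 9 ≤ Nat.card K) {ω : K}
    (hω : ω ^ 2 + ω + 1 = 0) : ∀ t s, Om Γ ![t, 0, 0, s] → t = 0 ∨ s = 0 := by
  rintro t s ⟨g, hg, e⟩
  have w0 : ω ≠ 0 := by rintro rfl; simp at hω
  lift ω to Kˣ using w0.isUnit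
  have w3 : (ω : K) ^ 3 = 1 := by linear_combination ((ω : K) - 1) * hω
  have e0 : (g⁻¹ * dG ω 1 * g).1 *ᵥ ![0, 0, 0, 1] = ![0, 0, 0, 1] := by
    rw [Units.val_mul, Units.val_mul, ← mulVec_mulVec, ← mulVec_mulVec, e, val_dG, dM_mulVec]
    simpa [w3] using iv e
  obtain ⟨a, α, β, ey⟩ := h.st h3 (Or.inr (by omega)) (mul_mem (mul_mem (inv_mem hg) (dG_mem h ω 1)) hg) e0
  have e1 : (α : K) ^ 3 * β = 1 := by
    rw [ey, Units.val_mul, ← mulVec_mulVec, val_dG, val_uG, dM_mulVec, uM_mulVec] at e0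
    simpa using congrFun e0 3
  have d3 : ∀ k : GL (Fin 4) K, k⁻¹ * dG ω 1 * k * (k⁻¹ * dG ω 1 * k) * (k⁻¹ * dG ω 1 * k) = 1 := fun k => by
    calc _ = k⁻¹ * (dG ω 1 * dG ω 1 * dG ω 1) * k := by group
      _ = 1 := by
        rw [dG_mul, dG_mul, show ω * ω * ω = 1 from Units.ext (by simpa [pow_succ] using w3)]; simp [dG_one]
  have hα : α ≠ 1 := by
    rintro rfl
    rw [show β = 1 from Units.ext (by simpa using e1), dG_one, mul_one] at ey
    have y3 := d3 g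
    rw [ey, uG_mul, uG_mul] at y3
    have m : uM (a + a + a) 1 0 = (1 : Matrix (Fin 4) (Fin 4) K) 1 0 := by rw [← val_uG, y3]; rfl
    simp [uM] at m
    rw [(mul_eq_zero.1 (by linear_combination m : 3 * a = 0)).resolve_left h3, uG_zero, mul_eq_one_iff_eq_inv,
      mul_eq_left] at ey
    have m1 : dM (ω : K) (1 : Kˣ) 1 1 = (1 : Matrix (Fin 4) (Fin 4) K) 1 1 := by rw [← val_dG, ey]; rfl
    simp [-Units.val_eq_one, dM] at m1
    exact h3 (by linear_combination hω - ((ω : K) + 2) * m1)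
  obtain ⟨x, ex⟩ := cj_form hα β a
  have ez : (g * uG x)⁻¹ * dG ω 1 * (g * uG x) = dG α β := by
    calc _ = (uG x)⁻¹ * (g⁻¹ * dG ω 1 * g) * uG x := by group
      _ = _ := by rw [ey, ex, ← uG_inv]; group
  have y3 := d3 (g * uG x)
  rw [ez, dG_mul, dG_mul] at y3
  have m : ∀ i, dM ((α * α * α : Kˣ) : K) (β * β * β : Kˣ) i i = (1 : Matrix (Fin 4) (Fin 4) K) i i := fun i => by
    rw [← val_dG, y3]; rfl
  have m0 := m 0
  have m1 := m 1
  simp [dM] at m0 m1
  have a3 : (α : K) ^ 3 = 1 := by linear_combination m1 - (α : K) ^ 3 * m0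
  have b1 : β = 1 := Units.ext (by rw [a3] at e1; simpa using e1)
  subst b1
  have a2 : (α : K) ^ 2 + α + 1 = 0 :=
    (mul_eq_zero.1 (by linear_combination a3 : ((α : K) - 1) * ((α : K) ^ 2 + α + 1) = 0)).resolve_left
      (sub_ne_zero.2 fun e => hα (Units.ext e))
  obtain ⟨γ, hγ⟩ := ex_pow (K := K) (n := 3) (by norm_num) (by omega)
  have e2 : (g * uG x).1 *ᵥ ![0, 0, 0, 1] = ![t, 0, 0, s] := by
    rw [Units.val_mul, ← mulVec_mulVec, val_uG, uM_mulVec]; simpa using e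
  have hg' := mul_mem hg (uG_mem h x)
  generalize g * uG x = k at ez e2 hg'
  obtain ⟨l, el⟩ := cen h h2 h3 h9 a2 (mul_mem (mul_mem (inv_mem hg') (dG_mem h γ 1)) hg') (by
    rw [← ez]
    calc _ = k⁻¹ * (dG γ 1 * dG ω 1) * k := by group
      _ = k⁻¹ * (dG ω 1 * dG γ 1) * k := by rw [dG_mul, dG_mul, mul_comm γ]
      _ = _ := by group)
  rw [Units.val_mul, Units.val_mul, ← mulVec_mulVec, ← mulVec_mulVec, e2, val_dG, dM_mulVec] at el
  have e3 := iv el
  rw [inv_inv, show ![0, 0, 0, l] = l • ![(0 : K), 0, 0, 1] by simp, mulVec_smul, e2] at e3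
  have c0 := congrFun e3 0
  have c3 := congrFun e3 3
  simp [-mul_eq_mul_right_iff] at c0 c3
  by_contra! hn
  exact hγ (mul_right_cancel₀ hn.2 (mul_left_cancel₀ hn.1 (by linear_combination s * c0 - t * c3)))

end CF.FusG
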