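import Cfsg.Agent.FusG.LC

/-! The linear group: counting involutions. -/

set_option autoImplicit false
set_option linter.style.haveILetI false
set_option linter.unusedSimpArgs false

namespace CF.FusG

open Cfsg Cfsg.FusionSystem Subgroup CF.Fus CF.FusD CF.FusU Function Gu Matrix

variable {K : Type} [Field K] [Finite K] {p : ℕ} [Fact p.Prime] [CharP K p]
  {Γ : Subgroup (GL (Fin 4) K)}

namespace LD

open LC

/-- the vectors on the twisted cubic -/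
def Gd (v : Fin 4 → K) : Prop := v 0 = 0 ∧ v 1 = 0 ∧ v 2 = 0 ∨ ∃ a, v = v 0 • ![1, a, a ^ 2, a ^ 3]

omit [Finite K] in
theorem Gd.u {v : Fin 4 → K} (h : Gd v) (x : K) : Gd (uM x *ᵥ v) := by
  rw [uM_mulVec]
  rcases h with ⟨a, b, c⟩ | ⟨a, e⟩
  · left; simp [a, b, c]
  · right
    have e1 := congrFun e 1
    have e2 := congrFun e 2
    have e3 := congrFun e 3
    simp at e1 e2 e3
    exact ⟨a + x, by ext i; fin_cases i <;> simp [e1, e2, e3] <;> ring⟩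

omit [Finite K] in
theorem om_mul {v : Fin 4 → K} {g : GL (Fin 4) K} (hg : g ∈ Γ) (h : Om Γ v) : Om Γ (g.1 *ᵥ v) := by
  obtain ⟨k, hk, rfl⟩ := h
  exact ⟨_, mul_mem hg hk, by rw [Units.val_mul, mulVec_mulVec]⟩

omit [Finite K] in
theorem eta (v : Fin 4 → K) : v = ![v 0, v 1, v 2, v 3] := by ext i; fin_cases i <;> rfl

theorem key (h : Lg p Γ) (h2 : (2 : K) ≠ 0) (h3 : (3 : K) ≠ 0) (h9 : 9 ≤ Nat.card K) {w : Fin 4 → K} (hw : Om Γ w)
    (bad : ¬ Gd w) {a c : K} {α β : Kˣ} (e : (uG a * dG α β).1 *ᵥ w = c • w) : a = 0 ∧ α = 1 := by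
  have b0 := β.ne_zero
  by_cases hα : α = 1
  · refine ⟨by_contra fun ha => bad (Or.inl ?_), hα⟩
    subst hα
    rw [Units.val_mul, ← mulVec_mulVec, val_dG, val_uG, dM_mulVec, uM_mulVec] at e
    have e0 := congrFun e 0
    have e1 := congrFun e 1
    have e2 := congrFun e 2
    have e3 := congrFun e 3
    simp [-mul_eq_mul_right_iff] at e0 e1 e2 e3
    by_cases hc : (β : K) - c = 0
    · have f0 : w 0 = 0 := (mul_eq_zero.1 (by linear_combination e1 - w 1 * hc : a * β * w 0 = 0)).resolve_left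
        (mul_ne_zero ha b0)
      have f1 : w 1 = 0 := (mul_eq_zero.1 (by linear_combination e2 - w 2 * hc - a ^ 2 * β * f0 :
        2 * a * β * w 1 = 0)).resolve_left (mul_ne_zero (mul_ne_zero h2 ha) b0)
      exact ⟨f0, f1, (mul_eq_zero.1 (by linear_combination e3 - w 3 * hc - a ^ 3 * β * f0 - 3 * a ^ 2 * β * f1 :
        3 * a * β * w 2 = 0)).resolve_left (mul_ne_zero (mul_ne_zero h3 ha) b0)⟩
    · have f0 : w 0 = 0 := (mul_eq_zero.1 (by linear_combination e0 : (β - c) * w 0 = 0)).resolve_left hc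
      have f1 : w 1 = 0 := (mul_eq_zero.1 (by linear_combination e1 - a * β * f0 : (β - c) * w 1 = 0)).resolve_left hc
      exact ⟨f0, f1, (mul_eq_zero.1 (by linear_combination e2 - a ^ 2 * β * f0 - 2 * a * β * f1 :
        (β - c) * w 2 = 0)).resolve_left hc⟩
  exfalso
  obtain ⟨x, ex⟩ := cj_form hα β a
  have hv := om_mul (uG_mem h (-x)) hw
  have ew : w = uM x *ᵥ ((uG (-x)).1 *ᵥ w) := by rw [val_uG, mulVec_mulVec, uM_mul, add_neg_cancel, uM_zero, one_mulVec]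
  rw [ex, Units.val_mul, Units.val_mul, ← mulVec_mulVec, ← mulVec_mulVec] at e
  generalize (uG (-x)).1 *ᵥ w = v at hv ew e
  subst ew
  have e' := (iv e).symm
  rw [← mulVec_smul, ← val_uG, mulVec_mulVec, Units.inv_mul, one_mulVec, val_dG, dM_mulVec] at e'
  have e0 := congrFun e' 0
  have e1 := congrFun e' 1
  have e2 := congrFun e' 2
  have e3 := congrFun e' 3
  simp [-mul_eq_mul_right_iff] at e0 e1 e2 e3
  have a1 : (α : K) - 1 ≠ 0 := sub_ne_zero.2 fun e => hα (Units.ext e)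
  have a0 := α.ne_zero
  refine bad (Gd.u ?_ x)
  have z : ∀ {x y u : K}, u ≠ 0 → y ≠ 0 → u * (x * y) = 0 → x = 0 := fun a b c =>
    (mul_eq_zero.1 ((mul_eq_zero.1 c).resolve_left a)).resolve_right b
  have f1 : v 1 = 0 := by_contra fun n => n ((h.fix2 h2 h3 h9).1 _ (v 3) (by
    rwa [eta v, z (mul_ne_zero a1 b0) n (by linear_combination v 0 * e1 - v 1 * e0 : ((α : K) - 1) * β * (v 0 * v 1) = 0),
      z (mul_ne_zero (mul_ne_zero a1 b0) a0) n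
        (by linear_combination v 1 * e2 - v 2 * e1 : ((α : K) - 1) * β * α * (v 2 * v 1) = 0)] at hv))
  have f2 : v 2 = 0 := by_contra fun n => n ((h.fix2 h2 h3 h9).2 (v 0) _ (by
    rwa [eta v, f1, z (mul_ne_zero (mul_ne_zero a1 b0) (pow_ne_zero 2 a0)) n
        (by linear_combination v 2 * e3 - v 3 * e2 : ((α : K) - 1) * β * α ^ 2 * (v 3 * v 2) = 0)] at hv))
  by_cases f0 : v 0 = 0
  · exact Or.inl ⟨f0, f1, f2⟩
  by_cases f3 : v 3 = 0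
  · exact Or.inr ⟨0, by ext i; fin_cases i <;> simp [f1, f2, f3]⟩
  rw [eta v, f1, f2] at hv
  exact ((h.fix3 h2 h3 h9 (ω := α) (z (mul_ne_zero (mul_ne_zero a1 b0) f0) f3
    (by linear_combination v 0 * e3 - v 3 * e0)) _ _ hv).elim f0 f3).elim

/-- the stabilizer of the line through the last base vector -/
def B0 (K : Type) [Field K] : Subgroup (GL (Fin 4) K) where
  carrier := {g | ∃ l : K, g.1 *ᵥ ![0, 0, 0, 1] = l • ![0, 0, 0, 1]}
  one_mem' := ⟨1, by simp⟩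
  mul_mem' := by
    rintro g k ⟨l, e⟩ ⟨m, f⟩
    exact ⟨m * l, by rw [Units.val_mul, ← mulVec_mulVec, f, mulVec_smul, e, smul_smul]⟩
  inv_mem' := by
    rintro g ⟨l, e⟩
    have h0 : l ≠ 0 := by
      rintro rfl
      simpa using congrFun (ne0 g (e.trans (zero_smul ..))) 3
    refine ⟨l⁻¹, ?_⟩
    conv_rhs => rw [← iv e, mulVec_smul, smul_smul, inv_mul_cancel₀ h0, one_smul]

/-- the points in the orbit -/
abbrev X (Γ : Subgroup (GL (Fin 4) K)) := Γ ⧸ (B0 K).subgroupOf Γ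

theorem st' (h : Lg p Γ) (h3 : (3 : K) ≠ 0) (h9 : 9 ≤ Nat.card K) {g : GL (Fin 4) K} (hg : g ∈ Γ) {l : K}
    (e : g.1 *ᵥ ![0, 0, 0, 1] = l • ![0, 0, 0, 1]) : ∃ (a : K) (α β : Kˣ), g = uG a * dG α β ∧ l = (α : K) ^ 3 * β := by
  obtain ⟨a, α, β, rfl⟩ := h.st h3 (Or.inr (by omega)) hg (l := l) (by simpa using e)
  refine ⟨a, α, β, rfl, ?_⟩
  rw [Units.val_mul, ← mulVec_mulVec, val_dG, val_uG, dM_mulVec, uM_mulVec] at e
  simpa using (congrFun e 3).symm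

theorem many (h : Lg p Γ) (h2 : (2 : K) ≠ 0) (h3 : (3 : K) ≠ 0) (h9 : 9 ≤ Nat.card K) {w : Fin 4 → K} (hw : Om Γ w)
    (bad : ¬ Gd w) : Nat.card (K × Kˣ) ≤ Nat.card (X Γ) := by
  obtain ⟨g, hg, e⟩ := id hw
  refine Nat.card_le_card_of_injective (fun t => ((⟨uG t.1 * dG t.2 1 * g,
    mul_mem (mul_mem (uG_mem h _) (dG_mem h ..)) hg⟩ : Γ) : X Γ)) ?_
  rintro ⟨a, α⟩ ⟨b, β⟩ et
  obtain ⟨l, el⟩ := QuotientGroup.eq.1 et
  have e1 : (uG a * dG α 1 * g)⁻¹ * (uG b * dG β 1 * g) = g⁻¹ * (uG ((α⁻¹ : Kˣ) * (-a + b)) * dG (α⁻¹ * β) 1 * g) := by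
    rw [← mul_one (1 : Kˣ), ← dG_mul, ← mul_assoc (uG _), ← dG_uG, ← uG_mul, ← uG_inv, mul_one, ← inv_one, ← dG_inv,
      inv_one]
    group
  change ((uG a * dG α 1 * g)⁻¹ * (uG b * dG β 1 * g)).1 *ᵥ _ = _ at el
  rw [e1, Units.val_mul, Units.val_mul, ← mulVec_mulVec, ← mulVec_mulVec, e] at el
  have e2 := iv el
  rw [inv_inv, mulVec_smul, e] at e2
  obtain ⟨c1, c2⟩ := key h h2 h3 h9 hw bad e2.symm
  rw [inv_mul_eq_one.1 c2, neg_add_eq_zero.1 ((mul_eq_zero.1 c1).resolve_left (Units.ne_zero _))]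

theorem up (h : Lg p Γ) (h2 : (2 : K) ≠ 0) (h3 : (3 : K) ≠ 0) (h9 : 9 ≤ Nat.card K) :
    ∃ Φ : (K × Kˣ) ⊕ (K × Kˣ) ⊕ (K × Kˣ) ⊕ X Γ ⊕ X Γ → GL (Fin 4) K, ∀ j ∈ Γ, j * j = 1 → ∃ t, Φ t = j := by
  let r : K → GL (Fin 4) K := fun a => Classical.epsilon fun j =>
    j ∈ Γ ∧ j * j = 1 ∧ ∃ t : K, j.1 *ᵥ ![0, 0, 0, 1] = t • ![1, a, a ^ 2, a ^ 3]
  let s : X Γ → Γ := fun x => Classical.epsilon fun j : Γ => j * j = 1 ∧ (j : X Γ) = x
  refine ⟨Sum.elim (fun t => uG t.1 * dG 1 t.2) <| Sum.elim (fun t => uG t.1 * dG (-1) t.2) <|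
    Sum.elim (fun t => uG t.1 * dG (t.2 ^ 2) (t.2⁻¹ ^ 3) * uG (-t.1) * r t.1) <|
      Sum.elim (fun x => (s x).1) fun x => dG 1 (-1) * (s x).1, fun j hj e => ?_⟩
  have sw : ∀ {j : GL (Fin 4) K} {v w : Fin 4 → K}, j * j = 1 → j.1 *ᵥ v = w → j.1 *ᵥ w = v := fun {j v w} a b => by
    rw [← b, mulVec_mulVec, ← Units.val_mul, a, Units.val_one, one_mulVec]
  have n0 : ∀ {j : GL (Fin 4) K} {t : K} {v : Fin 4 → K}, j.1 *ᵥ ![0, 0, 0, 1] = t • v → t ≠ 0 := by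
    rintro j t v b rfl
    simpa using congrFun (ne0 j (b.trans (zero_smul ..))) 3
  by_cases gd : Gd (j.1 *ᵥ ![0, 0, 0, 1])
  · rcases gd with ⟨g0, g1, g2⟩ | ⟨a, ea⟩
    · obtain ⟨a, α, β, rfl⟩ := h.st h3 (Or.inr (by omega)) hj (by rw [eta (j.1 *ᵥ _), g0, g1, g2])
      have m : ∀ i, (uM a * dM (α : K) β * (uM a * dM (α : K) β)) i i = (1 : Matrix (Fin 4) (Fin 4) K) i i :=
        fun i => by rw [← Units.val_one, ← e]; rfl
      have m0 := m 0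
      have m1 := m 1
      simp [uM, dM, Matrix.mul_apply, Fin.sum_univ_four] at m0 m1
      rcases mul_self_eq_one_iff.1 (by linear_combination m1 - (α : K) ^ 2 * m0 : (α : K) * α = 1) with c | c
      · exact ⟨.inl (a, β), by rw [show α = 1 from Units.ext c]; rfl⟩
      · exact ⟨.inr (.inl (a, β)), by rw [show α = -1 from Units.ext c]; rfl⟩
    · obtain ⟨hk, ek, t, et⟩ : r a ∈ Γ ∧ r a * r a = 1 ∧ ∃ t : K, (r a).1 *ᵥ ![0, 0, 0, 1] = t • ![1, a, a ^ 2, a ^ 3] :=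
        Classical.epsilon_spec (p := fun j : GL (Fin 4) K =>
          j ∈ Γ ∧ j * j = 1 ∧ ∃ t : K, j.1 *ᵥ ![0, 0, 0, 1] = t • ![1, a, a ^ 2, a ^ 3]) ⟨j, hj, e, _, ea⟩
      generalize (j.1 *ᵥ ![0, 0, 0, 1]) 0 = u at ea
      have t0 := n0 et
      have u0 := n0 ea
      have f1 := sw ek et
      have f2 := sw e ea
      rw [mulVec_smul] at f1 f2
      have f3 : (r a).1 *ᵥ ![1, a, a ^ 2, a ^ 3] = t⁻¹ • ![0, 0, 0, 1] := by
        rw [← f1, smul_smul, inv_mul_cancel₀ t0, one_smul]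
      have f4 : j.1 *ᵥ ![1, a, a ^ 2, a ^ 3] = u⁻¹ • ![0, 0, 0, 1] := by
        rw [← f2, smul_smul, inv_mul_cancel₀ u0, one_smul]
      have u4 : ∀ x : K, (uG x).1 *ᵥ ![0, 0, 0, 1] = ![0, 0, 0, 1] := fun x => by rw [val_uG, uM_mulVec]; simp
      have u1 : (uG a).1 *ᵥ ![1, 0, 0, 0] = ![1, a, a ^ 2, a ^ 3] := by rw [val_uG, uM_mulVec]; simp
      obtain ⟨b, α, β, ey, el⟩ := st' h h3 h9 (mul_mem (mul_mem (mul_mem (inv_mem (uG_mem h a)) hj) hk) (uG_mem h a))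
        (l := t * u⁻¹) (by
          simp only [Units.val_mul, ← mulVec_mulVec]
          rw [u4, et, mulVec_smul, f4, smul_smul, mulVec_smul, uG_inv, u4])
      have f5 : ((uG a)⁻¹ * j * r a * uG a).1 *ᵥ ![1, 0, 0, 0] = (t⁻¹ * u) • ![1, 0, 0, 0] := by
        simp only [Units.val_mul, ← mulVec_mulVec]
        rw [u1, f3, mulVec_smul, ea, smul_smul, mulVec_smul, iv u1]
      rw [ey, Units.val_mul, ← mulVec_mulVec, val_dG, val_uG, dM_mulVec, uM_mulVec] at f5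
      have c0 := congrFun f5 0
      have c1 := congrFun f5 1
      simp at c0 c1
      have c2 : α ^ 3 * β ^ 2 = 1 := Units.ext (by
        push_cast
        rw [sq, ← mul_assoc, ← el, c0]; field_simp)
      rw [c1, uG_zero, one_mul] at ey
      refine ⟨.inr (.inr (.inl (a, (α * β)⁻¹))), ?_⟩
      show uG a * dG ((α * β)⁻¹ ^ 2) ((α * β)⁻¹⁻¹ ^ 3) * uG (-a) * r a = j
      rw [show (α * β)⁻¹ ^ 2 = α by
          rw [inv_pow, inv_eq_iff_mul_eq_one, ← c2, mul_pow, mul_right_comm, ← pow_succ],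
        show (α * β)⁻¹⁻¹ ^ 3 = β by rw [inv_inv, mul_pow, pow_succ β, ← mul_assoc, c2, one_mul], ← ey, ← uG_inv]
      calc _ = j * (r a * r a) := by group
        _ = j := by rw [ek, mul_one]
  · obtain ⟨ek, ex⟩ : s (⟨j, hj⟩ : Γ) * s (⟨j, hj⟩ : Γ) = 1 ∧ ((s (⟨j, hj⟩ : Γ) : Γ) : X Γ) = (⟨j, hj⟩ : Γ) :=
      Classical.epsilon_spec (p := fun k : Γ => k * k = 1 ∧ (k : X Γ) = (⟨j, hj⟩ : Γ)) ⟨⟨j, hj⟩, Subtype.ext e, rfl⟩
    have gl : ∀ t : Kˣ, t = 1 ∨ t = -1 → j = dG 1 t * (s (⟨j, hj⟩ : Γ)).1 → ∃ t, (Sum.elim (fun t => uG t.1 * dG 1 t.2) <|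
        Sum.elim (fun t => uG t.1 * dG (-1) t.2) <|
        Sum.elim (fun t => uG t.1 * dG (t.2 ^ 2) (t.2⁻¹ ^ 3) * uG (-t.1) * r t.1) <|
        Sum.elim (fun x => (s x).1) fun x => dG 1 (-1) * (s x).1 :
          (K × Kˣ) ⊕ (K × Kˣ) ⊕ (K × Kˣ) ⊕ X Γ ⊕ X Γ → GL (Fin 4) K) t = j := by
      rintro t (rfl | rfl) a
      · exact ⟨.inr (.inr (.inr (.inl (⟨j, hj⟩ : Γ)))), by rw [dG_one, one_mul] at a; exact a.symm⟩
      · exact ⟨.inr (.inr (.inr (.inr (⟨j, hj⟩ : Γ)))), a.symm⟩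
    generalize s (⟨j, hj⟩ : Γ) = k at ek ex gl
    obtain ⟨k, hk⟩ := k
    have ek' : k * k = 1 := congrArg Subtype.val ek
    obtain ⟨l, el⟩ := QuotientGroup.eq.1 ex.symm
    change (j⁻¹ * k).1 *ᵥ _ = _ at el
    rw [inv_eq_of_mul_eq_one_right e] at el
    obtain ⟨a, α, β, ey, c⟩ := st' h h3 h9 (mul_mem hj hk) el
    have l0 := n0 el
    rw [Units.val_mul, ← mulVec_mulVec] at el
    have f1 := sw ek' (sw e el).symm
    rw [mulVec_smul, mulVec_smul] at f1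
    have f2 : (uG a * dG α β).1 *ᵥ (j.1 *ᵥ ![0, 0, 0, 1]) = l⁻¹ • j.1 *ᵥ ![0, 0, 0, 1] := by
      rw [← ey, Units.val_mul, ← mulVec_mulVec, ← mulVec_smul]
      congr 1
      conv_rhs => rw [← f1, smul_smul, inv_mul_cancel₀ l0, one_smul]
    obtain ⟨rfl, rfl⟩ := key h h2 h3 h9 ⟨j, hj, rfl⟩ gd f2
    rw [uG_zero, one_mul] at ey f2
    have f3 : ((β : K) - l⁻¹) • j.1 *ᵥ ![0, 0, 0, 1] = 0 := by
      rw [sub_smul, ← f2, val_dG, dM_mulVec, sub_eq_zero]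
      ext i; fin_cases i <;> simp [-mul_eq_mul_left_iff]
    have f4 : (β : K) - l⁻¹ = 0 := (smul_eq_zero.1 f3).resolve_right fun a => by simpa using congrFun (ne0 j a) 3
    refine gl β ((mul_self_eq_one_iff.1 (?_ : (β : K) * β = 1)).imp Units.ext Units.ext) (by
      rw [← ey]; exact (by rw [mul_assoc, ek', mul_one] : j = j * k * k))
    nth_rw 1 [sub_eq_zero.1 f4]
    rw [c]; simp

theorem low (h : Lg p Γ) (h2 : (2 : K) ≠ 0) (h3 : (3 : K) ≠ 0) (h9 : 9 ≤ Nat.card K) :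
    ∃ L : X Γ × K → GL (Fin 4) K, Injective L ∧ ∀ t, L t ∈ Γ ∧ L t * L t = 1 := by
  have ii : dG (-1 : Kˣ) 1 * dG (-1) 1 = 1 := by rw [dG_mul]; simp [dG_one]
  refine ⟨fun t => t.1.out.1 * uG t.2 * dG (-1) 1 * (t.1.out.1 * uG t.2)⁻¹, ?_, fun t => ⟨?_, ?_⟩⟩
  · rintro ⟨x, a⟩ ⟨y, b⟩ e
    have ec : ((y.out.1 * uG b)⁻¹ * (x.out.1 * uG a) : GL (Fin 4) K) * dG (-1) 1 =
        dG (-1) 1 * ((y.out.1 * uG b)⁻¹ * (x.out.1 * uG a)) := by
      calc _ = (y.out.1 * uG b)⁻¹ * (x.out.1 * uG a * dG (-1) 1 * (x.out.1 * uG a)⁻¹) * (x.out.1 * uG a) := by group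
        _ = _ := by rw [show x.out.1 * uG a * dG (-1) 1 * (x.out.1 * uG a)⁻¹ = _ from e]; group
    have hc := mul_mem (inv_mem (mul_mem y.out.2 (uG_mem h b))) (mul_mem x.out.2 (uG_mem h a))
    have hb : ((y.out.1 * uG b)⁻¹ * (x.out.1 * uG a) : GL (Fin 4) K) ∈ B0 K := by
      generalize ((y.out.1 * uG b)⁻¹ * (x.out.1 * uG a) : GL (Fin 4) K) = c at ec hc
      have e1 := congrArg (fun g : GL (Fin 4) K => g.1 *ᵥ ![0, 0, 0, 1]) ec
      simp only [Units.val_mul, ← mulVec_mulVec, val_dG, dM_mulVec] at e1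
      rw [show ![((1 : Kˣ) : K) * ![0, 0, 0, 1] 0, ((-1 : Kˣ) : K) * (1 : Kˣ) * ![0, 0, 0, 1] 1,
        ((-1 : Kˣ) : K) ^ 2 * (1 : Kˣ) * ![0, 0, 0, 1] 2, ((-1 : Kˣ) : K) ^ 3 * (1 : Kˣ) * ![0, 0, 0, 1] 3] =
          (-1 : K) • ![(0 : K), 0, 0, 1] by ext i; fin_cases i <;> simp <;> norm_num, mulVec_smul] at e1
      have ho : Om Γ (c.1 *ᵥ ![0, 0, 0, 1]) := ⟨c, hc, rfl⟩
      suffices ∃ l : K, c.1 *ᵥ ![0, 0, 0, 1] = l • ![0, 0, 0, 1] from this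
      generalize c.1 *ᵥ ![0, 0, 0, 1] = v at e1 ho
      have c0 := congrFun e1 0
      have c2 := congrFun e1 2
      simp at c0 c2
      have f0 : v 0 = 0 := (mul_eq_zero.1 (by linear_combination -c0 : 2 * v 0 = 0)).resolve_left h2
      have f2 : v 2 = 0 := (mul_eq_zero.1 (by linear_combination -c2 : 2 * v 2 = 0)).resolve_left h2
      have f1 := (h.fix2 h2 h3 h9).1 (v 1) (v 3) (by rwa [eta v, f0, f2] at ho)
      exact ⟨v 3, by ext i; fin_cases i <;> simp [f0, f1, f2]⟩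
    have ub : ∀ x : K, uG x ∈ B0 K := fun x => ⟨1, by rw [val_uG, uM_mulVec]; simp⟩
    have exy : y = x := by
      rw [← y.out_eq, ← x.out_eq]
      refine QuotientGroup.eq.2 ?_
      have := mul_mem (mul_mem (ub b) hb) (inv_mem (ub a))
      rw [mem_subgroupOf]
      convert this using 1
      push_cast
      group
    subst exy
    rw [show ((y.out.1 * uG b)⁻¹ * (y.out.1 * uG a) : GL (Fin 4) K) = uG (-b + a) by
      rw [← uG_mul, ← uG_inv]; group, dG_uG, mul_left_inj] at ec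
    have m : uM (-b + a) 1 0 = uM (((-1 : Kˣ) : K) * (-b + a)) 1 0 := by rw [← val_uG, ec]; rfl
    simp [uM] at m
    rw [show a = b from sub_eq_zero.1 ((mul_eq_zero.1 (by linear_combination m : 2 * (a - b) = 0)).resolve_left h2)]
  · have := mul_mem t.1.out.2 (uG_mem h t.2)
    exact mul_mem (mul_mem this (dG_mem h ..)) (inv_mem this)
  · calc _ = t.1.out.1 * uG t.2 * (dG (-1) 1 * dG (-1) 1) * (t.1.out.1 * uG t.2)⁻¹ := by group
      _ = 1 := by rw [ii]; group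

end LD

open LD in
theorem Lg.om5 (h : Lg p Γ) (h2 : (2 : K) ≠ 0) (h3 : (3 : K) ≠ 0) (h9 : 9 ≤ Nat.card K) :
    ∀ v, Om Γ v → v 0 = 0 ∧ v 1 = 0 ∧ v 2 = 0 ∨ ∃ a, v = v 0 • ![1, a, a ^ 2, a ^ 3] := by
  intro v hv
  by_contra bad
  have h1 := many h h2 h3 h9 hv bad
  obtain ⟨Φ, hΦ⟩ := up h h2 h3 h9
  obtain ⟨L, hL, hL'⟩ := low h h2 h3 h9
  choose f hf using fun t => hΦ _ (hL' t).1 (hL' t).2
  have h4 := Nat.card_le_card_of_injective f fun a b e => hL (by rw [← hf, e, hf])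
  have h5 : 0 < Nat.card (X Γ) := Nat.card_pos
  simp only [Nat.card_sum] at h4
  rw [Nat.card_prod (X Γ)] at h4
  nlinarith

end CF.FusG
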