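import Cfsg.Agent.FusG.QB1

/-! Fusion systems on a Sylow `p`-subgroup of `G₂(q)`: automorphisms of `Q2` preserve `Z3` unless `q = 2, 4`. -/

set_option autoImplicit false
set_option linter.style.haveILetI false
set_option linter.unusedSimpArgs false
set_option linter.unusedSectionVars false

namespace CF.FusG

open Cfsg Cfsg.FusionSystem Subgroup CF.Fus CF.FusD CF.FusU Function Gu Matrix

namespace NM

variable {K : Type} [Field K] [Finite K] {x y u v w : Gu K} {φ : MulAut (Q2 K)}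

theorem cm_fn (φ : MulAut (Q2 K)) (hx : x ∈ Q2 K) (hy : y ∈ Q2 K) : cm (fn φ x) y = fn φ (cm x (fn φ⁻¹ y)) := by
  rw [fn_cm φ hx (fn_mem _ hy), fn_fn_inv]

theorem comm_fn (φ : MulAut (Q2 K)) (hx : x ∈ Q2 K) (hy : y ∈ Q2 K) (e : x * y = y * x) :
    fn φ x * fn φ y = fn φ y * fn φ x := by rw [← mulOn_fn φ hx hy, e, mulOn_fn φ hy hx]

theorem sq_fn (φ : MulAut (Q2 K)) (hx : x ∈ Q2 K) (e : x * x = 1) : fn φ x * fn φ x = 1 := by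
  rw [← mulOn_fn φ hx hx, e, (mulOn_fn φ).map_one]

theorem s3_odd (h2 : (2 : K) ≠ 0) (φ : MulAut (Q2 K)) : φ ∈ stab (Q2 K) (Z3 K) :=
  mem_stab_of_maps (l34.trans l42) fun x hx => by
    have m := fn_mem φ hx.2.1
    have k : ∀ y ∈ Q2 K, (cm (fn φ x) y).c = 0 := fun y hy => by
      rw [cm_fn φ hx.2.1 hy]
      by_cases h3 : (3 : K) = 0
      · rw [cm_eq_one.2 ((Z3_comm hx).2 (by simp [h3, mem_Q2.1 (fn_mem φ⁻¹ hy)])).symm, (mulOn_fn φ).map_one, one_c]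
      · haveI : NeZero (3 : K) := ⟨h3⟩
        exact (stab_maps (QB.stab_Z2 φ) (cm2 hx _)).2.2.2
    exact ⟨by simpa [cm_c2 m (xb_mem 1).2, h2] using k (xb 1) rfl, m,
      by simpa [cm_c2 m (show xa 1 ∈ Q2 K from rfl), h2] using k (xa 1) rfl⟩

/-- scaling -/
@[simps] def sc (μ : K) (x : Gu K) : Gu K := ⟨μ * x.a, 0, μ * x.b, μ ^ 2 * x.c, 0, 0⟩

variable (q : (2 : K) = 0)
include q

theorem three : (3 : K) ≠ 0 := fun e => one_ne_zero (α := K) (by linear_combination e - q)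

theorem comm_iff (hx : x ∈ Q2 K) (hy : y ∈ Q2 K) : x * y = y * x ↔
    x.a * y.c + y.a * x.c + x.a ^ 2 * y.b + y.a ^ 2 * x.b = 0 ∧
      x.b * y.c + y.b * x.c + x.a * y.b ^ 2 + y.a * x.b ^ 2 = 0 := by
  simp only [Gu.ext_iff, mul_a, mul_t, mul_b, mul_c, mul_s, mul_z, mem_Q2.1 hx, mem_Q2.1 hy]
  grind

theorem sq_iff (hx : x ∈ Q2 K) : x * x = 1 ↔ x.a * (x.c + x.a * x.b) = 0 ∧ x.b * (x.c + x.a * x.b) = 0 := by
  simp only [Gu.ext_iff, mul_a, mul_t, mul_b, mul_c, mul_s, mul_z, mem_Q2.1 hx, one_a, one_t, one_b, one_c, one_s, one_z]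
  grind

theorem cm_sz (hx : x ∈ Q2 K) (hy : y ∈ Q2 K) : cm x y = ⟨0, 0, 0, 0,
    x.a * y.c + y.a * x.c + x.a ^ 2 * y.b + y.a ^ 2 * x.b, x.b * y.c + y.b * x.c + x.a * y.b ^ 2 + y.a * x.b ^ 2⟩ := by
  ext <;> simp only [cm_a, cm_t, cm_b, cm_c, cm_s, cm_z, mem_Q2.1 hx, mem_Q2.1 hy] <;> grind

theorem sc_comm (hx : x ∈ Q2 K) (e : x * x = 1) (μ : K) : x * sc μ x = sc μ x * x := by
  rw [sq_iff q hx] at e
  rw [comm_iff q hx rfl]
  simp only [sc_a, sc_b, sc_c]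
  grind

theorem a_zero {l : K} (l0 : l ≠ 0) (l3 : l ^ 3 ≠ 1) (φ : MulAut (Q2 K)) (hx : x ∈ Z3 K) : (fn φ x).a = 0 := by
  haveI : NeZero (3 : K) := ⟨three q⟩
  by_cases c0 : x.c = 0
  · exact (stab_maps (QB.stab_Z2 φ) (of3 hx c0)).1
  by_contra a0
  have x2 := hx.2.1
  have u2 := fn_mem φ x2
  have uu := sq_fn φ x2 ((sq_iff q x2).2 (by simp [hx.1, hx.2.2]))
  have v2 : sc l (fn φ x) ∈ Q2 K := rfl
  have w2 : xb 1 ∈ Q2 K := rfl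
  obtain ⟨x₁, x1, e1⟩ : ∃ x₁ ∈ Q2 K, fn φ x₁ = sc l (fn φ x) := ⟨_, fn_mem φ⁻¹ v2, fn_fn_inv ..⟩
  obtain ⟨y, y2, e2⟩ : ∃ y ∈ Q2 K, fn φ y = xb 1 := ⟨_, fn_mem φ⁻¹ w2, fn_fn_inv ..⟩
  have k1 := comm_fn φ⁻¹ u2 v2 (sc_comm q u2 uu l)
  rw [← e1, fn_inv_fn, fn_inv_fn, comm_iff q x2 x1] at k1
  simp only [hx.1, hx.2.2, zero_mul, mul_zero, add_zero, zero_add, ne_eq, OfNat.ofNat_ne_zero, not_false_eq_true,
    zero_pow, mul_eq_zero, c0, or_false] at k1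
  have yy := sq_fn φ⁻¹ w2 ((sq_iff q w2).2 (by simp))
  rw [← e2, fn_inv_fn] at yy
  have y' : sc (x₁.c / x.c) y ∈ Q2 K := rfl
  have k2 := comm_fn φ y2 y' (sc_comm q y2 yy _)
  rw [e2, comm_iff q w2 (fn_mem φ y')] at k2
  have k3 : cm x₁ y = cm x (sc (x₁.c / x.c) y) := by
    rw [cm_sz q x1 y2, cm_sz q x2 y']
    simp [k1, hx.1, hx.2.2]
    constructor <;> field_simp
  have k4 := congrArg (fn φ) k3
  rw [fn_cm φ x1 y2, fn_cm φ x2 y', e1, e2, cm_sz q v2 w2, cm_sz q u2 (fn_mem φ y')] at k4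
  simp only [Gu.mk.injEq, true_and, sc_a, sc_b, sc_c, xb_a, xb_b, xb_c] at k2 k4
  grind

theorem s3_even {l : K} (l0 : l ≠ 0) (l3 : l ^ 3 ≠ 1) (φ : MulAut (Q2 K)) : φ ∈ stab (Q2 K) (Z3 K) :=
  mem_stab_of_maps (l34.trans l42) fun x hx => ⟨a_zero q l0 l3 φ hx, fn_mem φ hx.2.1, by
    have := a_zero q l0 l3 (w2 K * φ) hx
    rwa [fn_mul, fn_w2 (fn_mem φ hx.2.1)] at this⟩

omit q in
theorem ex_cube (h2 : Nat.card K ≠ 2) (h4 : Nat.card K ≠ 4) : ∃ l : K, l ≠ 0 ∧ l ^ 3 ≠ 1 := by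
  by_contra c
  push Not at c
  haveI := Fintype.ofFinite K
  have d := (FiniteField.forall_pow_eq_one_iff K 3).1 fun x => Units.ext (by simpa using c x x.ne_zero)
  have o := Fintype.one_lt_card (α := K)
  rw [Nat.card_eq_fintype_card] at h2 h4
  rcases (Nat.dvd_prime Nat.prime_three).1 d with e | e <;> omega

omit q in
theorem s3_all (h2 : Nat.card K ≠ 2) (h4 : Nat.card K ≠ 4) (φ : MulAut (Q2 K)) : φ ∈ stab (Q2 K) (Z3 K) := by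
  by_cases q : (2 : K) = 0
  · obtain ⟨l, l0, l3⟩ := ex_cube h2 h4
    exact s3_even q l0 l3 φ
  · exact s3_odd q φ

end NM

variable {K : Type} [Field K] [Finite K] {p : ℕ} [Fact p.Prime] [CharP K p]
  {E F : FusionSystem (⊤ : Subgroup (Gu K))}

theorem s3_of (_hF : Sat F p) (_e2 : F.IsEssential p (Q2 K)) (h2 : Nat.card K ≠ 2) (h4 : Nat.card K ≠ 4) :
    F.autGroup (Q2 K) ≤ stab (Q2 K) (Z3 K) := fun φ _ => NM.s3_all h2 h4 φ

end CF.FusG
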