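import Cfsg.Agent.FusG.RZ0
import Cfsg.Agent.FusG.NM1

/-! Fusion systems on a Sylow `p`-subgroup of `G₂(q)`: realization. -/

set_option autoImplicit false

namespace CF.FusG

open Cfsg Cfsg.FusionSystem Subgroup CF.Fus CF.FusD CF.FusU Function Gu Matrix

variable {K : Type} [Field K] [Finite K] {p : ℕ} [Fact p.Prime] [CharP K p]
  {F : FusionSystem (⊤ : Subgroup (Gu K))} {G : Type} [Group G] {ι : Gu K →* G}

theorem Nm.rz (h : Nm F p) (d : Ge p ι) (h2 : Nat.card K ≠ 2) (h4 : Nat.card K ≠ 4)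
    (es : ∀ E : FusionSystem (⊤ : Subgroup (Gu K)), Sat E p → Es E p)
    (std : ∀ F : FusionSystem (⊤ : Subgroup (Gu K)), Nm F p → ∃ (E : FusionSystem (⊤ : Subgroup (Gu K)))
      (f : Gu K → Gu K), FIso F f E ∧ Sd E p ∧ ∀ g, Mor E ⊤ g ↔ Mor F ⊤ g) : Rz F p :=
  h.rz0 d (fun _ a b => s3_of a b h2 h4) es std

end CF.FusG
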