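import Cfsg.Agent.FusG.C2
import Cfsg.Agent.FusG.KA

/-! Fusion systems on a Sylow `3`-subgroup of `G₂(3^n)`: the standard form. -/

set_option autoImplicit false
set_option linter.style.haveILetI false
set_option linter.unusedSimpArgs false
set_option linter.unusedSectionVars false

namespace CF.FusG

open Cfsg Cfsg.FusionSystem Subgroup CF.Fus CF.FusD CF.FusU Function Gu Matrix

variable {K : Type} [Field K] [Finite K] {p : ℕ} [Fact p.Prime] [CharP K p]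
  {E F : FusionSystem (⊤ : Subgroup (Gu K))} {f : Gu K → Gu K} {α β μ k l : K} {τ : K ≃+* K} {x y : Gu K}
  {φ ψ m : MulAut (Q1 K)}

namespace S3

theorem st1 (φ : MulAut (Q1 K)) : φ ∈ stab (Q1 K) (Z1 K) := mem_stab_of_maps ((l13.trans l34).trans l41) fun z hz => by
  obtain ⟨a, ha, rfl⟩ := exists_cm2 (x := xt 1) one_ne_zero hz
  rw [fn_cm φ rfl ha.1]
  exact cmQ1 (fn_mem φ rfl) (fn_mem φ ha.1)

/-- coordinates on `Q1 / A1` -/
def pw (x : Gu K) : K × K := (x.s, x.t)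

theorem pw_sur (v : K × K) : ∃ x ∈ Q1 K, pw x = v := ⟨⟨0, v.2, 0, 0, v.1, 0⟩, rfl, rfl⟩

theorem eq_one_of (h0 : α ≠ 0) (h : ∀ s, α * τ s = β * s) : τ = 1 ∧ α = β := by
  have a : α = β := by simpa using h 1
  exact ⟨RingEquiv.ext fun s => mul_left_cancel₀ h0 (by rw [h, a]; rfl), a⟩

variable (h3 : (3 : K) = 0)
include h3

theorem two : (2 : K) ≠ 0 := fun c => one_ne_zero (α := K) (by linear_combination h3 - c)

theorem neg_self (h : α = -α) : α = 0 := by linear_combination α * h3 - h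

theorem exists_cube (a : K) : ∃ b, b ^ 3 = a :=
  (Finite.injective_iff_surjective (f := fun b : K => b ^ 3)).1 (fun _ _ => cube_inj h3) a

theorem cm_w (hx : x ∈ Q1 K) (hy : y ∈ Q1 K) : (cm x y).z = (pw x).1 * (pw y).2 - (pw x).2 * (pw y).1 := by
  simp [cm_z1 hx hy, h3, pw]

theorem exists_r : ∃ ρ : MulAut (Q1 K) → K × K →+ K × K, Rp ⊤ ρ ∧ ∀ φ, ∀ x ∈ Q1 K, ρ φ (pw x) = pw (fn φ x) := by
  obtain ⟨ρ, r, hρ⟩ := exists_rp (⊤ : Subgroup (MulAut (Q1 K))) pw (fun x hx y _ => by simp [pw, mem_Q1.1 hx]) pw_sur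
    fun φ _ x hx e => by
      have k : ∀ y ∈ Q1 K, (cm (fn φ x) y).z = 0 := fun y hy => by
        rw [← fn_fn_inv φ y, ← fn_cm φ hx (fn_mem _ hy), of1 (cmQ1 hx (fn_mem _ hy)) (by simp [cm_w h3 hx (fn_mem _ hy), e]),
          (mulOn_fn φ).map_one, one_z]
      exact Prod.ext (by simpa [cm_w h3 (fn_mem φ hx) (y := xt 1) rfl, pw] using k (xt 1) rfl)
        (by simpa [cm_w h3 (fn_mem φ hx) (y := xs 1) rfl, pw] using k (xs 1) rfl)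
  exact ⟨ρ, r, fun φ => hρ φ trivial⟩

/-- the action on `Q1 / A1` -/
noncomputable def rw1 : MulAut (Q1 K) → K × K →+ K × K := (exists_r h3).choose

theorem rp (X : Subgroup (MulAut (Q1 K))) : Rp X (rw1 h3) := (exists_r h3).choose_spec.1.mono le_top
theorem app (φ : MulAut (Q1 K)) (hx : x ∈ Q1 K) : rw1 h3 φ (pw x) = pw (fn φ x) := (exists_r h3).choose_spec.2 φ x hx

theorem r_of {g : K × K → K × K} (h : ∀ x ∈ Q1 K, pw (fn φ x) = g (pw x)) (v : K × K) : rw1 h3 φ v = g v := by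
  obtain ⟨x, hx, rfl⟩ := pw_sur v
  rw [app h3 φ hx, h x hx]

theorem pw_cj (hx : x ∈ Q1 K) (t : Gu K) : pw (t * x * t⁻¹) = (x.s + t.a ^ 3 * x.t, x.t) := by
  have := p1_cj hx t
  rw [uM_mulVec] at this
  exact Prod.ext ((congrFun this 3).trans (by simp [p1, h3])) (by simp [pw])

theorem r_cA (s : Gu K) : ∀ v, rw1 h3 (cA (Q1 K) s) v = (v.1 + s.a ^ 3 * v.2, v.2) :=
  r_of h3 fun x hx => by rw [fn_cA (nQ1 s) hx, pw_cj h3 hx]; rfl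

omit h3 in
variable (F) in
/-- the automorphisms which fix `Z1` -/
abbrev X1 : Subgroup (MulAut (Q1 K)) := F.autGroup (Q1 K) ⊓ fix (Q1 K) (Z1 K)

theorem lin (hφ : φ ∈ fix (Q1 K) (Z1 K)) (u : K) : rw1 h3 φ (u, 0) = u • rw1 h3 φ (1, 0) := by
  have k : ∀ v w, (rw1 h3 φ v).1 * (rw1 h3 φ w).2 - (rw1 h3 φ v).2 * (rw1 h3 φ w).1 = v.1 * w.2 - v.2 * w.1 :=
    fun v w => by
      obtain ⟨x, hx, rfl⟩ := pw_sur v
      obtain ⟨y, hy, rfl⟩ := pw_sur w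
      rw [app h3 φ hx, app h3 φ hy, ← cm_w h3 hx hy, ← cm_w h3 (fn_mem φ hx) (fn_mem φ hy), ← fn_cm φ hx hy,
        hφ _ (cmQ1 hx hy)]
  have k' : ∀ w : K × K, (rw1 h3 φ (u, 0)).1 * w.2 - (rw1 h3 φ (u, 0)).2 * w.1 =
      u * ((rw1 h3 φ (1, 0)).1 * w.2 - (rw1 h3 φ (1, 0)).2 * w.1) := fun w => by
    rw [← (rp h3 ⊤).app_inv (g := φ) trivial w, k, k]; simp
  exact Prod.ext (by simpa using k' (0, 1)) (by simpa using k' (1, 0))

variable (hF : Sat F p)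
include hF

theorem pl : Pl p (X1 F) (autInducedBy ⊤ (Q1 K)) (rw1 h3) := by
  have sy := hF.syl_of_fn (fn_of_norm F le_top fun s _ => nQ1 s)
  refine ⟨rp h3 _, sy.mono (le_inf sy.le fun t ht z hz => ?_) inf_le_left, fun t ht => ?_, fun a => ?_⟩
  · obtain ⟨s, -, e⟩ := mem_autInducedBy'.1 ht
    rw [e z hz.1, Z1_comm hz, mul_inv_cancel_right]
  · obtain ⟨s, -, -, rfl⟩ := mem_autInducedBy.1 ht
    exact ⟨_, r_cA h3 s⟩
  · obtain ⟨b, rfl⟩ := exists_cube h3 a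
    exact ⟨_, cA_mem_autInducedBy trivial, r_cA h3 (xa b)⟩

theorem inn (hφ : φ ∈ F.autGroup (Q1 K)) (e : ∀ v, rw1 h3 φ v = v) : φ ∈ Inn (Q1 K) :=
  inn3b h3 hF hφ fun x hx => have := (app h3 φ hx).symm.trans (e _); ⟨congrArg Prod.snd this, congrArg Prod.fst this⟩

theorem norm (hφ : φ ∈ X1 F) (e : ∀ u, (rw1 h3 φ (u, 0)).2 = 0) :
    φ ∈ normalizer (autInducedBy ⊤ (Q1 K) : Set (MulAut (Q1 K))) := by
  have a : ∀ v ∈ (AddMonoidHom.snd K K).ker, rw1 h3 φ v ∈ (AddMonoidHom.snd K K).ker := fun v hv => by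
    rw [show v = (v.1, 0) from Prod.ext rfl hv]; exact e _
  have r := pl h3 hF
  refine r.rp.norm_of_chn r.syl (fun v => by rw [← Nat.cast_smul_eq_nsmul K, CharP.cast_eq_zero, zero_smul])
    (fun ψ hψ q => isPGroup_iff_mem.1 (isPGroup_Inn (hF.pgroup le_top)) ψ (inn h3 hF hψ.1 q)) le_rfl (fun t ht => ?_) hφ a a
  obtain ⟨a, e⟩ := r.act t ht
  exact ⟨r.syl.le ht, fun v => by simp [e, AddSubgroup.mem_prod], fun v _ => by simp [e, AddSubgroup.mem_prod],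
    fun v hv => by rw [e, show v.2 = 0 from hv]; exact Prod.ext (by simp) (Eq.symm hv)⟩

theorem frat (hφ : φ ∈ F.autGroup (Q1 K)) :
    ∃ b ∈ X1 F, b * φ ∈ normalizer (autInducedBy ⊤ (Q1 K) : Set (MulAut (Q1 K))) :=
  (pl h3 hF).syl.frattini (mem_normalizer_of_le le_top fun _ hx =>
    ⟨mul_mem (mul_mem hφ hx.1) (Subgroup.inv_mem _ hφ), conj_mem_of_norm (stab_le_norm_fix (st1 φ)) hx.2⟩)

theorem mov (hE : F.IsEssential p (Q1 K)) : ∃ φ ∈ X1 F, ∃ a, (rw1 h3 φ (a, 0)).2 ≠ 0 := by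
  by_contra! c
  refine not_norm hF hE nQ1 fun φ hφ => ?_
  obtain ⟨b, b1, b2⟩ := frat h3 hF hφ
  simpa using mul_mem (inv_mem (norm h3 hF b1 (c b b1))) b2

theorem gn1 (hm : m ∈ X1 F) (e : ∀ u, ∃ v, rw1 h3 m (v, 0) = (0, u)) : Gn F (Q1 K) m := by
  refine ⟨hm.1, fun H m3 k φ hφ => ?_⟩
  obtain ⟨b, b1, b2⟩ := frat h3 hF hφ
  have r := pl h3 hF
  have a : b ∈ H := by_contra fun c => by
    obtain ⟨a, ha⟩ := not_forall.1 (mt (norm h3 hF b1) (mt (fun q => k ⟨b1.1, q⟩) c))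
    obtain ⟨t, t1, t2⟩ := r.onto (-(rw1 h3 b (a, 0)).1 / (rw1 h3 b (a, 0)).2)
    have q := mul_mem (mul_mem (Subgroup.inv_mem _ hm) (r.syl.le t1)) b1
    have := k ⟨q.1, norm h3 hF q (r.ti q (a := a) (by
      rintro rfl; simp [show ((0 : K), (0 : K)) = 0 from rfl] at ha) (by
      obtain ⟨v, e1⟩ := e (rw1 h3 b (a, 0)).2
      rw [r.rp.mul3 (Subgroup.inv_mem _ hm) (r.syl.le t1) b1, t2, div_mul_cancel₀ _ ha, add_neg_cancel, ← e1,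
        r.rp.inv_app hm]))⟩
    have m4 := Subgroup.inv_mem _ (mul_mem (Subgroup.inv_mem _ m3) (k ⟨(r.syl.le t1).1, le_normalizer t1⟩))
    exact c (by simpa [mul_assoc] using mul_mem m4 this)
  simpa using mul_mem (Subgroup.inv_mem _ a) (k ⟨mul_mem b1.1 hφ, b2⟩)

theorem bar (hE : F.IsEssential p (Q1 K)) : ∃ m ∈ X1 F, ∀ v, rw1 h3 m v = (-v.2, v.1) := by
  have r := pl h3 hF
  obtain ⟨φ, hφ, a, ha⟩ := mov h3 hF hE
  obtain ⟨n, n0, -, n1, n2⟩ := r.exists_n (M := ⊤) (fun _ _ _ _ => trivial) hφ ha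
  obtain ⟨a, a1⟩ : ∃ a, ∀ u, rw1 h3 n (u, 0) = (a * u, -u) :=
    ⟨_, fun u => Prod.ext (by rw [lin h3 n0.2, mul_comm]; rfl) (n1 u)⟩
  obtain ⟨s, hs, es⟩ := r.onto a
  obtain ⟨s', hs', es'⟩ := r.onto (-a)
  have m := mul_mem (mul_mem (r.syl.le hs) n0) (r.syl.le hs')
  have e : ∀ v, rw1 h3 (s * n * s') v = (v.2, -v.1) := fun v => by
    have e4 := n2 (-v.2)
    rw [a1, neg_neg] at e4
    rw [r.rp.mul3 (r.syl.le hs) n0 (r.syl.le hs'), es', show (v.1 + -a * v.2, v.2) = (v.1, 0) + (a * -v.2, v.2) from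
      Prod.ext (by simp) (by simp), map_add, e4, a1, es]
    exact Prod.ext (by simp) (by simp)
  exact ⟨_, inv_mem m, fun v => by rw [← r.rp.inv_app m (-v.2, v.1), e]; simp⟩

omit hF

theorem ha (h : Nm F p) (hl : l ≠ 0) : Mor F ⊤ (dg (l ^ 2) (l ^ 3)⁻¹ 1) := by
  obtain ⟨φ, hφ, a, ha⟩ := mov h3 h.sat h.e1
  have l3 := pow_ne_zero 3 hl
  obtain ⟨k, k0, -, k1, k2⟩ := (pl h3 h.sat).exists_h (M := ⊤) (fun _ _ _ _ => trivial) hφ ha l3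
  obtain ⟨t, α, γ, τ, a0, b0, m, q⟩ := h.ext1 k0.1 (norm h3 h.sat k0 fun u => by rw [k1])
  obtain ⟨rfl, rfl⟩ := eq_one_of (β := (l ^ 3)⁻¹) (τ := τ) b0 fun c => by
    have := k2 (pw (xt c))
    rw [app h3 k rfl, q _ rfl] at this
    simpa [pw] using this
  have := k1 1
  rw [show ((1 : K), (0 : K)) = pw (xs 1) from rfl, app h3 k rfl, q _ rfl, pw_cj h3 (by simp [mem_Q1])] at this
  have e : α ^ 3 * (l ^ 3)⁻¹ = l ^ 3 := by simpa using congrArg Prod.fst this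
  rwa [← cube_inj h3 (α := α) (β := l ^ 2) (by rw [(mul_inv_eq_iff_eq_mul₀ l3).1 e]; ring)]

theorem s3 (φ : MulAut (Q2 K)) : φ ∈ stab (Q2 K) (Z3 K) := mem_stab_of_maps (l34.trans l42) fun z hz => by
  have m := fn_mem φ hz.2.1
  have k : ∀ y ∈ Q2 K, 2 * y.a * (fn φ z).b - 2 * (fn φ z).a * y.b = 0 := fun y hy => by
    rw [← cm_c2 m hy, cm_eq_one.2 (fn_comm φ hz.2.1 (fun e he => by simp [Z3_comm hz, h3, mem_Q2.1 he]) hy).symm, one_c]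
  exact ⟨by simpa [two h3] using k (xb 1) rfl, m, by simpa [two h3] using k (xa 1) rfl⟩

theorem nm_gr (h : Nm F p) (i : FIso F gr E) : Nm E p := h.of_top i (fun φ _ => s3 h3 φ) <| by
  rintro d ⟨α, β, τ, a0, b0, e | ⟨-, e⟩⟩ -
  · exact ⟨_, ⟨β, α ^ 3, τ, b0, pow_ne_zero 3 a0, .inl fun _ => rfl⟩, fun x => by rw [e, gr_dg]⟩
  · exact ⟨_, ⟨β, α ^ 3, τ, b0, pow_ne_zero 3 a0, .inr ⟨h3, fun _ => rfl⟩⟩, fun x => by rw [e, gr_dg]⟩

theorem tor (h : Nm F p) : Tor F := fun α β a0 b0 => by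
  obtain ⟨E, i⟩ := exists_fiso F (piso_gr h3)
  have m0 : α ^ 3 * β ^ 2 ≠ 0 := mul_ne_zero (pow_ne_zero 3 a0) (pow_ne_zero 2 b0)
  have m1 : Mor F ⊤ (dg (α ^ 3 * β ^ 2)⁻¹ ((α ^ 3 * β ^ 2) ^ 2) 1) :=
    i.mor_of le_rfl (fun _ _ => trivial) (by rw [i.img_eq]; exact ha h3 (nm_gr h3 h i) m0) fun x _ => by
      rw [gr_dg, inv_pow]
  have := mor_dg_mul (ha h3 h (l := α ^ 2 * β) (mul_ne_zero (pow_ne_zero 2 a0) b0)) m1
  rwa [mul_one, RingAut.one_apply, RingAut.one_apply, show (α ^ 2 * β) ^ 2 * (α ^ 3 * β ^ 2)⁻¹ = α by field_simp,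
    show ((α ^ 2 * β) ^ 3)⁻¹ * (α ^ 3 * β ^ 2) ^ 2 = β by field_simp] at this

theorem cent (e0 : φ ∈ fix (Q1 K) (Z1 K)) (e : ∀ x ∈ Q1 K, pw (fn φ x) = pw x)
    (c : ∀ α ≠ 0, ∀ β ≠ 0, ∀ x ∈ Q1 K, fn φ (dg α β 1 x) = dg α β 1 (fn φ x)) :
    ∃ u v k l : K, (∀ α ≠ 0, α ^ 2 * k = k) ∧
      ∀ x ∈ Q1 K, fn φ x = ⟨0, x.t, u * x.b + l * x.s, v * x.c + k * x.t, x.s, x.z⟩ := by
  have n1 : (-1 : K) ≠ 0 := neg_ne_zero.2 one_ne_zero
  have c' : ∀ β, ∀ x ∈ Q1 K, fn φ (dg 1 β 1 x) = dg 1 β 1 (fn φ x) := fun β x hx => by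
    rcases eq_or_ne β 0 with rfl | b0
    · have k : ∀ y ∈ Q1 K, dg (1 : K) 0 1 y = 1 := fun y hy => by ext <;> simp [mem_Q1.1 hy]
      rw [k x hx, k _ (fn_mem φ hx), (mulOn_fn φ).map_one]
    · exact c 1 one_ne_zero β b0 x hx
  have a1 : ∀ x ∈ Q1 K, x.t = 0 → x.c = 0 → x.z = 0 → fn φ x = ⟨0, 0, (fn φ x).b, 0, x.s, 0⟩ := fun x hx t0 c0 z0 => by
    have := c _ n1 _ n1 x hx
    rw [show dg (-1) (-1) 1 x = x by ext <;> simp [mem_Q1.1 hx, t0, c0, z0]; ring] at this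
    exact Gu.ext (fn_mem φ hx) ((congrArg Prod.snd (e x hx)).trans t0) rfl
      (neg_self h3 (by simpa using congrArg Gu.c this)) (congrArg Prod.fst (e x hx))
      (neg_self h3 ((congrArg Gu.z this).trans (by simp; ring)))
  have a2 : ∀ x ∈ Q1 K, x.s = 0 → x.b = 0 → x.z = 0 → fn φ x = ⟨0, x.t, 0, (fn φ x).c, 0, 0⟩ := fun x hx t0 c0 z0 => by
    have := c _ n1 _ one_ne_zero x hx
    rw [show dg (-1) 1 1 x = x by ext <;> simp [mem_Q1.1 hx, t0, c0, z0]] at this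
    exact Gu.ext (fn_mem φ hx) (congrArg Prod.snd (e x hx)) (neg_self h3 (by simpa using congrArg Gu.b this)) rfl
      ((congrArg Prod.fst (e x hx)).trans t0) (neg_self h3 ((congrArg Gu.z this).trans (by simp; ring)))
  refine ⟨(fn φ (xb 1)).b, (fn φ (xc 1)).c, (fn φ (xt 1)).c, (fn φ (xs 1)).b, fun α a0 => ?_, fun x hx => ?_⟩
  · have := c α a0 1 one_ne_zero (xt 1) rfl
    rw [show dg α 1 1 (xt 1) = xt 1 by ext <;> simp] at this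
    simpa using (congrArg Gu.c this).symm
  · rw [show x = dg 1 x.t 1 (xt 1) * dg 1 x.b 1 (xb 1) * dg 1 x.c 1 (xc 1) * dg 1 x.s 1 (xs 1) * xz x.z by
      ext <;> simp [mem_Q1.1 hx], mulOn_fn φ (by simp [mem_Q1]) rfl, mulOn_fn φ (by simp [mem_Q1]) (by simp [mem_Q1]),
      mulOn_fn φ (by simp [mem_Q1]) (by simp [mem_Q1]), mulOn_fn φ (by simp [mem_Q1]) (by simp [mem_Q1]),
      c' _ _ rfl, c' _ _ rfl, c' _ _ rfl, c' _ _ rfl, e0 _ (xz_mem _), a2 (xt 1) rfl rfl rfl rfl,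
      a1 (xb 1) rfl rfl rfl rfl, a2 (xc 1) rfl rfl rfl rfl, a1 (xs 1) rfl rfl rfl rfl]
    ext <;> simp [h3] <;> ring

omit h3 in
theorem inn_bc (h : φ ∈ Inn (Q1 K)) (hx : x ∈ Q1 K) : (fn φ x).b = x.b ∧ (fn φ x).c = x.c := by
  obtain ⟨t, ht, rfl⟩ := mem_Inn.1 h
  have := p1_cj hx t
  rw [mem_Q1.1 ht, uM_zero, one_mulVec, ← fn_cA (nQ1 t) hx] at this
  exact ⟨congrFun this 1, congrFun this 2⟩

omit h3 in
theorem fix_w1 : w1 K ∈ fix (Q1 K) (Z1 K) := fun z hz => by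
  rw [fn_w1 hz.1]; ext <;> simp [hz.1, hz.2.1, hz.2.2.1, hz.2.2.2.1, hz.2.2.2.2]

theorem r_w1 : ∀ v, rw1 h3 (w1 K) v = (-v.2, v.1) := r_of h3 fun x hx => by rw [fn_w1 hx]; rfl

theorem key (h : Nm F p) : ∃ k : K, (∀ α ≠ 0, α ^ 2 * k = k) ∧ ∃ m ∈ F.autGroup (Q1 K),
    ∀ x ∈ Q1 K, fn m x = W1 ⟨0, x.t, x.b - k * x.s, x.c + k * x.t, x.s, x.z⟩ := by
  have r := rp h3 (⊤ : Subgroup (MulAut (Q1 K)))
  have n1 : (-1 : K) ≠ 0 := neg_ne_zero.2 one_ne_zero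
  obtain ⟨m, m1, m2⟩ := bar h3 h.sat h.e1
  let H : Subgroup (MulAut (Q1 K)) :=
    { carrier := {φ | ∃ α β, α ≠ 0 ∧ β ≠ 0 ∧ ∀ x ∈ Q1 K, fn φ x = dg α β 1 x}
      one_mem' := ⟨1, 1, one_ne_zero, one_ne_zero, fun x _ => by rw [fn_one, dg_one]⟩
      mul_mem' := by
        rintro φ ψ ⟨α, β, a0, b0, e⟩ ⟨γ, δ, c0, d0, e'⟩
        exact ⟨_, _, mul_ne_zero a0 c0, mul_ne_zero b0 d0, fun x hx => by
          rw [fn_mul, e _ (fn_mem ψ hx), e' x hx, dg_dg]; rfl⟩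
      inv_mem' := by
        rintro φ ⟨α, β, a0, b0, e⟩
        exact ⟨_, _, inv_ne_zero a0, inv_ne_zero b0, fun x hx => by
          rw [← dg_inv (τ := 1) a0 b0 (fn φ⁻¹ x), ← e _ (fn_mem _ hx), fn_fn_inv]; rfl⟩ }
  have hH : H ≤ F.autGroup (Q1 K) := fun φ ⟨α, β, a0, b0, e⟩ => ((tor h3 h α β a0 b0).mono le_top).aut_mem' e
  obtain ⟨κ, hκ, e⟩ := lift (H := H) (fun _ => id) (m := m) (n := w1 K) fun φ hφ => by
    refine ⟨w1 K * φ * (w1 K)⁻¹, inn h3 h.sat (mul_mem (mul_mem (mul_mem m1.1 (hH hφ)) (inv_mem m1.1))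
      (inv_mem (hH ?_))) fun v => ?_, by simp⟩
    · obtain ⟨α, β, a0, b0, q⟩ := hφ
      refine ⟨α⁻¹, α ^ 3 * β, inv_ne_zero a0, mul_ne_zero (pow_ne_zero 3 a0) b0, fun x hx => ?_⟩
      have a := fn_mem (w1 K)⁻¹ hx
      rw [fn_mul, fn_mul, fn_w1 (fn_mem φ a), q _ a, W1_dg a0, ← fn_w1 a, fn_fn_inv]
    · obtain ⟨u, rfl⟩ : ∃ u, rw1 h3 (w1 K * φ * (w1 K)⁻¹ * m) u = v := ⟨_, r.app_inv trivial v⟩
      rw [mul_assoc, ← _root_.mul_inv_rev, r.mul _ trivial _ trivial, r.inv_app trivial, r.mul _ trivial _ trivial,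
        r.mul _ trivial _ trivial, r.mul3 trivial trivial trivial, m2, m2, ← r_w1 h3, ← r_w1 h3, r.inv_app trivial]
  obtain ⟨u, v, k, l, k0, q⟩ := cent h3 (φ := κ * ((w1 K)⁻¹ * m))
    (mul_mem ((pl h3 h.sat).syl.le (Inn_le_autInducedBy le_top hκ)).2 (mul_mem (inv_mem fix_w1) m1.2)) (fun x hx => by
      obtain ⟨t, ht, rfl⟩ := mem_Inn.1 hκ
      rw [← app h3 _ hx, r.mul _ trivial _ trivial, r.mul _ trivial _ trivial, m2, ← r_w1 h3, r.inv_app trivial, r_cA,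
        mem_Q1.1 ht]
      simp) fun α a0 β b0 x hx => by
      obtain ⟨φ, -, q⟩ := aut_Q1 (tor h3 h α β a0 b0)
      rw [← q x hx, ← e φ ⟨α, β, a0, b0, q⟩, q _ (fn_mem _ hx)]
  obtain ⟨n, n0, e1⟩ : ∃ n ∈ F.autGroup (Q1 K),
      ∀ x ∈ Q1 K, fn n x = W1 ⟨0, x.t, u * x.b + l * x.s, v * x.c + k * x.t, x.s, x.z⟩ :=
    ⟨w1 K * κ * (w1 K)⁻¹ * m, mul_mem (Inn_le_autGroup F le_top (conj_mem_of_norm (Inn_norm ⊤ trivial) hκ)) m1.1,
      fun x hx => by rw [mul_assoc, mul_assoc, fn_mul, fn_w1 (fn_mem _ hx), q x hx]⟩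
  obtain ⟨ψ, p1, p2⟩ := aut_Q1 (tor h3 h 1 (-1) one_ne_zero n1)
  have e2 : ∀ x ∈ Q1 K, fn (n * n * ψ) x = W1 ⟨0, -x.s, u * (v * x.c + k * x.t) + l * x.t, -(v * (u * x.b + l * x.s)) -
      k * x.s, x.t, (fn (n * ψ) x).z⟩ := fun x hx => by
    rw [mul_assoc, fn_mul, e1 _ (fn_mem _ hx), fn_mul, e1 _ (fn_mem _ hx), p2 x hx]
    congr 2 <;> simp only [W1_t, W1_s, W1_b, W1_c, dg_t, dg_s, dg_b, dg_c, RingAut.one_apply] <;> ring
  have i1 := inn3b h3 h.sat (mul_mem (mul_mem n0 n0) p1) fun x hx => by simp [e2 x hx]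
  have f1 : v * u = 1 := by simpa [e2 (xb 1) rfl] using (inn_bc i1 (x := xb 1) rfl).1
  have f2 : v * l + k = 0 := by
    have := (inn_bc i1 (x := xs 1) rfl).1
    simp [e2 (xs 1) rfl] at this
    linear_combination this
  obtain ⟨j, j0, e3⟩ : ∃ j ∈ F.autGroup (Q1 K), ∀ x ∈ Q1 K, (fn j x).t = x.s - x.t ∧ (fn j x).s = -x.t ∧
      (fn j x).b = -(v * (x.c + x.b + x.t) + k * x.t) ∧ (fn j x).c = u * (x.b - x.t) + l * (x.s - x.t) :=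
    ⟨n * cA (Q1 K) (xa (-1)), mul_mem n0 (cA_mem_autGroup F le_top trivial), fun x hx => by
      rw [fn_mul, e1 _ (fn_mem _ hx), fn_cA (nQ1 _) hx]
      simp [mem_Q1.1 hx]
      grind⟩
  have i2 := inn3b h3 h.sat (mul_mem (mul_mem j0 j0) j0) fun x hx => by
    simp only [fn_mul, e3 _ (fn_mem j (fn_mem j hx)), e3 _ (fn_mem j hx), e3 x hx]
    constructor <;> ring
  have f3 := (inn_bc i2 (x := xc 1) rfl).2
  simp [fn_mul, e3 _ (fn_mem j (fn_mem j (x := xc 1) rfl)), e3 _ (fn_mem j (x := xc 1) rfl), e3 (xc 1) rfl] at f3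
  obtain rfl : v = 1 := by linear_combination f3 - v * f1
  obtain rfl : u = 1 := by linear_combination f1
  obtain rfl : l = -k := by linear_combination f2
  exact ⟨k, k0, n, n0, fun x hx => by rw [e1 x hx]; congr 2 <;> ring⟩

omit h3 in
/-- central automorphisms -/
@[simps] def Ph (k l : K) (x : Gu K) : Gu K := ⟨x.a, x.t, x.b, x.c + k * x.t, x.s, x.z + l * x.a ^ 3⟩

theorem Ph_mul (x y : Gu K) : Ph k l (x * y) = Ph k l x * Ph k l y := by ext <;> simp <;> grind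

theorem piso_Ph : PIso (Ph k l) ⊤ ⊤ :=
  .of_inverse (g := Ph (-k) (-l)) (fun x _ y _ => Ph_mul h3 x y) (fun _ _ => trivial) (fun _ _ => trivial)
    (fun x _ => by ext <;> simp) fun x _ => by ext <;> simp

theorem Ph_cj (t x : Gu K) : Ph k l (t * x * t⁻¹) = t * Ph k l x * t⁻¹ := by ext <;> simp <;> grind

theorem gr_Ph (x : Gu K) : gr (Ph k l x) = Ph l (k ^ 3) (gr x) := by ext <;> simp <;> grind

omit h3 in
theorem fix_of (hk : ∀ α ≠ 0, α ^ 2 * k = k) (τ : K ≃+* K) : k = 0 ∨ τ = 1 := or_iff_not_imp_left.2 fun k0 =>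
  RingEquiv.ext fun a => by
    rcases eq_or_ne a 0 with rfl | a0
    · simp
    · rcases sq_eq_one_iff.1 (mul_left_eq_self₀.1 (hk a a0) |>.resolve_right k0) with e | e <;> simp [e]

omit h3 in
theorem dg_Ph (hk : ∀ α ≠ 0, α ^ 2 * k = k) (hl : ∀ α ≠ 0, α ^ 2 * l = l) (a0 : α ≠ 0) (b0 : β ≠ 0) (x : Gu K) :
    dg α β τ (Ph k l x) = Ph k l (dg α β τ x) := by
  have e1 : τ k = k := (fix_of hk τ).elim (fun e => by simp [e]) fun e => by simp [e]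
  have e2 : τ l = l := (fix_of hl τ).elim (fun e => by simp [e]) fun e => by simp [e]
  ext <;> simp [e1, e2]
  · linear_combination β * τ x.t * hk α a0
  · linear_combination α ^ 3 * τ x.a ^ 3 * hl β b0

theorem w1_mem (i : FIso F (Ph k l) E) (hm : m ∈ F.autGroup (Q1 K))
    (e : ∀ x ∈ Q1 K, fn m x = W1 ⟨0, x.t, x.b - k * x.s, x.c + k * x.t, x.s, x.z⟩) : w1 K ∈ E.autGroup (Q1 K) := by
  have hp : PIso (Ph k l) (Q1 K) (Q1 K) := CH.piso_of i.piso fun _ hx => hx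
  rw [← hp.autCongr_eq (α := m) (β := w1 K) fun x hx => by
    rw [fn_w1 (hp.maps hx), e x hx]; ext <;> simp [mem_Q1.1 hx, h3]]
  exact (i.autCongr_mem_iff le_top hp).2 hm

end S3

open S3

theorem std3 (h : Nm F p) (h3 : (3 : K) = 0) : ∃ (E : FusionSystem (⊤ : Subgroup (Gu K))) (f : Gu K → Gu K),
    FIso F f E ∧ Sd E p ∧ ∀ g, Mor E ⊤ g ↔ Mor F ⊤ g := by
  obtain ⟨F', i'⟩ := exists_fiso F (piso_gr h3)
  obtain ⟨k, hk, m, m1, m2⟩ := key h3 h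
  obtain ⟨l, ⟨hl, n, n1, n2⟩, kl⟩ : ∃ l, ((∀ α ≠ 0, α ^ 2 * l = l) ∧ ∃ m ∈ F'.autGroup (Q1 K),
      ∀ x ∈ Q1 K, fn m x = W1 ⟨0, x.t, x.b - l * x.s, x.c + l * x.t, x.s, x.z⟩) ∧ (Mor F ⊤ gr → l = k) := by
    by_cases c : Mor F ⊤ gr
    · obtain rfl : F' = F := fs_ext (i'.hom_eq c.fiso)
      exact ⟨k, ⟨hk, m, m1, m2⟩, fun _ => rfl⟩
    · exact (key h3 (nm_gr h3 h i')).imp fun l hl => ⟨hl, fun q => (c q).elim⟩
  have k3 : k ^ 3 = k := by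
    rcases eq_or_ne k 0 with rfl | k0
    · simp
    · rw [pow_succ, hk k k0]
  obtain ⟨E, i⟩ := exists_fiso F (piso_Ph h3 (k := k) (l := l))
  have c : ∀ d, Dh d → Mor F ⊤ d → ∀ x, d (Ph k l x) = Ph k l (d x) := by
    rintro d ⟨α, β, τ, a0, b0, e | ⟨-, e⟩⟩ md x
    · rw [e, e, dg_Ph hk hl a0 b0]
    · obtain rfl : l = k := by_contra fun q => by
        obtain rfl : τ = 1 := (fix_of hk τ).elim (fun e1 => (fix_of hl τ).resolve_left fun e2 => q (e2.trans e1.symm)) id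
        exact q (kl ((md.comp (tor h3 h _ _ (inv_ne_zero a0) (inv_ne_zero b0)) fun _ _ => trivial).congr fun x _ => by
          rw [Function.comp_apply, e]; exact (dg_inv (τ := 1) a0 b0 _).symm))
      rw [e, e, gr_Ph h3, k3, dg_Ph hk hk a0 b0]
  have hE := h.of_top i (fun φ _ => s3 h3 φ) fun d d1 d2 => ⟨d, d1, c d d1 d2⟩
  obtain ⟨E', j⟩ := exists_fiso E (piso_gr h3)
  have hE' := nm_gr h3 hE j
  have a1 := w1_mem h3 i m1 m2
  have a2 := w1_mem h3 (l := k ^ 3) ((i'.symm.trans (i.trans j)).congr fun x hx => by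
    rw [Function.comp_apply, Function.comp_apply, gr_Ph h3, i'.piso.apply_pinv hx]) n1 n2
  refine ⟨E, _, i, ⟨hE, tor h3 hE, gn1 h3 hE.sat ⟨a1, fix_w1⟩ fun u => ⟨u, by simp [r_w1]⟩, ?_⟩, top_iff i fun g mg x => ?_⟩
  · have hp : PIso gr (Q2 K) (Q1 K) := ((img_Q j.piso).resolve_left fun q =>
      absurd (q.1.le (mem_img_of_mem (x := xt 1) rfl)) one_ne_zero).2 ▸ j.res le_top
    obtain ⟨ψ, p1, p2⟩ := aut_Q1 (tor h3 hE' 1 (-1) one_ne_zero (neg_ne_zero.2 one_ne_zero))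
    refine Gn.pull j hp ?_
    rw [hp.autCongr_eq (β := ψ * w1 K) fun x hx => by
      rw [fn_w2 hx, gr_W2 h3 hx, fn_mul, p2 _ (fn_mem _ (hp.maps hx)), fn_w1 (hp.maps hx)]]
    refine gn1 h3 hE'.sat ⟨mul_mem p1 a2, mul_mem (fun z hz => ?_) fix_w1⟩ fun u => ⟨-u, ?_⟩
    · rw [p2 z hz.1]; ext <;> simp [hz.1, hz.2.1, hz.2.2.1, hz.2.2.2.1, hz.2.2.2.2]
    · rw [(rp h3 ⊤).mul _ trivial _ trivial, r_w1, r_of h3 (φ := ψ) (g := fun v => -v) fun x hx => by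
        rw [p2 x hx]; simp [pw]]
      simp
  · obtain ⟨t, d, d1, d2, e⟩ := h.top g mg
    rw [e, e, c d d1 d2, Ph_cj h3]

end CF.FusG
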