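import Cfsg.Agent.FusG.QA1
import Cfsg.Agent.FusG.QB1

/-! Fusion systems on a Sylow `p`-subgroup of `G₂(q)`: the automizer of `Q1` as a linear group. -/

set_option autoImplicit false
set_option linter.style.haveILetI false
set_option linter.unusedSimpArgs false
set_option linter.unusedSectionVars false

namespace CF.FusG

open Cfsg Cfsg.FusionSystem Subgroup CF.Fus CF.FusD CF.FusU Function Gu Matrix QA

variable {K : Type} [Field K] [Finite K] {p : ℕ} [Fact p.Prime] [CharP K p]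
  {E F : FusionSystem (⊤ : Subgroup (Gu K))} {g : GL (Fin 4) K}

namespace QA

theorem dG_mul (α β γ δ : Kˣ) : dG α β * dG γ δ = dG (α * γ) (β * δ) := Units.ext (dM_mul ..)

theorem val_sc (β : Kˣ) (v : Fin 4 → K) : (dG 1 β).1 *ᵥ v = (β : K) • v := by
  rw [val_dG, dM_mulVec]; ext i; fin_cases i <;> simp

theorem sc_comm (β : Kˣ) (g : GL (Fin 4) K) : Commute (dG 1 β) g := gl_ext fun v => by
  simp only [Units.val_mul, ← mulVec_mulVec, val_sc, mulVec_smul]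

theorem hb' (h : Nm F p) (h3 : (3 : K) ≠ 0) (h4 : 4 ≤ Nat.card K) (μ : Kˣ) : dG μ⁻¹ (μ ^ 2) ∈ GF F :=
  dG_mem (by simpa using h.hb h3 h4 μ.ne_zero)

theorem dec (h : Nm F p) (h3 : (3 : K) ≠ 0) (h4 : 4 ≤ Nat.card K) (hg : g ∈ GF F ⊔ DT K) :
    ∃ k ∈ GF F, ∃ β, g = k * dG 1 β := by
  let A : Subgroup (GL (Fin 4) K) :=
    { carrier := {g | ∃ k ∈ GF F, ∃ β, g = k * dG 1 β}
      one_mem' := ⟨1, one_mem _, 1, Units.ext (by simp [dM_one])⟩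
      mul_mem' := by
        rintro _ _ ⟨k, a, β, rfl⟩ ⟨l, b, γ, rfl⟩
        exact ⟨_, mul_mem a b, β * γ, by rw [(sc_comm β l).mul_mul_mul_comm, dG_mul, one_mul]⟩
      inv_mem' := by
        rintro _ ⟨k, a, β, rfl⟩
        exact ⟨_, inv_mem a, β⁻¹, by
          rw [_root_.mul_inv_rev, ← (sc_comm β⁻¹ k⁻¹).eq]; congr 1⟩ }
  refine (sup_le (fun k a => ⟨k, a, 1, Units.ext (by simp [dM_one])⟩) ?_ : _ ≤ A) hg
  rintro _ ⟨α, β, rfl⟩
  exact ⟨_, hb' h h3 h4 α⁻¹, α ^ 2 * β, by simp [dG_mul]⟩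

end QA

theorem Nm.lg (h : Nm F p) (h3 : (3 : K) ≠ 0) (h4 : 4 ≤ Nat.card K) :
    Lg p (GF F ⊔ DT K) ∧ Cl (GF F ⊔ DT K) ≤ GF F := by
  have s := syl_GF h.sat
  refine ⟨⟨⟨s.le.trans le_sup_left, s.pg, fun C a b c => s.max C a (fun g hg => ?_) c⟩, le_sup_right, fun g hg => ?_,
    fun g hg n => ?_, fun n => ?_⟩, (closure_le _).2 ?_⟩
  · obtain ⟨k, hk, β, rfl⟩ := dec h h3 h4 (b hg)
    obtain ⟨n, e⟩ := isPGroup_iff_mem.1 c _ hg
    haveI := Fintype.ofFinite K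
    have q : ∀ (β : Kˣ) (m : ℕ), dG (1 : Kˣ) β ^ m = dG 1 (β ^ m) := fun β m => by
      induction m with
      | zero => exact Units.ext (by simp [dM_one])
      | succ m i => rw [pow_succ, i, dG_mul, one_mul, pow_succ]
    rw [(sc_comm β k).symm.mul_pow, q] at e
    obtain ⟨r, er⟩ := exists_pow_eq_self_of_coprime (x := β) (n := p ^ n) ((Nat.Coprime.pow_left n
      ((Nat.Prime.coprime_iff_not_dvd Fact.out).2 fun d => by
        have := (CharP.cast_eq_zero_iff K p _).2 (d.trans (orderOf_dvd_natCard β))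
        rw [Nat.card_units, Nat.cast_pred Nat.card_pos, Nat.card_eq_fintype_card, FiniteField.cast_card_eq_zero] at this
        simp at this)))
    rw [← er, ← q, eq_inv_of_mul_eq_one_right e]
    exact mul_mem hk (pow_mem (inv_mem (pow_mem hk _)) _)
  · obtain ⟨k, ⟨φ, -, m⟩, β, rfl⟩ := dec h h3 h4 hg
    obtain ⟨μ, a, b⟩ := Mt.sim m
    simp only [Units.val_mul, ← mulVec_mulVec, val_sc, a]
    exact ⟨μ * β ^ 2, fun v w => by simp [om]; ring, fun t v => by rw [b t]; simp [qf]; ring⟩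
  · obtain ⟨k, hk, β, rfl⟩ := dec h h3 h4 hg
    obtain ⟨a, γ, δ, -, rfl⟩ := nrm1 h h3 hk (by simpa using mul_mem n (inv_mem (dG_norm 1 β)))
    exact ⟨a, _, _, by rw [mul_assoc, dG_mul]⟩
  · refine not_norm h.sat h.e1 nQ1 fun φ hφ => ?_
    obtain ⟨b, b1, g, m, b2⟩ := frat h.sat h3 hφ
    simpa using mul_mem (inv_mem (norm_of h.sat h3 b1 m (n (mem_sup_left ⟨b, b1, m⟩)))) b2
  · rintro _ ⟨g, hg, a, rfl⟩
    obtain ⟨k, hk, β, rfl⟩ := dec h h3 h4 hg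
    rw [_root_.mul_inv_rev, mul_assoc k, (sc_comm β _).eq, ← mul_assoc, ← mul_assoc, mul_inv_cancel_right]
    exact mul_mem (mul_mem hk (uG_mem a)) (inv_mem hk)

theorem Nm.br (h : Nm F p) (h3 : (3 : K) ≠ 0) (h4 : 4 ≤ Nat.card K) (b : Br (GF F ⊔ DT K)) :
    Tor F ∧ ∃ m, Gn F (Q1 K) m ∧ ∀ x ∈ Q1 K, p1 (fn m x) = wM K *ᵥ p1 x := by
  obtain ⟨w, d⟩ := cl_w b.1 le_sup_right
  have c := (h.lg h3 h4).2
  obtain ⟨m, m1, m2⟩ := c w
  refine ⟨fun α β a0 b0 => (h.dG_iff h3 (.mk0 α a0) (.mk0 β b0)).1 ?_, m, ⟨m1, fun H hm l φ hφ => ?_⟩, m2⟩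
  · generalize Units.mk0 α a0 = α, Units.mk0 β b0 = β
    convert mul_mem (c (d (α ^ 2 * β))) (hb' h h3 h4 (α ^ 3 * β ^ 2)) using 1
    rw [dG_mul]
    congr 1 <;> ext <;> simp <;> field_simp
  obtain ⟨k, k1, g, e, k2⟩ := frat h.sat h3 hφ
  suffices k ∈ H by simpa using mul_mem (inv_mem this) (l ⟨mul_mem k1 hφ, k2⟩)
  obtain n | ⟨_, ⟨a, rfl⟩, n⟩ := b.2 g (mem_sup_left ⟨k, k1, e⟩)
  · exact l ⟨k1, norm_of h.sat h3 k1 e n⟩
  have t := cA_mem_autInducedBy (P := Q1 K) (mem_top (xa a))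
  have u := mul_mem (mul_mem (inv_mem m1) ((syl h.sat).le t)) k1
  simpa [mul_assoc] using mul_mem (inv_mem (mul_mem (inv_mem hm) (l ⟨(syl h.sat).le t, le_normalizer t⟩)))
    (l ⟨u, norm_of h.sat h3 u (((Mt.inv (g := wG K) m2).mul (mt_cA (xa a))).mul e) n⟩)

theorem Nm.gf_le (h : Nm E p) (h3 : (3 : K) ≠ 0) (h4 : 4 ≤ Nat.card K) (c : Cl (GF E ⊔ DT K) ≤ GF F)
    (top : ∀ f, Mor E ⊤ f → Mor F ⊤ f) : GF E ≤ GF F := fun g hg => by
  have l := (h.lg h3 h4).2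
  obtain ⟨b, b1, b2⟩ := ((syl_GF h.sat).mono (by rintro _ ⟨a, rfl⟩; exact uG_cl a) l).frattini (g := g)
    (mem_normalizer_of_le le_top fun _ => cl_conj (mem_sup_left hg))
  obtain ⟨a, α, β, m, e⟩ := nrm1 h h3 (mul_mem (l b1) hg) b2
  simpa using mul_mem (inv_mem (c b1)) (e ▸ mul_mem (uG_mem a) (dG_mem (top _ m)) : b * g ∈ GF F)

end CF.FusG
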