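import Cfsg.Agent.FusG.SG0
import Cfsg.Agent.FusG.QA
import Cfsg.Agent.FusG.QB

/-! Fusion systems on a Sylow `p`-subgroup of `G₂(q)`: the standard form for `p ≠ 3`. -/

set_option autoImplicit false

namespace CF.FusG

open Cfsg Cfsg.FusionSystem Subgroup CF.Fus CF.FusD CF.FusU Function Gu Matrix

variable {K : Type} [Field K] [Finite K] {p : ℕ} [Fact p.Prime] [CharP K p]
  {F : FusionSystem (⊤ : Subgroup (Gu K))}

theorem stdg (h : Nm F p) (h3 : (3 : K) ≠ 0) (h4 : 4 ≤ Nat.card K) (b : Br (GF F ⊔ DT K)) :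
    ∃ (E : FusionSystem (⊤ : Subgroup (Gu K))) (f : Gu K → Gu K), FIso F f E ∧ Sd E p ∧
      ∀ g, Mor E ⊤ g ↔ Mor F ⊤ g :=
  let ⟨t, _, g, e⟩ := h.br h3 h4 b
  stdg0 h h3 (Nat.le_of_succ_le h4) t g e (fun _ => inn1 h.sat h3) fun _ n t => n.g2 h3 h4 (.inr t)

end CF.FusG
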