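import Cfsg.Agent.FusG.C

/-! Fusion systems on a Sylow `p`-subgroup of `G₂(q)`: matrices of automorphisms of `Q1`. -/

set_option autoImplicit false
set_option linter.style.haveILetI false
set_option linter.unusedSimpArgs false
set_option linter.unusedSectionVars false

namespace CF.FusG

open Cfsg Cfsg.FusionSystem Subgroup CF.Fus CF.FusD CF.FusU Function Gu Matrix

variable {K : Type} [Field K] [Finite K] {p : ℕ} [Fact p.Prime] [CharP K p]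
  {E F : FusionSystem (⊤ : Subgroup (Gu K))} {Γ : Subgroup (GL (Fin 4) K)} {φ ψ : MulAut (Q1 K)}
  {g k : GL (Fin 4) K} {x y : Gu K}

namespace QA

/-- `g` is the matrix of `φ` on `Q1 / Z1` -/
def Mt (φ : MulAut (Q1 K)) (g : GL (Fin 4) K) : Prop := ∀ x ∈ Q1 K, p1 (fn φ x) = g.1 *ᵥ p1 x

theorem gl_ext (h : ∀ v, g.1 *ᵥ v = k.1 *ᵥ v) : g = k := Units.ext (mulVec_injective (funext h))

theorem Mt.mul (h : Mt φ g) (h' : Mt ψ k) : Mt (φ * ψ) (g * k) := fun x hx => by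
  rw [fn_mul, h _ (fn_mem ψ hx), h' x hx, mulVec_mulVec]; rfl

theorem Mt.inv (h : Mt φ g) : Mt φ⁻¹ g⁻¹ := fun x hx => by
  rw [← congrArg p1 (fn_fn_inv φ x), h _ (fn_mem _ hx), mulVec_mulVec, ← Units.val_mul, inv_mul_cancel]
  simp

theorem Mt.uniq (h : Mt φ g) (h' : Mt φ k) : g = k := gl_ext fun v => by
  obtain ⟨x, hx, rfl⟩ := p1_sur v
  rw [← h x hx, h' x hx]

theorem Mt.triv (h : Mt φ g) (h' : Mt ψ g) (hx : x ∈ Q1 K) : p1 (fn (ψ⁻¹ * φ) x) = p1 x := by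
  simpa using h'.inv.mul h x hx

theorem mt_cA (t : Gu K) : Mt (cA (Q1 K) t) (uG t.a) := fun x hx => by rw [fn_cA (nQ1 t) hx, p1_cj hx]; rfl

theorem stab_Z1 (h3 : (3 : K) ≠ 0) (φ : MulAut (Q1 K)) : φ ∈ stab (Q1 K) (Z1 K) :=
  mem_stab_of_maps (l13.trans (l34.trans l41)) fun _ hz => CH.cen1 h3 fun _ hy =>
    cm_eq_one.2 (fn_comm φ hz.1 (fun e _ => Z1_comm hz e) hy).symm

theorem p1_inv (hx : x ∈ Q1 K) (e : p1 x = p1 y) (hy : y ∈ Q1 K) : x⁻¹ * y ∈ Z1 K := by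
  have := p1_mul hx (x⁻¹ * y)
  rw [mul_inv_cancel_left, e, left_eq_add] at this
  exact Z1_of_p1 (mul_mem (inv_mem hx) hy) this

theorem cm_eq (hx : x ∈ Q1 K) (hy : y ∈ Q1 K) : cm x y = xz (om (p1 x) (p1 y)) :=
  Z1_ext (cmQ1 hx hy) (xz_mem _) (cm_om hx hy)

theorem om_fn (φ : MulAut (Q1 K)) (hx : x ∈ Q1 K) (hy : y ∈ Q1 K) :
    (fn φ (xz (om (p1 x) (p1 y)))).z = om (p1 (fn φ x)) (p1 (fn φ y)) := by
  rw [← cm_om (fn_mem φ hx) (fn_mem φ hy), ← fn_cm φ hx hy, cm_eq hx hy]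

theorem Mt.z (h : Mt φ g) (c : K) : (fn φ (xz c)).z = om (g.1 *ᵥ ![0, 0, 0, 1]) (g.1 *ᵥ ![1, 0, 0, 0]) * c := by
  have := om_fn φ (x := xs c) (y := xt 1) rfl rfl
  rw [h _ rfl, h _ rfl, show p1 (xs c) = c • ![0, 0, 0, 1] by simp [p1], mulVec_smul] at this
  simp only [om, p1, Pi.smul_apply, smul_eq_mul] at this ⊢
  simp at this ⊢
  linear_combination this

theorem Mt.sim (h : Mt φ g) : ∃ μ : K, (∀ v w, om (g.1 *ᵥ v) (g.1 *ᵥ w) = μ * om v w) ∧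
    ((2 : K) = 0 → ∀ v, qf (g.1 *ᵥ v) = μ * qf v) := by
  refine ⟨om (g.1 *ᵥ ![0, 0, 0, 1]) (g.1 *ᵥ ![1, 0, 0, 0]), fun v w => ?_, fun two v => ?_⟩
  · obtain ⟨x, hx, rfl⟩ := p1_sur v
    obtain ⟨y, hy, rfl⟩ := p1_sur w
    rw [← h x hx, ← h y hy, ← om_fn φ hx hy, h.z]
  · obtain ⟨x, hx, rfl⟩ := p1_sur v
    have k : ∀ y ∈ Q1 K, y * y = xz (qf (p1 y)) := fun y hy => by
      ext <;> simp [qf, p1, mem_Q1.1 hy, ← two_mul, two]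
    rw [← h.z, ← k x hx, mulOn_fn φ hx hx, k _ (fn_mem φ hx), h x hx, xz_z]

theorem fixZ (h3 : (3 : K) ≠ 0) (e : ∀ x ∈ Q1 K, p1 (fn φ x) = p1 x) (hx : x ∈ Z1 K) : fn φ x = x := by
  have := Mt.z (g := 1) (fun x hx => by simpa using e x hx) x.z
  rw [Z1_ext (xz_mem _) hx rfl] at this
  exact Z1_ext (stab_maps (stab_Z1 h3 φ) hx) hx (by simpa [om] using this)

theorem syl (hF : Sat F p) : SylIn p (autInducedBy ⊤ (Q1 K)) (F.autGroup (Q1 K)) :=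
  hF.syl_of_fn (fn_of_norm F le_top fun s _ => nQ1 s)

end QA

open QA

theorem inn1 (hF : Sat F p) (h3 : (3 : K) ≠ 0) {φ : MulAut (Q1 K)} (hφ : φ ∈ F.autGroup (Q1 K))
    (e : ∀ x ∈ Q1 K, p1 (fn φ x) = p1 x) : φ ∈ Inn (Q1 K) := by
  obtain ⟨t, -, -, rfl⟩ := mem_autInducedBy.1 ((syl hF).OpIn_le (mem_OpIn₂ (hF.pgroup le_top)
    (fun ψ _ => stab_Z1 h3 ψ) hφ (fun x hx => p1_inv hx (e x hx).symm (fn_mem φ hx)) fun x _ => fixZ h3 e))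
  exact mem_Inn.2 ⟨t, by
    simpa [uM_mulVec, p1, mem_Q1] using congrFun ((mt_cA t _ rfl).symm.trans (e (xt 1) rfl)) 1, rfl⟩

namespace QA

theorem norm_of (hF : Sat F p) (h3 : (3 : K) ≠ 0) (hφ : φ ∈ F.autGroup (Q1 K)) (h : Mt φ g)
    (n : g ∈ normalizer (PU K : Set (GL (Fin 4) K))) :
    φ ∈ normalizer (autInducedBy ⊤ (Q1 K) : Set (MulAut (Q1 K))) := mem_normalizer_of_le le_top fun ψ hψ => by
  obtain ⟨t, -, -, rfl⟩ := mem_autInducedBy.1 hψ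
  obtain ⟨a, e⟩ := conj_mem_of_norm n ⟨t.a, rfl⟩
  have m := cA_mem_autInducedBy (P := Q1 K) (mem_top (xa a))
  simpa using mul_mem m (Inn_le_autInducedBy le_top (inn1 hF h3 (mul_mem (inv_mem ((syl hF).le m))
    (mul_mem (mul_mem hφ ((syl hF).le hψ)) (inv_mem hφ))) fun x =>
      Mt.triv (e ▸ (h.mul (mt_cA t)).mul h.inv) (mt_cA (xa a))))

theorem norm_to (h : Mt φ g) (n : φ ∈ normalizer (autInducedBy ⊤ (Q1 K) : Set (MulAut (Q1 K)))) :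
    g ∈ normalizer (PU K : Set (GL (Fin 4) K)) := mem_normalizer_of_le le_top (by
  rintro _ ⟨a, rfl⟩
  obtain ⟨t, -, -, e⟩ := mem_autInducedBy.1 (conj_mem_of_norm n (cA_mem_autInducedBy (mem_top (xa a))))
  exact ⟨t.a, ((h.mul (mt_cA (xa a))).mul h.inv).uniq (e ▸ mt_cA t)⟩)

theorem exists_mt (h3 : (3 : K) ≠ 0) (φ : MulAut (Q1 K)) (h : ∀ r : (Fin 4 → K) →+ (Fin 4 → K), Injective r →
    (∀ x ∈ Q1 K, r (p1 x) = p1 (fn φ x)) → ∀ (c : K) v, r (c • v) = c • r v) : ∃ g, Mt φ g := by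
  obtain ⟨ρ, r, hρ⟩ := exists_rp (⊤ : Subgroup (MulAut (Q1 K))) p1 (fun _ hx y _ => p1_mul hx y) p1_sur
    fun φ _ _ hx e => p1_Z1 (stab_maps (stab_Z1 h3 φ) (Z1_of_p1 hx e))
  let L : (Fin 4 → K) →ₗ[K] (Fin 4 → K) := ⟨(ρ φ).toAddHom, h _ (r.inj trivial) (hρ φ trivial)⟩
  have e : ∀ v, LinearMap.toMatrix' L *ᵥ v = ρ φ v := LinearMap.toMatrix'_mulVec L
  exact ⟨(mulVec_injective_iff_isUnit.1 (funext e ▸ r.inj trivial)).unit, fun x hx =>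
    (hρ φ trivial x hx).symm.trans (e _).symm⟩

theorem om_nd (h3 : (3 : K) ≠ 0) {v w : Fin 4 → K} (h : ∀ u, om v u = om w u) : v = w := by
  have a := h ![1, 0, 0, 0]
  have b := h ![0, 1, 0, 0]
  have c := h ![0, 0, 1, 0]
  have d := h ![0, 0, 0, 1]
  simp [om, h3] at a b c d
  ext i; fin_cases i <;> assumption

theorem mt_fix (h3 : (3 : K) ≠ 0) (h : φ ∈ fix (Q1 K) (Z1 K)) : ∃ g, Mt φ g := exists_mt h3 φ fun r i e c v => by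
  have k : ∀ v w, om (r v) (r w) = om v w := fun v w => by
    obtain ⟨x, hx, rfl⟩ := p1_sur v
    obtain ⟨y, hy, rfl⟩ := p1_sur w
    rw [e x hx, e y hy, ← om_fn φ hx hy, h _ (xz_mem _), xz_z]
  refine om_nd h3 fun u => ?_
  obtain ⟨w, rfl⟩ := Finite.surjective_of_injective i u
  have l : ∀ v w : Fin 4 → K, om (c • v) w = c * om v w := fun v w => by simp [om]; ring
  rw [k, l, l, k]

theorem frat (hF : Sat F p) (h3 : (3 : K) ≠ 0) (hφ : φ ∈ F.autGroup (Q1 K)) : ∃ b ∈ F.autGroup (Q1 K), ∃ g, Mt b g ∧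
    b * φ ∈ normalizer (autInducedBy ⊤ (Q1 K) : Set (MulAut (Q1 K))) := by
  obtain ⟨b, b1, b2⟩ := ((syl hF).mono (C := F.autGroup (Q1 K) ⊓ fix (Q1 K) (Z1 K)) (le_inf (syl hF).le fun t ht z hz => by
    obtain ⟨s, -, e⟩ := mem_autInducedBy'.1 ht
    rw [e z hz.1, Z1_comm hz, mul_inv_cancel_right]) inf_le_left).frattini (g := φ) (mem_normalizer_of_le le_top fun _ hx =>
      ⟨mul_mem (mul_mem hφ hx.1) (Subgroup.inv_mem _ hφ), conj_mem_of_norm (stab_le_norm_fix (stab_Z1 h3 φ)) hx.2⟩)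
  exact (mt_fix h3 b1.2).elim fun g e => ⟨b, b1.1, g, e, b2⟩

theorem uG_mem (a : K) : uG a ∈ GF F := ⟨_, autInducedBy_le F le_top (cA_mem_autInducedBy trivial), mt_cA (xa a)⟩

theorem syl_GF (hF : Sat F p) : SylIn p (PU K) (GF F) := by
  classical
  let A : Subgroup (MulAut (Q1 K)) :=
    { carrier := {φ | φ ∈ F.autGroup (Q1 K) ∧ ∃ g, Mt φ g}
      one_mem' := ⟨one_mem _, 1, fun x _ => by simp⟩
      mul_mem' := fun ⟨a, _, b⟩ ⟨c, _, d⟩ => ⟨mul_mem a c, _, b.mul d⟩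
      inv_mem' := fun ⟨a, _, b⟩ => ⟨inv_mem a, _, b.inv⟩ }
  choose! m hm using fun φ (h : φ ∈ A) => h.2
  have l : autInducedBy ⊤ (Q1 K) ≤ A := fun φ h => ⟨(syl hF).le h, by
    obtain ⟨t, -, -, rfl⟩ := mem_autInducedBy.1 h
    exact ⟨_, mt_cA t⟩⟩
  have u : MulOn m A := fun φ a ψ b => (hm _ (mul_mem a b)).uniq ((hm _ a).mul (hm _ b))
  convert ((syl hF).mono l fun _ h => h.1).img_mulOn u using 1 <;> ext g
  · rw [(u.mono l).mem_img]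
    refine ⟨fun ⟨a, e⟩ => ⟨_, cA_mem_autInducedBy (mem_top (xa a)), ?_⟩, fun ⟨φ, h, e⟩ => ?_⟩
    · exact e ▸ (hm _ (l (cA_mem_autInducedBy trivial))).uniq (mt_cA _)
    · obtain ⟨t, -, -, rfl⟩ := mem_autInducedBy.1 h
      exact ⟨t.a, e ▸ (hm _ (l h)).uniq (mt_cA t)⟩
  · rw [u.mem_img]
    exact ⟨fun ⟨φ, a, b⟩ => ⟨φ, ⟨a, g, b⟩, (hm φ ⟨a, g, b⟩).uniq b⟩, fun ⟨φ, a, e⟩ => ⟨φ, a.1, e ▸ hm φ a⟩⟩

theorem dG_mem {α β : Kˣ} (h : Mor F ⊤ (dg (α : K) β 1)) : dG α β ∈ GF F :=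
  let ⟨φ, a, b⟩ := aut_Q1 h
  ⟨φ, a, fun x hx => by rw [b x hx, p1_dg]; rfl⟩

theorem dG_norm (α β : Kˣ) : dG α β ∈ normalizer (PU K : Set (GL (Fin 4) K)) := mem_normalizer_of_le le_top (by
  rintro _ ⟨a, rfl⟩
  refine ⟨α * a, mul_inv_eq_iff_eq_mul.2 (gl_ext fun v => ?_)⟩
  simp only [Units.val_mul, ← mulVec_mulVec, val_uG, val_dG, uM_mulVec, dM_mulVec]
  ext i; fin_cases i <;> simp <;> ring)

theorem nrm1 (h : Nm F p) (h3 : (3 : K) ≠ 0) (hg : g ∈ GF F) (n : g ∈ normalizer (PU K : Set (GL (Fin 4) K))) :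
    ∃ (a : K) (α β : Kˣ), Mor F ⊤ (dg (α : K) β 1) ∧ g = uG a * dG α β := by
  obtain ⟨φ, hφ, m⟩ := hg
  obtain ⟨t, α, β, τ, a0, b0, q, e⟩ := h.ext1 hφ (norm_of h.sat h3 hφ m n)
  have k : ∀ x ∈ Q1 K, g.1 *ᵥ p1 x = uM t.a *ᵥ p1 (dg α β τ x) := fun x hx => by
    rw [← m x hx, e x hx, p1_cj (by simp [mem_Q1, mem_Q1.1 hx])]
  have k' : ∀ s, g.1 0 0 * s = β * τ s := fun s => by
    simpa [uM_mulVec, p1, mulVec, dotProduct, Fin.sum_univ_four, uM] using congrFun (k (xt s) rfl) 0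
  obtain rfl : τ = 1 := RingEquiv.ext fun s => mul_left_cancel₀ b0 (by rw [← k', ← mul_one (g.1 0 0), k']; simp)
  exact ⟨t.a, .mk0 α a0, .mk0 β b0, q, Mt.uniq m fun x hx => by
    rw [m x hx, k x hx, p1_dg, mulVec_mulVec]; rfl⟩

theorem cl_conj (hg : g ∈ Γ) (h : k ∈ Cl Γ) : g * k * g⁻¹ ∈ Cl Γ := by
  induction h using closure_induction with
  | mem _ h => obtain ⟨k, hk, a, rfl⟩ := h; exact subset_closure ⟨g * k, mul_mem hg hk, a, by group⟩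
  | one => simp
  | mul x y _ _ a b => simpa [mul_assoc] using mul_mem a b
  | inv x _ a => simpa [mul_assoc] using inv_mem a

theorem uG_cl (a : K) : uG a ∈ Cl Γ := subset_closure ⟨1, one_mem _, a, by simp⟩

theorem inn_prime (h3 : (3 : K) ≠ 0) (s : Surjective (Nat.cast : ℕ → K)) (e : ∀ x ∈ Q1 K, p1 (fn φ x) = p1 x) :
    φ ∈ Inn (Q1 K) := by
  let t : Gu K := ⟨0, (fn φ (xs 1)).z, -(fn φ (xc 1)).z / 3, (fn φ (xb 1)).z / 3, -(fn φ (xt 1)).z, 0⟩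
  have m : ∀ x ∈ Q1 K, ∀ y ∈ Q1 K, fn φ x = t * x * t⁻¹ → fn φ y = t * y * t⁻¹ → fn φ (x * y) = t * (x * y) * t⁻¹ :=
    fun x hx y hy a b => by rw [mulOn_fn φ hx hy, a, b]; group
  have r : ∀ u : K → Gu K, (∀ c, u c ∈ Q1 K) → (∀ c, u (c + 1) = u c * u 1) → u 0 = 1 →
      (fn φ (u 1)).z = (t * u 1 * t⁻¹).z → ∀ c, fn φ (u c) = t * u c * t⁻¹ := fun u a b c d n => by
    obtain ⟨n, rfl⟩ := s n
    induction n with
    | zero => simp [c, (mulOn_fn φ).map_one]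
    | succ n ih =>
      rw [Nat.cast_succ, b]
      refine m _ (a _) _ (a _) ih ?_
      obtain ⟨e1, e2, e3, e4⟩ := p1_ext_iff.1 ((e _ (a 1)).trans (show _ = p1 (t * u 1 * t⁻¹) by
        rw [p1_cj (a 1), uM_zero, one_mulVec]))
      exact Gu.ext ((fn_mem φ (a 1)).trans (conj_mem_of_norm (nQ1 t) (a 1)).symm) e1 e2 e3 e4 d
  refine mem_Inn.2 ⟨t, rfl, (cA_eq_iff (nQ1 t)).2 fun x hx => ?_⟩
  rw [prod_x x, mem_Q1.1 hx, show xa (0 : K) = 1 from rfl, mul_one]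
  refine m _ (by simp [mem_Q1]) _ rfl (m _ (by simp [mem_Q1]) _ rfl (m _ (by simp [mem_Q1]) _ rfl (m _ rfl _ rfl
    (r xt ?_ ?_ rfl ?_ _) (r xb ?_ ?_ rfl ?_ _)) (r xc ?_ ?_ rfl ?_ _)) (r xs ?_ ?_ rfl ?_ _))
    (by rw [fixZ h3 e (xz_mem _), Z1_comm (xz_mem _), mul_inv_cancel_right])
  all_goals first | exact fun _ => rfl | (intro c; ext <;> simp) | (simp [t]; try field_simp; try ring)

end QA

theorem cl_w (h : wG K ∈ Γ) (hD : DT K ≤ Γ) : wG K ∈ Cl Γ ∧ ∀ α : Kˣ, dG (α ^ 2) (α⁻¹ ^ 3) ∈ Cl Γ := by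
  have v := cl_conj h (uG_cl (Γ := Γ) (-1))
  have w : wG K ∈ Cl Γ := by
    convert mul_mem (mul_mem v (uG_cl (-1))) v using 1
    refine gl_ext fun v => ?_
    simp only [Units.val_mul, ← mulVec_mulVec, val_uG, val_wG, val_inv_wG, neg_mulVec, uM_mulVec, wM_mulVec]
    ext i; fin_cases i <;> simp <;> ring
  refine ⟨w, fun α => ?_⟩
  convert mul_mem (cl_conj (hD ⟨α, 1, rfl⟩) w) (inv_mem w) using 1
  refine gl_ext fun v => ?_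
  simp only [Units.val_mul, ← mulVec_mulVec, val_dG, val_inv_dG, val_wG, val_inv_wG, neg_mulVec, dM_mulVec, wM_mulVec]
  ext i; fin_cases i <;> simp <;> field_simp <;> simp

theorem Nm.dG_iff (h : Nm F p) (h3 : (3 : K) ≠ 0) (α β : Kˣ) : dG α β ∈ GF F ↔ Mor F ⊤ (dg (α : K) β 1) := by
  refine ⟨fun m => ?_, dG_mem⟩
  obtain ⟨a, γ, δ, q, e⟩ := nrm1 h h3 m (dG_norm α β)
  have e0 := congrArg (fun g : GL (Fin 4) K => (g.1 *ᵥ ![1, 0, 0, 0]) 0) e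
  have e1 := congrArg (fun g : GL (Fin 4) K => (g.1 *ᵥ ![0, 1, 0, 0]) 1) e
  simp [← mulVec_mulVec, uM_mulVec, dM_mulVec] at e0 e1
  rw [e0] at e1 ⊢
  rwa [mul_right_cancel₀ δ.ne_zero e1]

theorem gf_prime (h3 : (3 : K) ≠ 0) (hq : Nat.card K = p) :
    (GF E ≤ GF F → E.autGroup (Q1 K) ≤ F.autGroup (Q1 K)) ∧ nn F = Nat.card (GF F) * p ^ 4 := by
  have s : Surjective (Nat.cast : ℕ → K) := fun c => by
    obtain ⟨d, rfl⟩ := ((Nat.bijective_iff_injective_and_card _).2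
      ⟨(ZMod.castHom (dvd_refl p) K).injective, by rw [hq, Nat.card_zmod]⟩).2 c
    obtain ⟨n, rfl⟩ := ZMod.natCast_zmod_surjective d
    exact ⟨n, (map_natCast _ n).symm⟩
  choose m hm using fun φ => exists_mt h3 φ fun r _ _ c v => by
    obtain ⟨n, rfl⟩ := s c
    rw [Nat.cast_smul_eq_nsmul, Nat.cast_smul_eq_nsmul, map_nsmul]
  refine ⟨fun l φ hφ => ?_, ?_⟩
  · obtain ⟨ψ, a, b⟩ := l ⟨φ, hφ, hm φ⟩
    simpa using mul_mem a (Inn_le_autGroup F le_top (inn_prime h3 s fun x => (hm φ).triv b))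
  let M : F.autGroup (Q1 K) →* GL (Fin 4) K := .mk' (fun φ => m φ) fun φ ψ => (hm _).uniq ((hm _).mul (hm _))
  have r : M.range = GF F := by
    ext g
    exact ⟨fun ⟨φ, e⟩ => ⟨φ, φ.2, e ▸ hm φ⟩, fun ⟨φ, a, b⟩ => ⟨⟨φ, a⟩, (hm φ).uniq b⟩⟩
  let j : (Fin 4 → K) → M.ker := fun v => ⟨⟨cA (Q1 K) ⟨0, v 0, v 1, v 2, v 3, 0⟩, cA_mem_autGroup F le_top trivial⟩,
    (hm _).uniq fun x hx => by rw [mt_cA _ x hx]; simp [uM_zero]⟩
  have k : ∀ t ∈ Q1 K, ∀ x ∈ Q1 K, fn (cA (Q1 K) t) x = x * xz (om (p1 x) (p1 t)) := fun t ht x hx => by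
    rw [fn_cA (nQ1 t) hx, ← mul_cm, cm_eq hx ht]
  have b : Bijective j := ⟨fun v w e => ?_, fun φ => ?_⟩
  · rw [nn, ← M.ker.card_mul_index, index_ker, r, ← Nat.card_eq_of_bijective j b, Nat.card_fun, hq, mul_comm]
    simp
  · have e' : cA (Q1 K) ⟨0, v 0, v 1, v 2, v 3, 0⟩ = cA (Q1 K) ⟨0, w 0, w 1, w 2, w 3, 0⟩ := congrArg (·.1.1) e
    refine om_nd h3 fun u => ?_
    obtain ⟨x, hx, rfl⟩ := p1_sur u
    have := congrArg Gu.z (mul_left_cancel ((k _ rfl x hx).symm.trans (e' ▸ k _ rfl x hx)))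
    simp [om, p1] at this ⊢
    linear_combination this
  · obtain ⟨t, ht, e⟩ := mem_Inn.1 (inn_prime (φ := φ.1.1) h3 s fun x hx => by
      rw [hm _ x hx, show m φ.1.1 = 1 from φ.2]; simp)
    refine ⟨p1 t, Subtype.ext (Subtype.ext (Eq.trans ?_ e))⟩
    exact (cA_eq_iff (nQ1 _)).2 fun x hx => by rw [k t ht x hx, ← fn_cA (nQ1 _) hx, k _ rfl x hx]; rfl

end CF.FusG
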