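import Cfsg.Agent.FusG.T1a
import Cfsg.Agent.FusG.QA1
import Cfsg.Agent.FusG.SY

/-! The case `q = 2`: automizers of the Sylow subgroup and of `Q1`. -/

set_option autoImplicit false
set_option linter.style.haveILetI false
set_option linter.unusedSimpArgs false
set_option maxRecDepth 100000

namespace CF.FusG

open Cfsg Cfsg.FusionSystem Subgroup CF.Fus CF.FusD CF.FusU Function Gu Matrix

variable {E F : FusionSystem (⊤ : Subgroup (Gu (ZMod 2)))}

namespace T1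

theorem h3 : (3 : F2) ≠ 0 := by decide

/-- the subgroup between `Z2` and `Z4` that contains the commutators -/
def D : Subgroup (Gu F2) where
  carrier := {x | x.a = 0 ∧ x.t = 0 ∧ x.b = x.c}
  one_mem' := ⟨rfl, rfl, rfl⟩
  mul_mem' := fun {x y} h k => by simp_all
  inv_mem' := fun {x} h => by simp_all

theorem cm_D (x y : Gu F2) : cm x y ∈ D := ⟨cm_a x y, cm_t x y, by
  rw [cm_b, cm_c]
  generalize x.a = a, x.t = t, x.b = b, y.a = c, y.t = d, y.b = e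
  revert a t b c d e
  decide⟩

theorem map_D {f : Gu F2 → Gu F2} (h : PIso f ⊤ ⊤) {x : Gu F2} (hx : x ∈ D) : f x ∈ D := by
  have e : (cm (xt x.b) (xa 1))⁻¹ * x ∈ Z2 F2 :=
    ⟨by simp [hx.1], by simp [hx.2.1], by simp [cm_b, hx.2.1, CharTwo.add_self_eq_zero], by simp [cm_c, hx.2.1, ← hx.2.2, CharTwo.add_self_eq_zero]⟩
  have := map_Z2 h3 h _ e
  rw [CH.pi h, CH.pc h] at this
  exact (D.mul_mem_cancel_left (inv_mem (cm_D _ _))).1 ⟨this.1, this.2.1, this.2.2.1.trans this.2.2.2.symm⟩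

/-- a characteristic chain with factors of order two -/
def ch (j : ℕ) : Subgroup (Gu F2) := match j with
  | 0 => ⊥ | 1 => Z1 _ | 2 => Z2 _ | 3 => D | 4 => Z4 _ | 5 => Q1 _ | _ => ⊤

theorem ch_stab (α : MulAut (⊤ : Subgroup (Gu F2))) : ∀ j, α ∈ stab ⊤ (ch j)
  | 0 => le_stab_bot (mem_top α)
  | 1 => mem_stab_of_maps le_top (map_Z1 h3 (piso_fn α))
  | 2 => mem_stab_of_maps le_top (map_Z2 h3 (piso_fn α))
  | 3 => mem_stab_of_maps le_top fun _ => map_D (piso_fn α)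
  | 4 => mem_stab_of_maps le_top fun x hx => ⟨map_Q1 h3 (piso_fn α) x hx.1, map_Q2 h3 (piso_fn α) x hx.2⟩
  | 5 => mem_stab_of_maps le_top (map_Q1 h3 (piso_fn α))
  | _ + 6 => fun _ => Iff.rfl

theorem two {a b : F2} (h : a = 0 ↔ b = 0) : a = b := by revert a b; decide

theorem ch_two {j : ℕ} (hj : j < 6) {x y : Gu F2} (hx : x ∈ ch (j + 1)) (hy : y ∈ ch (j + 1))
    (h : y ∈ ch j ↔ x ∈ ch j) : x⁻¹ * y ∈ ch j := by
  obtain ⟨a, t, b, c, s, z⟩ := x
  obtain ⟨a', t', b', c', s', z'⟩ := y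
  interval_cases j
  · obtain ⟨rfl, rfl, rfl, rfl, rfl⟩ := mem_Z1.1 hx
    obtain ⟨rfl, rfl, rfl, rfl, rfl⟩ := mem_Z1.1 hy
    obtain rfl : z' = z := two (by simpa [ch, Gu.ext_iff] using h)
    simp [ch]
  · obtain ⟨rfl, rfl, rfl, rfl⟩ := mem_Z2.1 hx
    obtain ⟨rfl, rfl, rfl, rfl⟩ := mem_Z2.1 hy
    obtain rfl : s' = s := two (by simpa [ch, mem_Z1] using h)
    simp [ch, mem_Z1, CharTwo.add_self_eq_zero]
  · obtain ⟨rfl, rfl, rfl⟩ : a = 0 ∧ t = 0 ∧ b = c := hx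
    obtain ⟨rfl, rfl, rfl⟩ : a' = 0 ∧ t' = 0 ∧ b' = c' := hy
    obtain rfl : b' = b := two (by simpa [ch, mem_Z2] using h)
    simp [ch, mem_Z2, CharTwo.add_self_eq_zero]
  · obtain ⟨rfl, rfl⟩ := mem_Z4.1 hx
    obtain ⟨rfl, rfl⟩ := mem_Z4.1 hy
    have : b' = c' ↔ b = c := ⟨fun e => (h.1 ⟨rfl, rfl, e⟩).2.2, fun e => (h.2 ⟨rfl, rfl, e⟩).2.2⟩
    refine ⟨by simp, by simp, ?_⟩
    simp only [mul_b, mul_c, inv_a, inv_b, inv_c]
    clear h hx hy
    revert b c b' c'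
    decide
  · obtain rfl := mem_Q1.1 hx
    obtain rfl := mem_Q1.1 hy
    obtain rfl : t' = t := two (by simpa [ch, mem_Z4] using h)
    simp [ch, mem_Z4, CharTwo.add_self_eq_zero]
  · obtain rfl : a' = a := two h
    simp [ch, mem_Q1, CharTwo.add_self_eq_zero]

end T1

open T1

theorem top2 (hF : Sat F 2) : F.autGroup ⊤ = Inn (⊤ : Subgroup (Gu (ZMod 2))) :=
  le_antisymm (fun α hα => Inn_eq (P := (⊤ : Subgroup (Gu (ZMod 2)))) ▸ (hF.syl_of_fn (fn_top F)).OpIn_le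
    (mem_OpIn_of_chain (hF.pgroup le_top) ch 6 le_rfl (fun j _ β _ => ch_stab β j)
      (fun β _ _ x _ h => by rw [mem_bot.1 h, (mulOn_fn β).map_one]) hα fun j hj x _ hx =>
        ch_two hj hx (stab_maps (ch_stab α _) hx) (ch_stab α j x))) (Inn_le_autGroup F le_rfl)

namespace T1

theorem ck_of {g : G4} (hg : g ∈ GF F) : ck (eg g) = true := by
  obtain ⟨φ, -, h⟩ := hg
  obtain ⟨μ, h1, h2⟩ := QA.Mt.sim h
  have : μ = 1 := by
    by_contra e
    rw [((by decide : ∀ a : F2, a = 0 ∨ a = 1) μ).resolve_right e] at h1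
    have := h1 (g⁻¹.1 *ᵥ ![0, 0, 0, 1]) (g⁻¹.1 *ᵥ ![1, 0, 0, 0])
    simp only [mulVec_mulVec, Units.mul_inv, one_mulVec, zero_mul] at this
    exact absurd this (by decide)
  subst this
  replace h2 := h2 rfl
  have e0 : g.1 *ᵥ ![1, 0, 0, 0] = ![g.1 0 0, g.1 1 0, g.1 2 0, g.1 3 0] := by
    ext i; fin_cases i <;> simp [mulVec, dotProduct, Fin.sum_univ_four]
  have e1 : g.1 *ᵥ ![0, 1, 0, 0] = ![g.1 0 1, g.1 1 1, g.1 2 1, g.1 3 1] := by
    ext i; fin_cases i <;> simp [mulVec, dotProduct, Fin.sum_univ_four]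
  have e2 : g.1 *ᵥ ![0, 0, 1, 0] = ![g.1 0 2, g.1 1 2, g.1 2 2, g.1 3 2] := by
    ext i; fin_cases i <;> simp [mulVec, dotProduct, Fin.sum_univ_four]
  have e3 : g.1 *ᵥ ![0, 0, 0, 1] = ![g.1 0 3, g.1 1 3, g.1 2 3, g.1 3 3] := by
    ext i; fin_cases i <;> simp [mulVec, dotProduct, Fin.sum_univ_four]
  refine all _ _ _ _ ?_ _ _ _ _ ?_ ?_ _ _ _ _ ?_ ?_ ?_ _ _ _ _ ?_ ?_ ?_ ?_ <;>
    simp only [← e0, ← e1, ← e2, ← e3, h1, h2] <;> decide

theorem cls (hF : Sat F 2) {g : G4} (hg : g ∈ GF F) : ∃ x ∈ [1, wG F2, rW, rM, rL], x ∈ GF F ∧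
    ∀ H : Subgroup G4, uG 1 ∈ H → x ∈ H → g ∈ H := by
  have c := ck_of hg
  have u := QA.uG_mem (F := F) 1
  have s := QA.syl_GF hF
  have uu : uG (1 : F2) * uG 1 = 1 := eg_inj (by decide +kernel)
  have pu : ∀ k ∈ PU F2, k = 1 ∨ k = uG 1 := by
    rintro _ ⟨a, rfl⟩
    rcases (by revert a; decide : a = 0 ∨ a = 1) with rfl | rfl
    exacts [.inl (Units.ext uM_zero), .inr rfl]
  simp only [ck, L5.fc_eq, eg_X, ← eg_u, ← eg_1, eg_mul, Bool.or_eq_true, Bool.and_eq_true, List.any_map, List.any_eq_true,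
    Function.comp_apply, beq_iff_eq, bne_iff_ne, ne_eq, eg_iff] at c
  rcases c with ⟨x, hx, c⟩ | c
  · rcases c with ((rfl | rfl) | rfl) | rfl
    · exact ⟨_, hx, hg, fun _ _ h => h⟩
    · exact ⟨x, hx, (mul_mem_cancel_left u).1 hg, fun _ a b => mul_mem a b⟩
    · exact ⟨x, hx, (mul_mem_cancel_right u).1 hg, fun _ a b => mul_mem b a⟩
    · exact ⟨x, hx, (mul_mem_cancel_left u).1 ((mul_mem_cancel_right u).1 hg), fun _ a b => mul_mem (mul_mem a b) a⟩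
  have h1 := mul_mem u (mul_mem hg (mul_mem hg hg))
  have h2 := mul_mem h1 (mul_mem h1 h1)
  generalize uG 1 * (g * (g * g)) * (uG 1 * (g * (g * g)) * (uG 1 * (g * (g * g)))) = k at c h2
  rcases c with ⟨⟨⟨a, b⟩, c⟩, d⟩ | ⟨a, b⟩
  · refine ((pu k (s.le_of_norm (zpowers_le.2 h2) (isPGroup_zpowers (k := 1) (by rwa [pow_one, pow_two]))
      (fun t ht => centralizer_le_normalizer _ (mem_centralizer_iff.2 ?_)) (mem_zpowers k))).elim c d).elim
    rintro _ ⟨n, rfl⟩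
    rcases pu t ht with rfl | rfl
    · simp
    · exact (Commute.zpow_left b n).eq
  · obtain ⟨t, -, e⟩ := s.exists_conj_elt h2 (k := 2) (by rw [← a]; norm_num [pow_succ, mul_assoc])
    have : t * k * t⁻¹ * (t * k * t⁻¹) = 1 := by rcases pu _ e with e | e <;> rw [e] <;> simp [uu]
    exact (b (by simpa [mul_assoc] using congrArg (fun x => t⁻¹ * x * t) this)).elim

/-- two of the four generators give all of them -/
theorem four {H : Subgroup G4} (u : uG 1 ∈ H) (h : wG F2 ∈ H ∧ (rW ∈ H ∨ rM ∈ H ∨ rL ∈ H) ∨ rW ∈ H ∧ (rM ∈ H ∨ rL ∈ H) ∨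
    rM ∈ H ∧ rL ∈ H) : wG F2 ∈ H ∧ rW ∈ H ∧ rM ∈ H ∧ rL ∈ H := by
  have k : wG F2 ∈ H → rM ∈ H → wG F2 ∈ H ∧ rW ∈ H ∧ rM ∈ H ∧ rL ∈ H := fun x y =>
    ⟨x, (eg_inj (by decide +kernel) : wG F2 * rM = rW) ▸ mul_mem x y, y,
      (eg_inj (by decide +kernel) : uG 1 * rM * wG F2 = rL) ▸ mul_mem (mul_mem u y) x⟩
  rcases h with ⟨x, y | y | y⟩ | ⟨x, y | y⟩ | ⟨x, y⟩
  · exact k x ((eg_inj (by decide +kernel) : wG F2 * rW = rM) ▸ mul_mem x y)
  · exact k x y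
  · exact k x ((eg_inj (by decide +kernel) : uG 1 * rL * wG F2 = rM) ▸ mul_mem (mul_mem u y) x)
  · exact k ((eg_inj (by decide +kernel) : rM * rW = wG F2) ▸ mul_mem y x) y
  · exact k ((eg_inj (by decide +kernel) : uG 1 * rW * rL * uG 1 = wG F2) ▸ mul_mem (mul_mem (mul_mem u x) y) u)
      ((eg_inj (by decide +kernel) : rW * uG 1 * rL = rM) ▸ mul_mem (mul_mem x u) y)
  · exact k ((eg_inj (by decide +kernel) : uG 1 * rM * rL = wG F2) ▸ mul_mem (mul_mem u x) y) x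

theorem eq_cl (hF : Sat F 2) {s : Set G4} (u : uG 1 ∈ s) (h : s ⊆ GF F) (a : wG F2 ∈ GF F → wG F2 ∈ Subgroup.closure s)
    (b : rW ∈ GF F → rW ∈ Subgroup.closure s) (c : rM ∈ GF F → rM ∈ Subgroup.closure s) (d : rL ∈ GF F → rL ∈ Subgroup.closure s) :
    GF F = Subgroup.closure s := le_antisymm (fun g hg => by
  obtain ⟨x, hx, k, e⟩ := cls hF hg
  refine e _ (Subgroup.subset_closure u) ?_
  simp only [List.mem_cons, List.not_mem_nil, or_false] at hx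
  rcases hx with rfl | rfl | rfl | rfl | rfl
  exacts [one_mem _, a k, b k, c k, d k]) ((closure_le _).2 h)

end T1

theorem gf2 (hF : Sat F 2) : GF F = Subgroup.closure {uG (1 : ZMod 2)} ∨ GF F = Subgroup.closure {uG (1 : ZMod 2), wG _} ∨ GF F = Subgroup.closure {uG (1 : ZMod 2), rW} ∨
    GF F = Subgroup.closure {uG (1 : ZMod 2), rM} ∨ GF F = Subgroup.closure {uG (1 : ZMod 2), rL} ∨ GF F = Subgroup.closure {uG (1 : ZMod 2), wG _, rM} := by
  have u := QA.uG_mem (F := F) 1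
  by_cases h : wG F2 ∈ GF F ∧ rM ∈ GF F
  · have := four (H := Subgroup.closure {uG (1 : ZMod 2), wG _, rM}) (Subgroup.subset_closure (by simp))
      (.inl ⟨Subgroup.subset_closure (by simp), .inr (.inl (Subgroup.subset_closure (by simp)))⟩)
    exact .inr (.inr (.inr (.inr (.inr (eq_cl hF (by simp) (by simp [Set.insert_subset_iff, u, h]) (fun _ => this.1)
      (fun _ => this.2.1) (fun _ => this.2.2.1) fun _ => this.2.2.2)))))
  have k := mt (fun k => (fun l => ⟨l.1, l.2.2.1⟩) (four u k)) h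
  by_cases a : wG F2 ∈ GF F
  · exact .inr (.inl (eq_cl hF (by simp) (by simp [Set.insert_subset_iff, u, a]) (fun _ => Subgroup.subset_closure (by simp))
      (by tauto) (by tauto) (by tauto)))
  by_cases b : rW ∈ GF F
  · exact .inr (.inr (.inl (eq_cl hF (by simp) (by simp [Set.insert_subset_iff, u, b]) (by tauto)
      (fun _ => Subgroup.subset_closure (by simp)) (by tauto) (by tauto))))
  by_cases c : rM ∈ GF F
  · exact .inr (.inr (.inr (.inl (eq_cl hF (by simp) (by simp [Set.insert_subset_iff, u, c]) (by tauto) (by tauto)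
      (fun _ => Subgroup.subset_closure (by simp)) (by tauto)))))
  by_cases d : rL ∈ GF F
  · exact .inr (.inr (.inr (.inr (.inl (eq_cl hF (by simp) (by simp [Set.insert_subset_iff, u, d]) (by tauto) (by tauto)
      (by tauto) fun _ => Subgroup.subset_closure (by simp))))))
  exact .inl (eq_cl hF (by simp) (by simp [u]) (by tauto) (by tauto) (by tauto) (by tauto))

theorem w2G : ∃ E : FusionSystem (⊤ : Subgroup (Gu (ZMod 2))), Sat E 2 ∧ Rz E 2 ∧ w2 _ ∈ E.autGroup (Q2 _) ∧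
    GF E = Subgroup.closure {uG (1 : ZMod 2), wG _} := by
  obtain ⟨ν, gs, ⟨n, h1⟩, ⟨m, h2⟩, h⟩ := exists_sy (K := ZMod 2) (p := 2)
  obtain ⟨E, r, -⟩ := gs.real
  have u := QA.uG_mem (F := E) 1
  have a : wG F2 ∈ GF E := ⟨w1 _, (aut_real r).2 ⟨n, fun x hx => by rw [fn_w1 hx, h1 x hx]⟩, fun x hx => by
    rw [fn_w1 hx, p1_W1]; rfl⟩
  have c : rM ∉ GF E := by
    rintro ⟨φ, k, e⟩
    obtain ⟨g, hg⟩ := (aut_real r).1 k
    have e1 := e (xs 1) rfl
    rw [show rM.1 *ᵥ p1 (xs 1) = ![0, 1, 0, 1] by decide +kernel] at e1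
    have := h h3 (g * m⁻¹) _ (xz_mem 1) (fn φ (xs 1)) ⟨fn_mem φ (x := xs 1) rfl, congrFun e1 0⟩ (by
      rw [← hg _ rfl, show xz (1 : F2) = W2 (xs 1) by ext <;> simp, ← h2 _ rfl]; group)
    exact absurd (this.2.2.1.symm.trans (congrFun e1 1)) (by decide)
  have k := mt (fun k => (four u k).2.2.1) c
  exact ⟨E, r.sat, ⟨_, _, _, r⟩, (aut_real r).2 ⟨m, fun x hx => by rw [fn_w2 hx, h2 x hx]⟩,
    eq_cl r.sat (by simp) (by simp [Set.insert_subset_iff, u, a]) (fun _ => Subgroup.subset_closure (by simp))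
      (by tauto) (by tauto) (by tauto)⟩

end CF.FusG
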