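import Cfsg.Agent.FusG.T2a
import Cfsg.Agent.FusG.T1
import Cfsg.Agent.FusG.E2
import Cfsg.Agent.FusG.QA1
import Cfsg.Agent.FusG.QB1

/-! Fusion systems on a Sylow `2`-subgroup of `G₂(2)`: the automizer of `Q2`, normal form, uniqueness. -/

set_option autoImplicit false
set_option linter.style.haveILetI false
set_option linter.unusedSimpArgs false
set_option linter.unusedSectionVars false

namespace CF.FusG

open Cfsg Cfsg.FusionSystem Subgroup CF.Fus CF.FusD CF.FusU Function Gu Matrix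

variable {E F : FusionSystem (⊤ : Subgroup (Gu (ZMod 2)))}

namespace T2

local notation "G" => Gu (ZMod 2)
local notation "Q" => Q2 (ZMod 2)
local notation "τ" => cA (Q2 (ZMod 2)) (xt 1)

variable {φ m : MulAut Q} {f : G → G}

theorem h3 : (3 : ZMod 2) ≠ 0 := by decide

theorem sZ (φ : MulAut Q) : φ ∈ stab Q (Z2 _) := haveI := NeZero.mk h3; QB.stab_Z2 φ

/-- the homocyclic subgroup of order sixteen -/
def A4 : Subgroup G where
  carrier := {x | x.a + x.b + x.c = 0 ∧ x.t = 0}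
  one_mem' := ⟨rfl, rfl⟩
  mul_mem' := fun {x y} h k => ⟨by
    simp [k.2, show (2 : ZMod 2) = 0 from rfl]; linear_combination h.1 + k.1, by simp [h.2, k.2]⟩
  inv_mem' := fun {x} h => ⟨by
    simp [h.2, show (2 : ZMod 2) = 0 from rfl]; linear_combination h.1, by simp [h.2]⟩

theorem f1 : ∀ x : G, x.t = 0 → (x.a + x.b + x.c = 0 ↔ (x.a = 0 ∧ x.t = 0 ∧ x.b = 0 ∧ x.c = 0) ∨ x * x ≠ 1) ∧
    ((x * x).a = 0 ∧ (x * x).t = 0 ∧ (x * x).b = 0 ∧ (x * x).c = 0) ∧ (x.a = 0 ∧ x.t = 0 ∧ x.b = 0 ∧ x.c = 0 →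
      x = 1 ∨ x = xz 1 ∨ x = xs 1 ∨ x = xs 1 * xz 1) := by decide +kernel

theorem sA (φ : MulAut Q) : φ ∈ stab Q A4 := mem_stab_of_maps (show A4 ≤ Q from fun _ h => h.2) fun x hx =>
  ⟨(f1 _ (fn_mem φ hx.2)).1.2 (((f1 x hx.2).1.1 hx.1).imp (stab_maps (sZ φ)) fun n e => n (fn_inj φ (by
    rw [mulOn_fn φ hx.2 hx.2, e, (mulOn_fn φ).map_one]))), fn_mem φ hx.2⟩

theorem syl (hF : Sat F 2) : SylIn 2 (autInducedBy ⊤ Q) (F.autGroup Q) :=
  hF.syl_of_fn (fn_of_norm F le_top fun s _ => nQ2 s)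

theorem tau_mem : τ ∈ autInducedBy ⊤ Q := cA_mem_autInducedBy trivial
theorem tau_z : fn τ (xz 1) = xz 1 := (fn_cA (nQ2 _) rfl).trans (by decide)
theorem tau_s : fn τ (xs 1) = xs 1 * xz 1 := (fn_cA (nQ2 _) rfl).trans (by decide)
theorem tau_sz : fn τ (xs 1 * xz 1) = xs 1 := (fn_cA (nQ2 _) rfl).trans (by decide)

theorem inn (hF : Sat F 2) (hφ : φ ∈ F.autGroup Q) (h1 : fn φ (xz 1) = xz 1) (h2 : fn φ (xs 1) = xs 1) : φ ∈ Inn Q := by
  have z : ∀ x ∈ Z2 (ZMod 2), fn φ x = x := fun x hx => by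
    rcases (f1 x hx.2.1).2.2 hx with rfl | rfl | rfl | rfl
    exacts [(mulOn_fn φ).map_one, h1, h2, by rw [mulOn_fn φ rfl rfl, h1, h2]]
  suffices k : φ ∈ OpIn 2 (F.autGroup Q) by
    obtain ⟨t, -, -, rfl⟩ := mem_autInducedBy.1 ((syl hF).OpIn_le k)
    rw [fn_cA (nQ2 t) rfl, mul_inv_eq_iff_eq_mul] at h2
    exact mem_Inn.2 ⟨t, t_zero h2, rfl⟩
  refine mem_OpIn₃ (hF.pgroup le_top) (fun ψ _ => sZ ψ) (fun ψ _ => sA ψ) hφ (fun x hx => ?_) (fun x hx a => ?_)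
    fun x _ => z x
  · have m := fn_mem φ hx
    have e : (fn φ x).a + (fn φ x).b + (fn φ x).c = 0 ↔ x.a + x.b + x.c = 0 := by
      simpa [A4, mem_Q2.1 hx, mem_Q2.1 m] using sA φ x
    refine ⟨?_, mul_mem (inv_mem hx) m⟩
    simp [mem_Q2.1 hx, mem_Q2.1 m, show (2 : ZMod 2) = 0 from rfl]
    linear_combination (by decide : ∀ u v : ZMod 2, (u = 0 ↔ v = 0) → u + v = 0) _ _ e
  · have m := stab_maps (sA φ) a
    have e : fn φ x * fn φ x = x * x := by rw [← mulOn_fn φ hx hx, z _ (f1 x hx).2.1]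
    have es := congrArg Gu.s e
    have ez := congrArg Gu.z e
    have := (by decide +kernel : ∀ a b c a' b' c' : ZMod 2, a + b + c = 0 → a' + b' + c' = 0 →
      a' * c' + a' * b' = a * c + a * b → a' * b' + b' * c' = a * b + b * c → a' = a ∧ b' = b ∧ c' = c) _ _ _ _ _ _ a.1 m.1
      (by simpa [a.2, m.2, show (3 : ZMod 2) = 1 from rfl, CharTwo.add_self_eq_zero, ZMod.pow_card] using es)
      (by simpa [a.2, m.2, show (3 : ZMod 2) = 1 from rfl, CharTwo.add_self_eq_zero, ZMod.pow_card] using ez)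
    simp [mem_Z2, this, a.2, m.2, show (2 : ZMod 2) = 0 from rfl, CharTwo.add_self_eq_zero]

theorem cases (φ : MulAut Q) {x : G} (hx : x ∈ Z2 (ZMod 2)) (n : x ≠ 1) :
    fn φ x = xz 1 ∨ fn φ x = xs 1 ∨ fn φ x = xs 1 * xz 1 :=
  have m := stab_maps (sZ φ) hx
  ((f1 _ m.2.1).2.2 m).resolve_left fun e => n (fn_inj φ (e.trans (mulOn_fn φ).map_one.symm))

theorem fixz (hF : Sat F 2) (hφ : φ ∈ F.autGroup Q) (h : fn φ (xz 1) = xz 1) : φ ∈ autInducedBy ⊤ Q := by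
  rcases cases φ (xs_mem 1) (by decide) with e | e | e
  · exact absurd (fn_inj φ (e.trans h.symm)) (by decide)
  · exact Inn_le_autInducedBy le_top (inn hF hφ h e)
  · simpa using mul_mem (inv_mem tau_mem) (Inn_le_autInducedBy le_top (inn hF (mul_mem ((syl hF).le tau_mem) hφ)
      (by rw [fn_mul, h, tau_z]) (by rw [fn_mul, e, tau_sz])))

theorem gen (hF : Sat F 2) (hm : m ∈ F.autGroup Q) (e : fn m (xz 1) = xs 1) {H : Subgroup (MulAut Q)} (h : m ∈ H)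
    (l : autInducedBy ⊤ Q ≤ H) : F.autGroup Q ≤ H := fun φ hφ => by
  rcases cases φ (l12 (xz_mem 1)) (by decide) with a | a | a
  · exact l (fixz hF hφ a)
  · simpa using mul_mem h (l (fixz hF (mul_mem (inv_mem hm) hφ) (by rw [fn_mul, a, ← e, fn_inv_fn])))
  · simpa using mul_mem (inv_mem (l tau_mem)) (mul_mem h (l (fixz hF (mul_mem (inv_mem hm)
      (mul_mem ((syl hF).le tau_mem) hφ)) (by rw [fn_mul, fn_mul, a, tau_sz, ← e, fn_inv_fn]))))

theorem exists_m (hF : Sat F 2) (h : F.IsEssential 2 Q) :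
    ∃ m ∈ F.autGroup Q, fn m (xz 1) = xs 1 ∧ fn m (xs 1) = xz 1 := by
  have t := (syl hF).le tau_mem
  obtain ⟨m, m1, m2⟩ : ∃ m ∈ F.autGroup Q, fn m (xz 1) = xs 1 := by
    by_contra! c
    refine not_norm hF h nQ2 fun φ hφ => le_normalizer ?_
    rcases cases φ (l12 (xz_mem 1)) (by decide) with a | a | a
    · exact fixz hF hφ a
    · exact absurd a (c φ hφ)
    · exact absurd (by rw [fn_mul, a, tau_sz]) (c _ (mul_mem t hφ))
  rcases cases m (xs_mem 1) (by decide) with a | a | a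
  · exact ⟨m, m1, m2, a⟩
  · exact absurd (fn_inj m (a.trans m2.symm)) (by decide)
  · exact ⟨_, mul_mem m1 t, by rw [fn_mul, tau_z, m2], by rw [fn_mul, tau_s, mulOn_fn m rfl rfl, a, m2]; decide⟩

theorem push {P : Subgroup G} (i : FIso F f E) (h : ∀ x ∈ P, f x ∈ P) {φ : MulAut P} (hφ : φ ∈ F.autGroup P) :
    ∃ ψ ∈ E.autGroup P, ∀ x ∈ P, fn ψ (f x) = f (fn φ x) :=
  have hp := CH.piso_of i.piso h
  ⟨_, (i.autCongr_mem_iff le_top hp).2 hφ, fun _ hx => hp.fn_autCongr φ hx⟩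

theorem push_w (i : FIso F f E) (hφ : φ ∈ F.autGroup Q) (e : ∀ x ∈ Q, W2 (f x) = f (fn φ x)) :
    w2 _ ∈ E.autGroup Q := by
  obtain ⟨ψ, a, b⟩ := push i (map_Q2 h3 i.piso) hφ
  refine (mor_fn le_top a).aut_mem' fun y hy => ?_
  obtain ⟨x, hx, rfl⟩ := (CH.piso_of i.piso (map_Q2 h3 i.piso)).surj hy
  rw [fn_w2 hy, e x hx, b x hx]

theorem exists_w (hF : Sat F 2) (h : F.IsEssential 2 Q) : ∃ (E : FusionSystem (⊤ : Subgroup G)) (f : G → G),
    FIso F f E ∧ w2 _ ∈ E.autGroup Q := by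
  obtain ⟨m, m1, m2, m3⟩ := exists_m hF h
  have t := (syl hF).le tau_mem
  have z : ∀ a : ZMod 2, a = 0 ∨ a = 1 := by decide
  have o := (mulOn_fn m).map_one
  have v : ∀ x ∈ Q, enc (fn m x) = ev (enc (fn m (xa 1))) (enc (fn m (xb 1))) (enc (fn m (xc 1))) (enc x) := fun x hx => by
    obtain ⟨-, -, -, -, ea, -, eb, ec, es⟩ := enc_tab x
    have r : ∀ u : ZMod 2 → G, u 0 = 1 → ∀ a, fn m (u a) = if a = 0 then 1 else fn m (u 1) := fun u e a => by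
      rcases z a with rfl | rfl
      · rw [e, o]; rfl
      · rfl
    have s : fn m (xs x.s * xz x.z) = xz x.s * xs x.z := by
      rw [mulOn_fn m rfl rfl, r xs rfl, r xz rfl, m2, m3]
      rcases z x.s with a | a <;> rcases z x.z with b | b <;> rw [a, b] <;> rfl
    conv_lhs => rw [prod_x x, mem_Q2.1 hx, show xt (0 : ZMod 2) = 1 from rfl, one_mul, mul_assoc _ (xs _),
      mulOn_fn m (by simp [mem_Q2]) rfl, mulOn_fn m (by simp [mem_Q2]) (by simp [mem_Q2]), mulOn_fn m rfl rfl, s,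
      r xa rfl, r xb rfl, r xc rfl]
    simp only [enc_mul _ (ite _ _ _), enc_mul _ (xz _ * _), es, apply_ite enc, ea, eb, ec]
    rfl
  have q : ∀ x ∈ Q, enc x / 2 % 2 = 0 := fun x hx => (enc_tab x).2.2.2.2.2.1.1 hx
  have s : ∀ x ∈ Q, ∀ y, fn m (x * x) = y → ml (enc (fn m x)) (enc (fn m x)) = enc y := fun x hx y e => by
    rw [← enc_mul, ← mulOn_fn m hx hx, e]
  have n : ∀ φ ∈ Inn Q, ∀ g : ℕ → ℕ, (∀ x ∈ Q, enc (fn φ x) = g (enc x)) → In g := fun φ hφ g e => by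
    obtain ⟨u, hu, rfl⟩ := mem_Inn.1 hφ
    have k : ∀ x ∈ Q, g (enc x) = ct (enc u) (enc x) := fun x hx => by rw [← e x hx, fn_cA (nQ2 u) hx, enc_ct]
    have := in_ct _ (enc_tab u).2.1 (q u hu)
    rw [In, show g 1 = ct (enc u) 1 from k (xa 1) rfl, show g 4 = ct (enc u) 4 from k (xb 1) rfl,
      show g 8 = ct (enc u) 8 from k (xc 1) rfl]
    exact this
  have w : ∀ x ∈ Q, enc (fn (m * τ) x) = (ev (enc (fn m (xa 1))) (enc (fn m (xb 1))) (enc (fn m (xc 1))) ∘ ct 2) (enc x) :=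
    fun x hx => by rw [fn_mul, v _ (fn_mem _ hx), fn_cA (nQ2 _) hx, enc_ct]; rfl
  have a1 : fn (m * τ) (xz 1) = xs 1 := by rw [fn_mul, tau_z, m2]
  have a2 : fn (m * τ) (xs 1) = xs 1 * xz 1 := by rw [fn_mul, tau_s, mulOn_fn m rfl rfl, m2, m3]; decide
  have a3 : fn (m * τ) (xs 1 * xz 1) = xz 1 := by rw [fn_mul, tau_sz, m3]
  have mt := mul_mem m1 t
  obtain ⟨T, hT, u, hu, e⟩ := of_decide_eq_true (chk _ (enc_tab _).2.1 ⟨q _ (fn_mem m (x := xc 1) rfl), s _ rfl 1 o⟩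
    _ (enc_tab _).2.1 ⟨q _ (fn_mem m (x := xa 1) rfl), s _ rfl 1 o, by
      rw [← enc_mul, ← mulOn_fn m rfl rfl]; exact s (xa 1 * xc 1) rfl (xz 1) m3⟩
    _ (enc_tab _).2.1 ⟨q _ (fn_mem m (x := xb 1) rfl), s _ rfl 1 o, by
      rw [← enc_mul, ← mulOn_fn m rfl rfl]; exact s (xb 1 * xc 1) rfl (xs 1) m2,
    n _ (inn hF (mul_mem m1 m1) (by rw [fn_mul, m2, m3]) (by rw [fn_mul, m3, m2])) _ fun x hx => by
      rw [fn_mul, v _ (fn_mem m hx), v x hx]; rfl,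
    n _ (inn hF (mul_mem mt (mul_mem mt mt)) (by rw [fn_mul, fn_mul _ (m * τ), a1, a2, a3])
      (by rw [fn_mul, fn_mul _ (m * τ), a2, a3, a1])) _ fun x hx => by
      rw [fn_mul, fn_mul _ (m * τ), w _ (fn_mem _ (fn_mem _ hx)), w _ (fn_mem _ hx), w x hx]; rfl⟩)
  obtain ⟨E, i⟩ := exists_fiso F (piso_au hT)
  refine ⟨E, _, i, push_w i (mul_mem (cA_mem_autGroup F le_top (mem_top (dec u))) m1) fun x hx => enc_inj ?_⟩
  rw [(enc_tab _).2.2.2.1, enc_au, enc_au, e _ (enc_tab x).2.1 (q x hx), fn_mul, fn_cA (nQ2 _) (fn_mem m hx), enc_ct,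
    enc_dec u hu, v x hx]

theorem top (hE : Sat E 2) (h : Mor E ⊤ f) : Mor F ⊤ f := by
  obtain ⟨α, a, b⟩ := h.iso_top.exists_aut
  exact (mor_fn le_rfl (Inn_le_autGroup F le_rfl (top2 hE ▸ a))).congr fun x hx => (b x hx).symm

theorem mt (φ : MulAut (Q1 (ZMod 2))) : ∃ g, QA.Mt φ g := QA.exists_mt h3 φ fun r _ _ c v => by
  rcases (by decide : ∀ a : ZMod 2, a = 0 ∨ a = 1) c with rfl | rfl <;> simp

/-- the stabilizer of a plane -/
def St : Subgroup (GL (Fin 4) (ZMod 2)) where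
  carrier := {g | ∀ v, (g.1 *ᵥ v) 0 = 0 ∧ (g.1 *ᵥ v) 1 = 0 ↔ v 0 = 0 ∧ v 1 = 0}
  one_mem' := fun v => by simp
  mul_mem' := fun {g k} a b v => by rw [Units.val_mul, ← mulVec_mulVec, a, b]
  inv_mem' := fun {g} a v => by rw [← a, mulVec_mulVec, ← Units.val_mul, mul_inv_cancel, Units.val_one, one_mulVec]

theorem w_z : fn (w2 (ZMod 2)) (xz 1) = xs 1 := (fn_w2 rfl).trans (by decide)

theorem four (hF : Sat F 2) (h : Na F) (w : w2 _ ∈ F.autGroup Q) :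
    GF F = Subgroup.closure {uG (1 : ZMod 2), rW} ∨ GF F = Subgroup.closure {uG (1 : ZMod 2), wG _} ∨
      GF F = Subgroup.closure {uG (1 : ZMod 2), rM} ∨ GF F = Subgroup.closure {uG (1 : ZMod 2), wG _, rM} := by
  have es := es2 rfl hF
  rcases gf2 hF with e | e | e | e | e | e
  · refine absurd (fun φ hφ => ?_) (not_norm hF (both hF es h).1 nQ1)
    obtain ⟨g, a⟩ := mt φ
    exact QA.norm_of hF h3 hφ a (le_normalizer ((closure_le (PU _)).2 (Set.singleton_subset_iff.2 ⟨1, rfl⟩)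
      (e.le ⟨φ, hφ, a⟩)))
  · exact .inr (.inl e)
  · exact .inl e
  · exact .inr (.inr (.inl e))
  · refine (h.not_normal (show F.IsNormal (Z3 _) from hF.normal_of_ess fun P hP => ?_) l13).elim
    have k : ∀ P, Z3 (ZMod 2) ≤ P → autInducedBy ⊤ P ≤ stab P (Z3 _) := fun P l φ hφ => by
      obtain ⟨t, -, e⟩ := mem_autInducedBy'.1 hφ
      exact mem_stab_of_maps l fun x hx => e x (l hx) ▸ conj_mem_of_norm (nZ3 t) hx
    rcases hP with rfl | hP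
    · exact ⟨le_top, (top2 hF).le.trans ((Inn_le_autInducedBy le_rfl).trans (k _ le_top))⟩
    rcases es P hP with rfl | rfl
    · refine ⟨l34.trans l41, fun φ hφ => mem_stab_of_maps (l34.trans l41) fun x hx => ?_⟩
      obtain ⟨g, a⟩ := mt φ
      have := ((closure_le St).2 (by rintro _ (rfl | rfl) <;> (show ∀ v, _; decide +kernel)) (e.le ⟨φ, hφ, a⟩) (p1 x)).2
        hx.2
      rw [← a x hx.1] at this
      exact ⟨fn_mem φ hx.1, this⟩
    · exact ⟨l34.trans l42, gen hF w w_z (mem_stab_of_maps (l34.trans l42) fun x hx => by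
        rw [fn_w2 hx.2.1]; exact ⟨hx.2.2, rfl, neg_eq_zero.2 hx.1⟩) (k _ (l34.trans l42))⟩
  · exact .inr (.inr (.inr e))

end T2

open T2

theorem g2_of (hF : Sat F 2) (h : w2 _ ∈ F.autGroup (Q2 _)) : Gn F (Q2 _) (w2 _) :=
  ⟨h, fun _ a b => gen hF h w_z a fun _ c => b ⟨(syl hF).le c, le_normalizer c⟩⟩

theorem nm2 (hF : Sat F 2) (h : Na F) : ∃ (E : FusionSystem (⊤ : Subgroup (Gu (ZMod 2)))) (f : _), FIso F f E ∧
    w2 _ ∈ E.autGroup (Q2 _) ∧ (GF E = Subgroup.closure {uG (1 : ZMod 2), wG _} ∨ GF E = Subgroup.closure {uG (1 : ZMod 2), rM} ∨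
      GF E = Subgroup.closure {uG (1 : ZMod 2), wG _, rM}) := by
  obtain ⟨E, f, i, w⟩ := exists_w hF (both hF (es2 rfl hF) h).2
  have hE := i.sat' hF
  have nE := na_fiso h3 i h
  rcases four hE nE w with e | e
  swap
  · exact ⟨E, f, i, w, e⟩
  obtain ⟨D, j⟩ := exists_fiso E (piso_au (T := TH) (by simp [TS]))
  have w' := push_w j (mul_mem (cA_mem_autGroup E le_top (mem_top ⟨1, 0, 1, 1, 0, 0⟩)) w) fun x hx => by
    rw [(th x).2 hx, fn_mul, fn_cA (nQ2 _) (fn_mem _ hx), fn_w2 hx]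
  refine ⟨D, _, i.trans j, w', (four (j.sat' hE) (na_fiso h3 j nE) w').resolve_left fun e' => ?_⟩
  obtain ⟨φ, a, b⟩ := e.ge (subset_closure (show rW ∈ _ by simp))
  obtain ⟨ψ, c, d⟩ := push j (map_Q1 h3 j.piso) a
  obtain ⟨g, k⟩ := T2.mt ψ
  have s : g.1 *ᵥ ![0, 1, 1, 1] = ![0, 1, 1, 1] := (closure_le (MulAction.stabilizer _ ![(0 : ZMod 2), 1, 1, 1])).2
    (by rintro _ (rfl | rfl) <;> (show _ *ᵥ _ = _; decide +kernel)) (e'.le ⟨ψ, c, k⟩)
  have u := k _ (map_Q1 h3 j.piso (xb 1 * xc 1) rfl)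
  rw [d _ rfl, (th _).1, (th _).1, b _ rfl, show hT.1 *ᵥ p1 (xb 1 * xc 1) = ![0, 1, 1, 1] by decide +kernel, s] at u
  exact absurd u (by decide +kernel)

theorem eq2 (hE : Sat E 2) (hF : Sat F 2) (e : w2 _ ∈ E.autGroup (Q2 _)) (e' : w2 _ ∈ F.autGroup (Q2 _))
    (h : GF E = GF F) : E = F :=
  have k : ∀ {E F : FusionSystem (⊤ : Subgroup (Gu (ZMod 2)))}, Sat E 2 → w2 _ ∈ E.autGroup (Q2 _) →
      w2 _ ∈ F.autGroup (Q2 _) → GF E ≤ GF F → E.IsSubsystemOf F := fun hE e e' h =>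
    sub_of hE (es2 rfl hE) (fun _ => top hE) ((gf_prime (p := 2) h3 (Nat.card_zmod 2)).1 h)
      ((g2_of hE e).le hE nQ2 e' fun _ => top hE)
  eq_of_sub (k hE e e' h.le) (k hF e' e h.ge)

end CF.FusG
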