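import Cfsg.Agent.FusG.C
import Cfsg.Agent.PLocal.G3z
import Cfsg.Agent.Comp.PG2
import Cfsg.Agent.Chev.Types

/-! The `2`-fusion system of `G₂(3)`. -/

set_option autoImplicit false
set_option maxRecDepth 100000
set_option linter.style.haveILetI false
set_option linter.unusedSectionVars false

namespace CF.FusG

open Cfsg Cfsg.FusionSystem Subgroup CF.Fus CF.FusD CF.FusU Function Gu Matrix CF.Comp

namespace W3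

section

variable {K : Type*} [Field K] [Finite K] {G : Type*} [Group G] {ι : Gu K →* G} {p : ℕ}
  {E : FusionSystem (⊤ : Subgroup (Gu K))}

theorem real_of [Finite G] (h : Injective ι) (s : SylIn p ι.range ⊤) :
    ∃ E : FusionSystem (⊤ : Subgroup (Gu K)), Real E p ι ⊤ := by
  have i : PIso ι ⊤ ι.range := ι.range_eq_map ▸ piso_hom ι h ⊤
  obtain ⟨E, e⟩ := exists_fiso (FG ⊤ ι.range le_top) i.symm
  exact ⟨E, (e.symm' fun x hx => i.apply_pinv hx).toReal s⟩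

theorem gf_of (r : Real E p ι ⊤) {n : G} {φ : Gu K → Gu K} {m : GL (Fin 4) K} (h1 : ∀ x ∈ Q1 K, φ x ∈ Q1 K)
    (h2 : ∀ x ∈ Q1 K, n * ι x * n⁻¹ = ι (φ x)) (h3 : ∀ x ∈ Q1 K, p1 (φ x) = m.1 *ᵥ p1 x) : m ∈ GF E := by
  have a : Mor E (Q1 K) φ := r.mor' le_top (mem_top n) (fun _ _ => trivial) h2
  obtain ⟨α, e⟩ := (piso_self_of_maps a.mul a.inj h1).exists_aut
  exact ⟨α, a.aut_mem' e, fun x hx => e x hx ▸ h3 x hx⟩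

theorem hom_of {f : Gu K → G} (h : ∀ x a, f (x * xt a) = f x * f (xt a) ∧ f (x * xb a) = f x * f (xb a) ∧
    f (x * xc a) = f x * f (xc a) ∧ f (x * xs a) = f x * f (xs a) ∧ f (x * xz a) = f x * f (xz a) ∧
      f (x * xa a) = f x * f (xa a)) (x y : Gu K) : f (x * y) = f x * f y := by
  rw [prod_x y]
  simp only [← mul_assoc, h]

end

/-- the matrices of the root elements and of three more elements of `G₂(3)`, and their inverses -/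
def MM : List (List (List ℕ)) :=
  [[[1,0,0,0,0,0,0,0],[0,1,0,0,0,0,0,0],[0,0,1,0,0,0,0,0],[0,0,0,1,0,0,0,0],[0,0,0,0,1,0,0,0],[0,0,0,0,0,1,0,0],[0,0,0,0,0,0,1,0],[0,0,0,0,0,0,0,1]],
  [[0,0,0,0,0,0,0,1],[0,0,0,0,2,0,0,0],[0,0,0,0,0,1,1,0],[0,0,0,0,0,1,2,0],[0,2,0,0,0,0,0,0],[0,0,2,2,0,0,0,0],[0,0,2,1,0,0,0,0],[1,0,0,0,0,0,0,0]],
  [[0,0,0,0,0,0,0,1],[0,0,0,0,2,0,0,0],[0,0,0,0,0,1,1,0],[0,0,0,0,0,1,2,0],[0,2,0,0,0,0,0,0],[0,0,2,2,0,0,0,0],[0,0,2,1,0,0,0,0],[1,0,0,0,0,0,0,0]],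
  [[2,1,0,0,1,0,0,2],[1,1,0,0,2,0,0,2],[0,0,1,1,0,1,2,0],[0,0,1,2,0,2,2,0],[1,2,0,0,1,0,0,2],[0,0,1,2,0,1,1,0],[0,0,2,2,0,1,2,0],[2,2,0,0,2,0,0,2]],
  [[2,1,0,0,1,0,0,2],[1,1,0,0,2,0,0,2],[0,0,1,1,0,1,2,0],[0,0,1,2,0,2,2,0],[1,2,0,0,1,0,0,2],[0,0,1,2,0,1,1,0],[0,0,2,2,0,1,2,0],[2,2,0,0,2,0,0,2]],
  [[2,1,0,0,1,0,0,2],[1,1,0,0,2,0,0,2],[0,0,0,1,0,1,0,0],[0,0,2,0,0,0,1,0],[1,2,0,0,1,0,0,2],[0,0,2,0,0,0,2,0],[0,0,0,2,0,1,0,0],[2,2,0,0,2,0,0,2]],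
  [[2,1,0,0,1,0,0,2],[1,1,0,0,2,0,0,2],[0,0,0,1,0,1,0,0],[0,0,2,0,0,0,1,0],[1,2,0,0,1,0,0,2],[0,0,2,0,0,0,2,0],[0,0,0,2,0,1,0,0],[2,2,0,0,2,0,0,2]],
  [[2,2,0,0,2,0,0,2],[2,1,0,0,2,0,0,1],[0,0,2,1,0,2,2,0],[0,0,1,1,0,2,1,0],[2,2,0,0,1,0,0,1],[0,0,2,2,0,2,1,0],[0,0,2,1,0,1,1,0],[2,1,0,0,1,0,0,2]],
  [[2,2,0,0,2,0,0,2],[2,1,0,0,2,0,0,1],[0,0,2,1,0,2,2,0],[0,0,1,1,0,2,1,0],[2,2,0,0,1,0,0,1],[0,0,2,2,0,2,1,0],[0,0,2,1,0,1,1,0],[2,1,0,0,1,0,0,2]],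
  [[1,0,0,0,0,0,0,0],[0,1,0,0,0,0,0,0],[0,0,2,0,0,0,0,0],[0,0,0,2,0,0,0,0],[0,0,0,0,1,0,0,0],[0,0,0,0,0,2,0,0],[0,0,0,0,0,0,2,0],[0,0,0,0,0,0,0,1]],
  [[1,0,0,0,0,0,0,0],[0,1,0,0,0,0,0,0],[0,0,2,0,0,0,0,0],[0,0,0,2,0,0,0,0],[0,0,0,0,1,0,0,0],[0,0,0,0,0,2,0,0],[0,0,0,0,0,0,2,0],[0,0,0,0,0,0,0,1]],
  [[1,0,0,0,1,0,0,0],[1,2,0,0,1,0,0,2],[0,0,1,0,0,0,0,0],[0,0,2,2,0,0,0,0],[0,0,0,0,2,0,0,0],[0,0,1,1,0,1,2,0],[0,0,1,0,0,0,2,0],[0,0,0,0,2,0,0,1]],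
  [[1,0,0,0,1,0,0,0],[1,2,0,0,1,0,0,2],[0,0,1,0,0,0,0,0],[0,0,2,2,0,0,0,0],[0,0,0,0,2,0,0,0],[0,0,1,1,0,1,2,0],[0,0,1,0,0,0,2,0],[0,0,0,0,2,0,0,1]],
  [[1,2,0,0,0,0,0,0],[0,2,0,0,0,0,0,0],[0,0,1,0,0,0,2,0],[0,0,2,2,0,2,1,0],[2,1,0,0,2,0,0,1],[0,0,0,0,0,1,2,0],[0,0,0,0,0,0,2,0],[0,1,0,0,0,0,0,1]],
  [[1,2,0,0,0,0,0,0],[0,2,0,0,0,0,0,0],[0,0,1,0,0,0,2,0],[0,0,2,2,0,2,1,0],[2,1,0,0,2,0,0,1],[0,0,0,0,0,1,2,0],[0,0,0,0,0,0,2,0],[0,1,0,0,0,0,0,1]],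
  [[1,2,0,1,2,2,2,0],[2,2,2,1,2,1,2,1],[1,2,0,2,2,0,2,2],[1,0,1,0,1,2,1,2],[2,2,1,0,2,1,0,1],[0,2,0,1,1,0,1,0],[2,0,1,2,2,2,0,1],[0,1,0,2,1,1,1,1]],
  [[1,2,0,2,2,1,1,0],[2,2,1,2,2,2,1,1],[2,1,0,2,1,0,2,1],[2,0,1,0,2,2,1,1],[2,2,2,0,2,2,0,1],[0,1,0,1,2,0,1,0],[1,0,1,2,1,2,0,2],[0,1,0,1,1,2,2,1]],
  [[1,2,0,0,0,0,0,0],[0,1,0,0,0,0,0,0],[0,0,0,1,0,1,0,0],[0,0,2,2,0,2,1,0],[1,2,0,0,1,0,0,2],[0,0,0,0,0,2,1,0],[0,0,0,0,0,2,0,0],[0,1,0,0,0,0,0,1]],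
  [[1,1,0,0,0,0,0,0],[0,1,0,0,0,0,0,0],[0,0,2,2,0,1,2,0],[0,0,1,0,0,0,1,0],[2,2,0,0,1,0,0,1],[0,0,0,0,0,0,2,0],[0,0,0,0,0,1,2,0],[0,2,0,0,0,0,0,1]]]

/-- the word of an element of the model -/
def wd (x : Gu (ZMod 2)) : List ℕ := (if x.t = 0 then [] else [1]) ++ (if x.b = 0 then [] else [3]) ++
  (if x.c = 0 then [] else [5]) ++ (if x.s = 0 then [] else [7]) ++ (if x.z = 0 then [] else [9]) ++
    if x.a = 0 then [] else [11]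

/-- an automorphism of order three of `Q1` -/
def ro (x : Gu (ZMod 2)) : Gu (ZMod 2) := ⟨0, x.c, x.s, x.t + x.c, x.b + x.s, x.z + x.c * x.s + x.b * x.c + x.t * x.s⟩

/-- two words have the same value -/
noncomputable def eq (l m : List ℕ) : Bool := wordIs (tabP 3) 8 9 MM (l ++ winv m) (scalM 8 1)

theorem c1 : ∀ n < 9, ∀ k l : Fin 8, ∀ A : Matrix (Fin 8) (Fin 8) (ZMod 3),
    A = mat Nat.cast (Equiv.refl _) (nth [] MM (2 * n + 1)) →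
    A *ᵥ Lie.zornMul (Pi.single k 1) (Pi.single l 1) = Lie.zornMul (A *ᵥ Pi.single k 1) (A *ᵥ Pi.single l 1) := by
  simp only [forall_eq]
  decide +kernel

theorem c2 : ∀ x : Gu (ZMod 2), ∀ y ∈ [xt 1, xb 1, xc 1, xs 1, xz 1, xa 1], eq (wd (x * y)) (wd x ++ wd y) = true := by
  decide +kernel

theorem c3 : ∀ x : Gu (ZMod 2), (x ≠ 1 → wordNe (tabP 3) 8 9 MM (wd x) = true) ∧
    (x.a = 0 → eq ([2 * 6 + 1] ++ wd x ++ [2 * 6 + 2]) (wd (W1 x)) = true ∧ eq ([2 * 8 + 1] ++ wd x ++ [2 * 8 + 2]) (wd (ro x)) = true) ∧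
      (x.t = 0 → eq ([2 * 7 + 1] ++ wd x ++ [2 * 7 + 2]) (wd (W2 x)) = true) := by decide +kernel

theorem zm_of {A : Matrix (Fin 8) (Fin 8) (ZMod 3)} (h : ∀ k l : Fin 8,
    A *ᵥ Lie.zornMul (Pi.single k 1) (Pi.single l 1) = Lie.zornMul (A *ᵥ Pi.single k 1) (A *ᵥ Pi.single l 1))
    (x y : Fin 8 → ZMod 3) : A *ᵥ Lie.zornMul x y = Lie.zornMul (A *ᵥ x) (A *ᵥ y) :=
  LinearMap.congr_fun₂ (LinearMap.ext_basis (Pi.basisFun _ _) (Pi.basisFun _ _) fun i j => by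
    simpa [Geom.zm] using h i j : (Geom.zm _).compr₂ (mulVecLin A) = (Geom.zm _).compl₁₂ (mulVecLin A) (mulVecLin A)) x y

theorem io_of {G : Type*} [Group G] {f : ℕ → G} (e : ∀ {l m}, eq l m = true → ev f l = ev f m)
    (n : ∀ {l}, wordNe (tabP 3) 8 9 MM l = true → ev f l ≠ 1) : ∃ ι : Gu (ZMod 2) →* G, Injective ι ∧
      (∃ n, ∀ x ∈ Q1 _, n * ι x * n⁻¹ = ι (W1 x)) ∧ (∃ n, ∀ x ∈ Q1 _, n * ι x * n⁻¹ = ι (ro x)) ∧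
        ∃ n, ∀ x ∈ Q2 _, n * ι x * n⁻¹ = ι (W2 x) := by
  have k : ∀ x (g : ZMod 2 → Gu (ZMod 2)), g 0 = 1 → g 1 ∈ [xt 1, xb 1, xc 1, xs 1, xz 1, xa 1] → ∀ a,
      ev f (wd (x * g a)) = ev f (wd x) * ev f (wd (g a)) := fun x g g0 g1 a => by
    obtain rfl | rfl : a = 0 ∨ a = 1 := by revert a; decide
    · rw [g0, mul_one]; exact (mul_one _).symm
    · rw [e (c2 x _ g1), ev_append]
  have cj : ∀ i {l m}, eq ([2 * i + 1] ++ l ++ [2 * i + 2]) m = true → f i * ev f l * (f i)⁻¹ = ev f m := fun i l m h => by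
    rw [← e h, ev_append, ev_append, ev_single]; simp [ev, evL_even]
  have m := hom_of (f := fun x => ev f (wd x)) fun x a => ⟨k x xt rfl (by simp) a, k x xb rfl (by simp) a,
    k x xc rfl (by simp) a, k x xs rfl (by simp) a, k x xz rfl (by simp) a, k x xa rfl (by simp) a⟩
  obtain ⟨ι, q⟩ : ∃ ι : Gu (ZMod 2) →* G, ∀ x, ι x = ev f (wd x) := ⟨.mk' _ m, fun _ => rfl⟩
  refine ⟨ι, (injective_iff_map_eq_one _).2 fun x a => by_contra fun c => n ((c3 x).1 c) (q x ▸ a),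
    ⟨f 6, fun x hx => ?_⟩, ⟨f 8, fun x hx => ?_⟩, f 7, fun x hx => ?_⟩ <;> rw [q, q]
  exacts [cj 6 ((c3 x).2.1 hx).1, cj 8 ((c3 x).2.1 hx).2, cj 7 ((c3 x).2.2 hx)]

theorem exists_io : ∃ ι : Gu (ZMod 2) →* Lie.G2 (ZMod 3), Injective ι ∧ (∃ n, ∀ x ∈ Q1 _, n * ι x * n⁻¹ = ι (W1 x)) ∧
    (∃ n, ∀ x ∈ Q1 _, n * ι x * n⁻¹ = ι (ro x)) ∧ ∃ n, ∀ x ∈ Q2 _, n * ι x * n⁻¹ = ι (W2 x) := by
  have T := tabP_ok (ZMod 3) 3 (by norm_num)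
  have lo : letOK (tabP 3) 8 9 MM = true := by decide +kernel
  obtain ⟨f, hf, -⟩ := exists_els (glMat (Lie.G2 (ZMod 3))) (m := 9)
    (M := fun n => mat Nat.cast (Equiv.refl _) (nth [] MM (2 * n + 1))) fun n hn =>
      ⟨⟨T.gl (Equiv.refl _) _ _ (letOK_inv lo hn), zm_of fun k l => c1 n hn k l _ rfl⟩, rfl⟩
  have R := T.matRep hf lo
  refine io_of (f := f) (fun h => ?_) R.ne_one
  have := R.rels (glMat_inj _) (rs := [_]) (lall_iff.2 fun r hr => List.mem_singleton.1 hr ▸ h) _ (List.mem_singleton_self _)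
  rwa [ev_append, ev_winv, mul_inv_eq_one] at this

theorem card : Nat.card (Lie.G2 (ZMod 3)) = 64 * 66339 := by
  obtain ⟨e⟩ := G23.Z3.zorn_iso (F := ZMod 3) (ZMod.card 3)
  rw [Nat.card_congr e.toEquiv, Chev.cardG2 (ZMod 3) (Nat.card_zmod 3)]; rfl

/-- the stabilizer of a set of vectors -/
def sb (O : (Fin 4 → ZMod 2) → Prop) : Subgroup (GL (Fin 4) (ZMod 2)) where
  carrier := {g | ∀ v, O (g.1 *ᵥ v) ↔ O v}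
  one_mem' v := by simp
  mul_mem' h k v := by rw [Units.val_mul, ← mulVec_mulVec, h, k]
  inv_mem' {g} h v := by rw [← h, mulVec_mulVec, Units.mul_inv, one_mulVec]

theorem not_mem {g m : GL (Fin 4) (ZMod 2)} (l : List (Fin 4 → ZMod 2)) (h1 : ∀ v, uM 1 *ᵥ v ∈ l ↔ v ∈ l)
    (h2 : ∀ v, g.1 *ᵥ v ∈ l ↔ v ∈ l) (h3 : ¬ ∀ v, m.1 *ᵥ v ∈ l ↔ v ∈ l) : m ∉ Subgroup.closure {uG (1 : ZMod 2), g} := fun c =>
  h3 ((Subgroup.closure_le (sb (· ∈ l))).2 (Set.pair_subset (a := uG 1) h1 h2) c)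

theorem w23_of (gf2 : ∀ {F : FusionSystem (⊤ : Subgroup (Gu (ZMod 2)))}, Sat F 2 →
    GF F = Subgroup.closure {uG (1 : ZMod 2)} ∨ GF F = Subgroup.closure {uG (1 : ZMod 2), wG _} ∨ GF F = Subgroup.closure {uG (1 : ZMod 2), rW} ∨
      GF F = Subgroup.closure {uG (1 : ZMod 2), rM} ∨ GF F = Subgroup.closure {uG (1 : ZMod 2), rL} ∨
        GF F = Subgroup.closure {uG (1 : ZMod 2), wG _, rM}) : ∃ E : FusionSystem (⊤ : Subgroup (Gu (ZMod 2))), Sat E 2 ∧ Rz E 2 ∧ w2 _ ∈ E.autGroup (Q2 _) ∧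
    GF E = Subgroup.closure {uG (1 : ZMod 2), wG _, rM} := by
  obtain ⟨ι, i, ⟨n1, h1⟩, ⟨n3, h3⟩, n2, h2⟩ := exists_io
  haveI : Finite (Lie.G2 (ZMod 3)) := Nat.finite_of_card_ne_zero (by rw [W3.card]; decide)
  have a : Nat.card ι.range = 2 ^ 6 := by rw [← Nat.card_congr (MonoidHom.ofInjective i).toEquiv, Gu.card, Nat.card_zmod]
  obtain ⟨E, r⟩ := real_of i (p := 2) (SylIn.of_not_dvd le_top (IsPGroup.of_card a) fun c => by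
    have b := card_mul_index ι.range
    rw [relIndex_top_right] at c
    rw [W3.card, a] at b
    omega)
  have w : wG _ ∈ GF E := gf_of r (fun _ _ => rfl) h1 fun x _ => p1_W1 x
  have m : rM ∈ GF E := gf_of r (fun _ _ => rfl) h3 fun x _ => by
    ext i; fin_cases i <;> simp [p1, ro, rM, gl, mulVec, dotProduct, Fin.sum_univ_four]
  refine ⟨E, r.sat, ⟨_, _, _, r⟩, (aut_real r).2 ⟨n2, fun x hx => fn_w2 hx ▸ h2 x hx⟩, ?_⟩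
  rcases gf2 r.sat with e | e | e | e | e | e
  · exact absurd (Subgroup.closure_mono (Set.singleton_subset_iff.2 (Set.mem_insert _ _)) (e ▸ m))
      (not_mem (g := wG _) [![0, 1, 1, 0]] (by decide) (by decide) (by decide))
  · exact absurd (e ▸ m) (not_mem [![0, 1, 1, 0]] (by decide) (by decide) (by decide))
  · exact absurd (e ▸ m) (not_mem [![0, 1, 1, 1]] (by decide) (by decide) (by decide))
  · exact absurd (e ▸ w) (not_mem [![0, 0, 0, 1], ![0, 1, 0, 0], ![0, 1, 0, 1]] (by decide) (by decide) (by decide))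
  · exact absurd (e ▸ w) (not_mem [![0, 0, 0, 1], ![0, 0, 1, 0], ![0, 0, 1, 1]] (by decide) (by decide) (by decide))
  · exact e

end W3

end CF.FusG
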