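import Cfsg.Agent.FusG.WP
import Cfsg.Agent.Bt.Ly.Main
import Cfsg.Agent.Dce.Ly.G2
import Cfsg.Agent.Chev.Fold

/-! The model inside the Lyons group. -/

set_option autoImplicit false
set_option linter.style.haveILetI false
set_option linter.unusedSimpArgs false

namespace CF.FusG

namespace WL

open Cfsg Cfsg.FusionSystem Subgroup CF.Fus CF.FusD CF.FusU Function Gu CF.FusC CF.Chev Cfsg.Lie CF.FusG.WP
open Equiv CF.Recog

theorem na {K : Type} [Field K] [Finite K] {p : ℕ} [Fact p.Prime] [CharP K p]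
    {E : FusionSystem (⊤ : Subgroup (Gu K))} {G : Type} [Group G] {ι : Gu K →* G} (h : Gs p ι)
    (r : Real E p ι ⊤) : Na E := fun N n l => by
  have k : ∀ x ∈ N, ∀ y g, g * ι x * g⁻¹ = ι y → y ∈ N := fun x hx y g q => by
    obtain ⟨f, f1, rfl⟩ := (cj_real r).2 ⟨g, q⟩
    exact sc_maps (sc_of_normal n) f1 (mem_zpowers x) hx
  obtain ⟨z, hz, z', hz', g, g', x, y, e1, e2, c⟩ := h.nc
  exact ⟨x, k z (l hz) x g e1, y, k z' (l hz') y g' e2, c⟩

theorem five {σ τ : Perm (Fin 11)} (h5 : orderOf σ = 5) (h3 : orderOf τ = 3) (c : τ * σ = σ * τ) :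
    σ.cycleType = {5} := by
  obtain ⟨n, hn⟩ := Perm.cycleType_prime_order (σ := σ) (h5 ▸ Nat.prime_five)
  have h1 := σ.sum_cycleType.trans_le σ.support.card_le_univ
  rw [h5] at hn
  rw [hn, Multiset.sum_replicate, Fintype.card_fin, smul_eq_mul] at h1
  obtain rfl | rfl : n = 0 ∨ n = 1 := by omega
  · exact hn
  have h2 := orderOf_dvd_natCard (⟨τ, mem_centralizer_singleton_iff.2 c⟩ : centralizer {σ})
  rw [← Subgroup.orderOf_coe, h3, Perm.nat_card_centralizer, hn] at h2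
  exact absurd h2 (by decide)

section
variable {H : Type*} [Group H] {π : H →* Perm (Fin 11)} {t : H} (D : DC0 π t)
include D

theorem cyc {x u : H} (h5 : x ^ 5 = 1) (h1 : x ≠ 1) (h3 : u ^ 3 = t) (h2 : u ≠ t) (c : u * x = x * u) :
    (π x).cycleType = {5} := by
  refine five (τ := π u) (orderOf_eq_prime (by rw [← map_pow, h5, map_one]) fun e => ?_)
    (haveI := Fact.mk Nat.prime_three; orderOf_eq_prime (by rw [← map_pow, h3, D.πt]) fun e => ?_)
    (by rw [← map_mul, c, map_mul])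
  · rcases D.ker x e with rfl | rfl
    exacts [h1 rfl, D.ne ((D.pow_t_odd (by decide)).symm.trans h5)]
  · rcases D.ker u e with rfl | rfl
    exacts [D.ne (by rw [← h3, one_pow]), h2 rfl]

theorem cj {x y : H} (hx : x ^ 5 = 1) (hy : y ^ 5 = 1) (h1 : (π x).cycleType = {5})
    (h2 : (π y).cycleType = {5}) : ∃ k, k * x * k⁻¹ = y := by
  obtain ⟨g, hg⟩ := isConj_iff.1 (alternatingGroup.isConj_of (σ := ⟨π x, D.sgn x⟩) (τ := ⟨π y, D.sgn y⟩)
    (Perm.isConj_iff_cycleType_eq.2 (h1.trans h2.symm)) (by rw [← Perm.sum_cycleType, h1]; decide))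
  obtain ⟨k, hk⟩ := D.surj g g.2
  exact ⟨k, D.eq_of_odd (m := 5) (by decide) (by
    rw [map_mul, map_mul, map_inv, hk]; exact congrArg Subtype.val hg) (by rw [conj_pow, hx]; simp) hy⟩

end

theorem cjG {G : Type*} [Group G] {t c i x y u v : G} {π : Cen t →* Perm (Fin 11)} (D : DC0 π (self t))
    (e : c * i * c⁻¹ = t) (x5 : x ^ 5 = 1) (y5 : y ^ 5 = 1) (x1 : x ≠ 1) (y1 : y ≠ 1)
    (u3 : u ^ 3 = i) (v3 : v ^ 3 = i) (u1 : u ≠ i) (v1 : v ≠ i) (c1 : Commute u x) (c2 : Commute v y)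
    (cx : Commute x i) (cy : Commute y i) : ∃ g, g * x * g⁻¹ = y := by
  have m : ∀ {x}, Commute x i → MulAut.conj c x ∈ Cen t := fun h => mem_cen.2 (e ▸ (h.map (MulAut.conj c)).eq)
  have k : ∀ {x u} (cx : Commute x i), x ^ 5 = 1 → x ≠ 1 → u ^ 3 = i → u ≠ i → Commute u x →
      (⟨_, m cx⟩ : Cen t) ^ 5 = 1 ∧ (π ⟨_, m cx⟩).cycleType = {5} := fun {x u} cx x5 x1 u3 u1 c => by
    have a : (⟨_, m cx⟩ : Cen t) ^ 5 = 1 := Subtype.ext ((map_pow _ x 5).symm.trans (by rw [x5, map_one]; rfl))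
    refine ⟨a, cyc D (u := ⟨_, m (u3 ▸ Commute.self_pow u 3)⟩) a (fun q => x1 ?_) (Subtype.ext ?_)
      (fun q => u1 ?_) (Subtype.ext (c.map (MulAut.conj _)).eq)⟩
    · exact (MulEquiv.map_eq_one_iff _).1 (congrArg Subtype.val q)
    · exact (map_pow _ u 3).symm.trans (u3 ▸ e)
    · exact (MulAut.conj _).injective ((congrArg Subtype.val q).trans e.symm)
  obtain ⟨g, hg⟩ := cj D (k cx x5 x1 u3 u1 c1).1 (k cy y5 y1 v3 v1 c2).1 (k cx x5 x1 u3 u1 c1).2
    (k cy y5 y1 v3 v1 c2).2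
  have := congrArg Subtype.val hg
  simp only [coe_mul, coe_inv, MulAut.conj_apply] at this
  exact ⟨c⁻¹ * g * c, by rw [← mul_left_inj c⁻¹, ← mul_right_inj c, ← mul_assoc c y, ← this]; group⟩

open CF.Dce.Ly CF.Bt.Ly in
theorem exL : ∃ π : Cen Dce.Ly.t →* Perm (Fin 11), DC0 π (self _) ∧
    ∀ i : L, orderOf i = 2 → ∃ c, c * i * c⁻¹ = Dce.Ly.t := by
  obtain ⟨π, D, h⟩ := exists_pi
  refine ⟨π, D.toDC0, fun i hi => ?_⟩
  obtain ⟨c, -, e⟩ := all_conj D le_top (mem_top _) g_u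
    (fun e => absurd ((h _ (by decide)).symm.trans (e ▸ D.πt)) (by decide +kernel)) (mem_top i) hi
  exact ⟨c, e⟩

variable {G : Type} [Group G] (ρ : StRep certG2.basis (ZMod 5) G)

/-- the roots -/
def rr (i : ℕ) : Lt := [(7, 1, 0, 0), (6, 1, 0, 0), (8, -1, 0, 0), (9, 1, 0, 0), (10, 1, 0, 0), (11, 1, 0, 0)].getD i
  (0, 0, 0, 0)

theorem x_pow (r : ℕ) (t : ZMod 5) (n : ℕ) : certG2.xN ρ.toPreSt r t ^ n = certG2.xN ρ.toPreSt r (n * t) := by
  induction n with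
  | zero => simpa [eq_comm] using certG2.xN_add ρ.toPreSt r 0 0
  | succ n ih => rw [pow_succ, ih, ← certG2.xN_add]; congr 1; push_cast; ring

theorem ev_nz (l : List Lt) : ((nz 5 l).map (Lt.ev (certG2.xN ρ.toPreSt) 0 0)).prod =
    (l.map (Lt.ev (certG2.xN ρ.toPreSt) 0 0)).prod := by
  induction l with
  | nil => rfl
  | cons c l ih =>
    have e : ((c.2.1 % (5 : ℕ) : ℤ) : ZMod 5) = c.2.1 := ZMod.intCast_mod _ _
    rw [nz, List.map_cons, List.filter_cons]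
    split_ifs with h
    · rw [List.map_cons, List.map_cons, List.prod_cons, List.prod_cons, ← ih]
      simp only [Lt.ev, e]; rfl
    · simp only [ne_eq, decide_not, Bool.not_eq_eq_eq_not, Bool.not_true, decide_eq_false_iff_not, not_not] at h
      rw [List.map_cons, List.prod_cons, ← ih, Lt.ev, ← e, h, Int.cast_zero, zero_mul, zero_mul,
        ← Nat.cast_zero, ← mul_one (Nat.cast 0), ← x_pow, pow_zero, one_mul]
      rfl

theorem chk : ∀ i < 6, ∀ j < 6, i < j → (nz 5 (Lt.col (tabG2.ctD chevG2) [rr j, rr i]) ==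
    nz 5 (Lt.col (tabG2.ctD chevG2) ((w5 i j).map rr ++ [rr i, rr j]))) = true := by decide +kernel

theorem pc : PC 5 6 w5 fun i => Lt.ev (certG2.xN ρ.toPreSt) 0 0 (rr i) := fun i hi =>
  ⟨by beta_reduce; rw [Lt.ev, x_pow, show ((5 : ℕ) : ZMod 5) = (0 : ℕ) from rfl, ← x_pow, pow_zero], fun j hj h => by
    have := congrArg (fun l => (l.map (Lt.ev (certG2.xN ρ.toPreSt) 0 0)).prod) (beq_iff_eq.1 (chk i hi j hj h))
    simp only [ev_nz, (certG2.sound_ctD ρ.toPreSt).col_eq] at this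
    simpa [evw, Function.comp_def] using this⟩

theorem cube (r : Fin chevG2.nroots) : (ρ.x r 1 * ρ.x (certG2.basis.neg r) (-1)) ^ 3 = ρ.h r (-1) := by
  have h := ρ.nrel r 1 1
  have h3 := ρ.r3_of_finite.h_inv r (-1)
  have h4 := ρ.n_mul_n r 1 1
  simp only [PreSt.n, inv_one, Units.val_one, one_pow, mul_one, mul_inv_eq_iff_eq_mul, PreSt.h_one, one_mul,
    inv_neg, h3, neg_sq, even_two, Even.neg_pow] at h h3 h4
  rw [← h4]
  nth_rw 2 [show ρ.x r 1 * ρ.x (certG2.basis.neg r) (-1) * ρ.x r 1 = ρ.x (certG2.basis.neg r) (-1) * ρ.x r 1 * ρ.x (certG2.basis.neg r) (-1)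
    from mul_right_cancel (h.trans (by simp only [mul_assoc]))]
  simp only [pow_succ, pow_zero, one_mul, mul_assoc]

theorem xr_pow (r : Fin chevG2.nroots) (t : ZMod 5) : ρ.x r t ^ 5 = 1 := by
  rw [← certG2.xN_val, x_pow, show ((5 : ℕ) : ZMod 5) = (0 : ℕ) from rfl, ← x_pow, pow_zero]

theorem cm_of {r s : Fin chevG2.nroots} (h : s ≠ certG2.basis.neg r ∧ tabG2.code r s = 0) (t u : ZMod 5) :
    Commute (ρ.x r t) (ρ.x s u) := ρ.commute_of_none h.1 (fun _ hv => (certG2.add_iff.1 hv).1 h.2) t u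

theorem cm_h {r s : Fin chevG2.nroots} (h : certG2.basis.A r s = 0) (t : (ZMod 5)ˣ) (u : ZMod 5) :
    Commute (ρ.x s u) (ρ.h r t) := by
  have := ρ.h_conj_x r t s u
  rw [h, zpow_zero, Units.val_one, one_mul, mul_inv_eq_iff_eq_mul] at this
  exact this.symm

/-- a root -/
def R (i : Fin 12) : Fin chevG2.nroots := i

theorem rf : certG2.basis.refl (R 6) (R 11) = R 10 ∧ certG2.basis.refl (R 10) (R 11) = R 6 := by
  constructor <;> exact certG2.basis.vec_inj (by rw [certG2.basis.vec_refl]; decide +kernel)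

theorem exists_gs [Finite G] (hx : ∀ r t, ρ.x r t = 1 → t = 0) (hc : ¬ 5 ^ 7 ∣ Nat.card G) :
    ∃ ι : Gu (ZMod 5) →* G, Gs 5 ι ∧ ι (xb 1) = ρ.x (R 8) (-1) ∧ ι (xs 1) = ρ.x (R 10) 1 ∧ ι (xt 1) = ρ.x (R 6) 1 ∧
      ∀ k, ι (xz k) = ρ.x (R 11) k := by
  have v : ∀ (r : Fin 12) (c : ℤ), Lt.ev (certG2.xN ρ.toPreSt) 0 0 (r, c, 0, 0) = ρ.x (R r) c := fun r c => by
    simp only [Lt.ev, pow_zero, mul_one]; exact certG2.xN_val ρ.toPreSt (R r) c
  obtain ⟨ι, i, s, -, e1, e2, -, e4, e5⟩ := exists5 (pc ρ) (fun e => by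
    simpa using hx _ _ ((v 11 1).symm.trans e)) hc
  replace e1 := e1.trans (v 6 1)
  replace e4 := e4.trans (v 10 1)
  replace e5 := e5.trans (v 11 1)
  have z : ∀ k, ι (xz k) = ρ.x (R 11) k := fun k => by
    obtain ⟨n, rfl⟩ := ZMod.natCast_zmod_surjective k
    induction n with
    | zero => rw [Nat.cast_zero, ρ.x_zero]; exact map_one ι
    | succ n ih => rw [Nat.cast_succ, ρ.x_add, ← ih, ← Int.cast_one, ← e5, ← map_mul]; congr 1; ext <;> simp
  obtain ⟨c, hc⟩ := (ρ.acts_n (R 6) 1).exists_conj_x (R 11)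
  obtain ⟨d, hd⟩ := (ρ.acts_n (R 10) 1).exists_conj_x (R 11)
  refine ⟨ι, ⟨‹_›, i, s, _, xz_mem ↑(c⁻¹), _, xz_mem ↑(d⁻¹), ρ.n (R 6) 1, ρ.n (R 10) 1,
    xs 1, xt 1, ?_, ?_, by decide⟩, e2.trans (v 8 (-1)), e4, e1, z⟩
  · rw [z, hc, e4, c.mul_inv, rf.1, Int.cast_one]
  · rw [z, hd, e1, d.mul_inv, rf.2, Int.cast_one]

theorem fuse (ρ : StRep certG2.basis (ZMod 5) CF.Dce.Ly.L) (hx : ∀ r t, ρ.x r t = 1 → t = 0) :
    ∃ g k, g * ρ.x (R 11) k * g⁻¹ = ρ.x (R 8) (-1) := by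
  have h3 := ρ.r3_of_finite
  have e : ρ.h (R 8) (-1) = ρ.h (R 10) (-1) := by
    rw [h3.h_eq_tor, h3.h_eq_tor]; congr 1; decide +kernel
  have o : orderOf (ρ.h (R 10) (-1)) = 2 := haveI := Fact.mk Nat.prime_two; orderOf_eq_prime
    (by rw [sq, h3, neg_mul_neg, one_mul, ρ.h_one]) fun q => by
      have := ρ.h_conj_x (R 10) (-1) (R 7) 1
      rw [q, show certG2.basis.A (R 10) (R 7) = 1 by decide +kernel, one_mul, inv_one, mul_one] at this
      have h2 := ρ.x_add (R 7) 1 1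
      nth_rw 2 [this] at h2
      rw [← ρ.x_add] at h2
      exact absurd (hx _ _ (h2.trans (by simp))) (by decide)
  have n : ∀ r, Commute (ρ.x r 1) (ρ.h (R 10) (-1)) → ρ.x r 1 * ρ.x (certG2.basis.neg r) (-1) ≠ ρ.h (R 10) (-1) :=
    fun r c q => by
      have := xr_pow ρ (certG2.basis.neg r) (-1)
      rw [eq_inv_mul_of_mul_eq q, c.inv_left.mul_pow, inv_pow, xr_pow, inv_one, one_mul] at this
      exact absurd (o ▸ orderOf_dvd_of_pow_eq_one this) (by decide)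
  have a : Commute (ρ.x (R 10) 1) (ρ.h (R 10) (-1)) := e ▸ cm_h ρ (by decide +kernel) _ _
  have b : ∀ u, Commute (ρ.x (R 8) u) (ρ.h (R 10) (-1)) := cm_h ρ (by decide +kernel) _
  obtain ⟨π, D, w⟩ := exL
  obtain ⟨c, hc⟩ := w _ o
  obtain ⟨g, hg⟩ := cjG D hc (xr_pow ρ (R 10) 1) (xr_pow ρ (R 8) (-1)) (fun q => absurd (hx _ _ q) (by decide))
    (fun q => absurd (hx _ _ q) (by decide)) ((cube ρ (R 8)).trans e) (cube ρ (R 10)) (n _ (b _)) (n _ a)
    (.mul_left (cm_of ρ (by decide +kernel) _ _) (cm_of ρ (by decide +kernel) _ _))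
    (.mul_left (cm_of ρ (by decide +kernel) _ _) (cm_of ρ (by decide +kernel) _ _)) a (b _)
  obtain ⟨c, hc⟩ := (ρ.acts_n (R 6) 1).exists_conj_x (R 11)
  have := hc (c⁻¹ : (ZMod 5)ˣ)
  rw [c.mul_inv, rf.1] at this
  exact ⟨g * ρ.n (R 6) 1, ↑(c⁻¹), by rw [← hg, ← this]; simp only [mul_inv_rev, mul_assoc]⟩

end WL

open Cfsg Cfsg.FusionSystem Subgroup CF.Fus CF.FusD CF.FusU Function Gu CF.Chev Cfsg.Lie WL CF.Dce.Ly

theorem wLy0 (cls : ∀ F : FusionSystem (⊤ : Subgroup (Gu (ZMod 5))), Sat F 5 → Na F →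
      nn F = 480 * 625 ∧ (∀ z ∈ Z1 _, ∀ x ∈ Z4 _, Cj F z x → x ∈ Z2 _) ∨
      nn F = 2880 * 625 ∨ nn F = 640 * 625 ∧ Nat.card (F.autGroup ⊤) = 8 * 5 ^ 5 ∨ nn F = 1280 * 625 ∨
      nn F = 7680 * 625) : ∃ (G : Type) (_ : Group G) (ι : Gu (ZMod 5) →* G), Gs 5 ι ∧
    ∀ E, Real E 5 ι ⊤ → nn E = 2880 * 625 := by
  obtain ⟨e⟩ := equivG2
  let j : chevG2.group (ZMod 5) →* L := H.subtype.comp (e.symm.trans eK).toMonoidHom
  have hj : Injective j := H.subtype_injective.comp (e.symm.trans eK).injective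
  have c : Nat.card (chevG2.group (ZMod 5)) = 5859000000 := (Nat.card_congr e.toEquiv).symm.trans card_K
  haveI := Finite.of_injective j hj
  have hx : ∀ r t, (linkG2.gpRep (ZMod 5)).x r t = 1 → t = 0 := fun r t => (linkG2.faithful_gpRep _).x_eq_one_iff.1
  obtain ⟨ι, s, e1, -, -, e2⟩ := exists_gs (linkG2.gpRep (ZMod 5)) hx (by rw [c]; decide)
  have i := hj.comp s.inj
  have s' : Gs 5 (j.comp ι) := by
    have c : Nat.card (j.comp ι).range = 5 ^ 6 := by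
      rw [← Nat.card_congr (MonoidHom.ofInjective (f := j.comp ι) i).toEquiv, card, Nat.card_zmod]
    obtain ⟨z, hz, z', hz', g, g', x, y, a, b, n⟩ := s.nc
    refine ⟨inferInstance, i, .of_not_dvd le_top (.of_card c) fun d => ?_, z, hz, z', hz', j g, j g', x, y,
      by simp [← a], by simp [← b], n⟩
    have := (j.comp ι).range.card_mul_index
    rw [c, card_L] at this
    rw [relIndex_top_right] at d
    omega
  refine ⟨L, _, j.comp ι, s', fun E r => ?_⟩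
  obtain ⟨F, r', n⟩ := s.real
  have d1 : nn F ∣ 5859000000 := c ▸ (Dvd.intro _ (card_real r' _)).trans (card_subgroup_dvd_card _)
  have d2 : nn E ∣ 51765179004000000 := card_L ▸ (Dvd.intro _ (card_real r _)).trans (card_subgroup_dvd_card _)
  have d3 : nn F ∣ nn E := card_dvd_of_le (le_real r' r _)
  have d4 : 3 ∣ nn E := Dvd.dvd.trans (by
    rcases cls F r'.sat n with ⟨h, -⟩ | h | ⟨h, -⟩ | h | h <;> rw [h] at d1 ⊢ <;> first | decide | exact absurd d1 (by decide)) d3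
  rcases cls E r.sat (na s' r) with h | h | ⟨h, -⟩ | h | h
  · obtain ⟨g, k, q⟩ := fuse ((linkG2.gpRep (ZMod 5)).map j) fun r t q => hx r t (hj (q.trans j.map_one.symm))
    exact absurd (h.2 _ (xz_mem k) _ (xb_mem 1) ((cj_real r).2 ⟨g, by
      change g * j (ι _) * g⁻¹ = j (ι _)
      rw [e1, e2]; exact q⟩)).2.2.1 one_ne_zero
  exacts [h, by omega, by omega, absurd (h ▸ d2) (by decide)]

end CF.FusG
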