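import Cfsg.Agent.FusG.WP
import Cfsg.Agent.Ff.SM1
import Cfsg.Agent.Comp.Mat

/-! The fusion system of `M₁₂` at the prime two. -/

set_option autoImplicit false
set_option linter.style.haveILetI false
set_option linter.unusedSimpArgs false
set_option maxRecDepth 100000

namespace CF.FusG

open Cfsg Cfsg.FusionSystem Subgroup CF.Fus CF.FusD CF.FusU Function Gu Matrix CF.FusC CF.Ff.SM

namespace WM

variable {G : Type} [Group G] {ι : Gu (ZMod 2) →* G} {E : FusionSystem (⊤ : Subgroup (Gu (ZMod 2)))}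

theorem root {H : Subgroup (Gu (ZMod 2))} (f : ZMod 2 → Gu (ZMod 2)) (h0 : f 0 = 1) (h : f 1 ∈ H) (a : ZMod 2) :
    f a ∈ H := by
  fin_cases a
  exacts [h0.symm ▸ one_mem H, h]

theorem w2_mem (r : Real E 2 ι ⊤) {g : G} (h1 : g * ι (xa 1) = ι (xb 1) * g) (h2 : g * ι (xb 1) = ι (xa 1) * g)
    (h3 : g * ι (xc 1) = ι (xc 1) * g) (h4 : g * ι (xs 1) = ι (xz 1) * g) (h5 : g * ι (xz 1) = ι (xs 1) * g) :
    w2 _ ∈ E.autGroup (Q2 (ZMod 2)) := by
  let D : Subgroup (Gu (ZMod 2)) :=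
    { carrier := {x | x ∈ Q2 _ ∧ g * ι x = ι (W2 x) * g}
      one_mem' := ⟨rfl, by rw [mulOn_W2.map_one]; simp⟩
      mul_mem' := fun {x y} a b => ⟨mul_mem a.1 b.1, by
        rw [mulOn_W2 a.1 b.1, map_mul, map_mul, ← mul_assoc, a.2, mul_assoc, b.2, mul_assoc]⟩
      inv_mem' := fun {x} a => ⟨inv_mem a.1, by
        rw [mulOn_W2.map_inv a.1, map_inv, map_inv, eq_inv_mul_iff_mul_eq, ← mul_assoc, ← a.2, mul_inv_cancel_right]⟩ }
  refine (aut_real r).2 ⟨g, fun x hx => ?_⟩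
  have : x ∈ D := by
    rw [prod_x x, mem_Q2.1 hx]
    exact mul_mem (mul_mem (mul_mem (mul_mem (mul_mem (one_mem D) (root (H := D) xb rfl ⟨rfl, h2⟩ _))
      (root (H := D) xc rfl ⟨rfl, h3⟩ _))
      (root (H := D) xs rfl ⟨rfl, h4⟩ _)) (root (H := D) xz rfl ⟨rfl, h5⟩ _)) (root (H := D) xa rfl ⟨rfl, h1⟩ _)
  rw [fn_w2 hx, this.2, mul_inv_cancel_right]

theorem gf_mem (r : Real E 2 ι ⊤) {g : G} {M : GL (Fin 4) (ZMod 2)}
    (h : ∀ x ∈ [xt 1, xb 1, xc 1, xs 1, xz 1], ∃ y ∈ Q1 (ZMod 2), g * ι x = ι y * g ∧ p1 y = M.1 *ᵥ p1 x) : M ∈ GF E := by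
  let D : Subgroup (Gu (ZMod 2)) :=
    { carrier := {x | x ∈ Q1 _ ∧ ∃ y ∈ Q1 (ZMod 2), g * ι x = ι y * g ∧ p1 y = M.1 *ᵥ p1 x}
      one_mem' := ⟨rfl, 1, rfl, by simp, by rw [p1_Z1 (one_mem _), mulVec_zero]⟩
      mul_mem' := fun {x y} ⟨a, u, u1, u2, u3⟩ ⟨b, v, v1, v2, v3⟩ => ⟨mul_mem a b, u * v, mul_mem u1 v1, by
        rw [map_mul, map_mul, ← mul_assoc, u2, mul_assoc, v2, mul_assoc], by
        rw [p1_mul u1, p1_mul a, mulVec_add, u3, v3]⟩
      inv_mem' := fun {x} ⟨a, u, u1, u2, u3⟩ => ⟨inv_mem a, u⁻¹, inv_mem u1, by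
        rw [map_inv, map_inv, eq_inv_mul_iff_mul_eq, ← mul_assoc, ← u2, mul_inv_cancel_right], by
        have k : ∀ y ∈ Q1 (ZMod 2), p1 y⁻¹ = -p1 y := fun y hy => eq_neg_of_add_eq_zero_right (by
          rw [← p1_mul hy, mul_inv_cancel, p1_Z1 (one_mem _)])
        rw [k u u1, k x a, mulVec_neg, u3]⟩ }
  have a : ∀ x ∈ Q1 (ZMod 2), x ∈ D := fun x hx => by
    rw [prod_x x, mem_Q1.1 hx]
    exact mul_mem (mul_mem (mul_mem (mul_mem (mul_mem (root (H := D) xt rfl ⟨rfl, h _ (by simp)⟩ _)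
      (root (H := D) xb rfl ⟨rfl, h _ (by simp)⟩ _)) (root (H := D) xc rfl ⟨rfl, h _ (by simp)⟩ _)) (root (H := D) xs rfl ⟨rfl, h _ (by simp)⟩ _))
      (root (H := D) xz rfl ⟨rfl, h _ (by simp)⟩ _)) (one_mem D)
  choose! f f1 f2 f3 using fun x hx => (a x hx).2
  obtain ⟨φ, hφ, e⟩ := ((r.mor' le_top (mem_top g) (fun _ _ => trivial) fun x hx => by
    rw [f2 x hx, mul_inv_cancel_right]).iso_self f1).exists_aut
  exact ⟨φ, hφ, fun x hx => by rw [e x hx, f3 x hx]⟩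

theorem cj_of (r : Real E 2 ι ⊤) (h : wG _ ∈ GF E) : IsConj (ι (xt 1)) (ι (xs 1)) := by
  obtain ⟨φ, hφ, e⟩ := h
  obtain ⟨g, q⟩ := (aut_real r).1 hφ
  have a := fn_mem φ (x := xt 1) rfl
  have b := e (xt 1) rfl
  refine (isConj_iff.2 ⟨g, q _ rfl⟩).trans (ι.map_isConj (isConj_iff.2 ⟨xt (fn φ (xt 1)).z, ?_⟩))
  revert a b
  generalize fn φ (xt 1) = y
  revert y
  simp only [mem_Q1]
  decide +kernel

theorem not_mem {s : Set (GL (Fin 4) (ZMod 2))} (S : List (Fin 4 → ZMod 2)) (h : ∀ g ∈ s, ∀ v ∈ S, g.1 *ᵥ v ∈ S)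
    {g : GL (Fin 4) (ZMod 2)} (n : ¬ ∀ v ∈ S, g.1 *ᵥ v ∈ S) : g ∉ Subgroup.closure s := fun c => n (by
  have : g ∈ Submonoid.closure s := closure_toSubmonoid_of_finite (s := s) ▸ c
  clear n c
  induction this using Submonoid.closure_induction with
  | mem x hx => exact h x hx
  | one => simp
  | mul x y _ _ a b => exact fun v hv => by rw [Units.val_mul, ← mulVec_mulVec]; exact a _ (b v hv))

/-- the relations for `q = 2` -/
def wd (i j : ℕ) : List ℕ := ([[[], [2, 3, 4, 5], [4, 5], [4]], [[], [], [], [], [5]], [[], [], [], [5]]].getD i []).getD j []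

theorem pc2 : PC 2 6 wd (WP.gg (ZMod 2)) := by unfold PC; decide +kernel

/-- the images of the root elements -/
def cd (i : ℕ) : ℕ := [891437857390963374943912918542027264, 596600306302412862482329757492351568,
  901805946905781876259537846647399459, 731269206504371524970487553510811154, 901809932844215381871419026320662563,
  892735891774019106164213520671967619].getD i 0
/-- conjugating elements -/
def cn (i : ℕ) : ℕ := [819678984367160315062504411613373549, 886238901430532288637700683916182598,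
  962739671902284760037368088511155780, 962753539293411610489346406612370704].getD i 0

theorem k1 : ∀ i < 6, rel ok12 (.replicate 2 (cd i)) [] = true ∧
    ∀ j < 6, i < j → rel ok12 [cd j, cd i] ((wd i j).map cd ++ [cd i, cd j]) = true := by decide +kernel

theorem k2 : ∀ l ∈ [(0, 1, [3, 5]), (0, 2, [4, 5]), (0, 3, [1, 3, 5]), (0, 4, [2, 4]), (0, 5, [5]), (1, 0, [2]), (1, 2, [0]),
    (1, 3, [3]), (1, 4, [5]), (1, 5, [4]), (2, 5, [0]), (3, 5, [2])],
      rel ok12 [cn l.1, cd l.2.1] (l.2.2.map cd ++ [cn l.1]) = true := by decide +kernel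

theorem k3 : nrel ok12 [cd 5] [] = true ∧ ok12 (cd 1) = true ∧ fr (cd 1) = true ∧ ok12 (cd 4) = true := by decide +kernel

theorem w2M_of (gf2 : ∀ {F : FusionSystem (⊤ : Subgroup (Gu (ZMod 2)))}, Sat F 2 →
    GF F = Subgroup.closure {uG (1 : ZMod 2)} ∨ GF F = Subgroup.closure {uG (1 : ZMod 2), wG _} ∨
      GF F = Subgroup.closure {uG (1 : ZMod 2), rW} ∨ GF F = Subgroup.closure {uG (1 : ZMod 2), rM} ∨
        GF F = Subgroup.closure {uG (1 : ZMod 2), rL} ∨ GF F = Subgroup.closure {uG (1 : ZMod 2), wG _, rM}) :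
    ∃ E : FusionSystem (⊤ : Subgroup (Gu (ZMod 2))), Sat E 2 ∧ Rz E 2 ∧ w2 _ ∈ E.autGroup (Q2 _) ∧
    GF E = Subgroup.closure {uG (1 : ZMod 2), rM} := by
  obtain ⟨ι, e⟩ := WP.exists_hom (h := fun i => el Spor.M12 (cd i)) (by decide) pc2 fun i hi =>
    ⟨pow_spec hk12 (k1 i hi).1, fun j hj l => by simpa [evw, comp_def] using rel_spec hk12 ((k1 i hi).2 j hj l)⟩
  have e0 : ι (xa 1) = _ := e 0 (by omega)
  have e1 : ι (xt 1) = _ := e 1 (by omega)
  have e2 : ι (xb 1) = _ := e 2 (by omega)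
  have e3 : ι (xc 1) = _ := e 3 (by omega)
  have e4 : ι (xs 1) = _ := e 4 (by omega)
  have e5 : ι (xz 1) = _ := e 5 (by omega)
  have q := fun l h => rel_spec hk12 (k2 l h)
  simp only [List.forall_mem_cons, List.map_cons, List.map_nil, List.cons_append, List.nil_append, List.prod_cons,
    List.prod_nil, mul_one, ← e0, ← e1, ← e2, ← e3, ← e4, ← e5, ← mul_assoc, ← map_mul] at q
  obtain ⟨a1, a2, a3, a4, a5, b1, b2, b3, b4, b5, c1, c2, -⟩ := q
  have i : Injective ι := WP.inj_of (by decide) (e5.trans_ne (by simpa using nrel_spec hk12 k3.1))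
  have c : Nat.card ι.range = 2 ^ 6 := by
    rw [← Nat.card_congr (MonoidHom.ofInjective i).toEquiv, card, Nat.card_zmod]
  obtain ⟨E, r, -⟩ := Gs.real (p := 2) (ι := ι) ⟨inferInstance, i, .of_not_dvd le_top (.of_card c) fun d => by
    have := ι.range.card_mul_index
    rw [c, Comp.Mat.card_M12, ← relIndex_top_right] at this
    omega, _, xz_mem 1, _, xz_mem 1, _, _, _, _, mul_inv_eq_of_eq_mul c1, mul_inv_eq_of_eq_mul c2, by decide +kernel⟩
  have m : rM ∈ GF E := gf_mem r (by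
    simp only [List.forall_mem_cons]
    exact ⟨⟨_, rfl, a1, by decide +kernel⟩, ⟨_, rfl, a2, by decide +kernel⟩, ⟨_, rfl, a3, by decide +kernel⟩,
      ⟨_, rfl, a4, by decide +kernel⟩, ⟨_, rfl, a5, by decide +kernel⟩, by simp⟩)
  have n : wG _ ∉ GF E := fun h => by
    have := cj_of r h
    rw [e1, e4] at this
    exact fr_conj this (fr_spec (hk12 _ k3.2.1) k3.2.2.1) _ ((hk12 _ k3.2.2.2).rp.2 1 (by omega)).1
  refine ⟨E, r.sat, ⟨_, _, _, r⟩, w2_mem r b1 b2 b3 b4 b5, ?_⟩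
  rcases gf2 r.sat with h | h | h | h | h | h <;> rw [h] at m n ⊢
  · exact (not_mem [![0, 0, 0, 1]] (by simp only [Set.mem_singleton_iff, forall_eq]; decide +kernel)
      (by decide +kernel) m).elim
  · exact (n (subset_closure (by simp))).elim
  · exact (not_mem [![0, 0, 0, 1], ![1, 1, 0, 0], ![1, 0, 1, 0]] (by
      simp only [Set.mem_insert_iff, Set.mem_singleton_iff, forall_eq_or_imp, forall_eq]; decide +kernel)
      (by decide +kernel) m).elim
  · exact (not_mem [![0, 0, 0, 1], ![0, 0, 1, 0], ![0, 0, 1, 1]] (by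
      simp only [Set.mem_insert_iff, Set.mem_singleton_iff, forall_eq_or_imp, forall_eq]; decide +kernel)
      (by decide +kernel) m).elim
  · exact (n (subset_closure (by simp))).elim

end WM

end CF.FusG
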