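import Cfsg.Agent.FusG.NM1

/-! Fusion systems on a Sylow `2`-subgroup of `G₂(q)`: the automizer of `Q2` preserves `Z3` or `B3`. -/

set_option autoImplicit false
set_option linter.style.haveILetI false
set_option linter.unusedSimpArgs false
set_option linter.unusedSectionVars false

namespace CF.FusG

open Cfsg Cfsg.FusionSystem Subgroup CF.Fus CF.FusD CF.FusU Function Gu Matrix

namespace NM

variable {K : Type} [Field K] [Finite K] {x y u v w : Gu K} {φ ψ g : MulAut (Q2 K)} {p : ℕ} [Fact p.Prime] [CharP K p]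
  {E F : FusionSystem (⊤ : Subgroup (Gu K))} {f : Gu K → Gu K} {B : Subgroup (Gu K)}

theorem comm_fn_iff (φ : MulAut (Q2 K)) (hx : x ∈ Q2 K) (hy : y ∈ Q2 K) :
    x * y = y * x ↔ fn φ x * fn φ y = fn φ y * fn φ x :=
  ⟨comm_fn φ hx hy, fun e => by simpa using comm_fn φ⁻¹ (fn_mem φ hx) (fn_mem φ hy) e⟩

theorem ind_stab (l : B ≤ Q2 K) (n : ∀ t, t ∈ normalizer (B : Set (Gu K))) : autInducedBy ⊤ (Q2 K) ≤ stab (Q2 K) B :=
  fun _ h => let ⟨t, _, e⟩ := mem_autInducedBy'.1 h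
    mem_stab_of_maps l fun x hx => e x (l hx) ▸ conj_mem_of_norm (n t) hx

theorem s3_fiso (i : FIso F f E) (hp : ∀ x ∈ Q2 K, f x ∈ Q2 K) (l : B ≤ Q2 K) (hB : F.autGroup (Q2 K) ≤ stab (Q2 K) B)
    (h1 : ∀ x ∈ B, f x ∈ Z3 K) (h2 : ∀ y ∈ Z3 K, ∃ x ∈ B, f x = y) : E.autGroup (Q2 K) ≤ stab (Q2 K) (Z3 K) :=
  fun φ hφ => mem_stab_of_maps (l34.trans l42) fun y hy => by
    have j := CH.piso_of i.piso hp
    obtain ⟨ψ, rfl⟩ := j.autCongr.surjective φ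
    obtain ⟨x, hx, rfl⟩ := h2 y hy
    rw [j.fn_autCongr ψ (l hx)]
    exact h1 _ (stab_maps (hB ((i.autCongr_mem_iff le_top j).1 hφ)) hx)

/-- an automorphism for the field with four elements -/
@[simps] def om4 (x : Gu K) : Gu K := ⟨x.a ^ 2, x.t, x.c, x.b, x.s, x.z + x.s ^ 2 + x.b * x.c⟩

theorem lB : B3 K ≤ Q2 K := fun _ h => h.2.1

variable (q : (2 : K) = 0)
include q

theorem om4_om4 (h : ∀ a : K, a ^ 4 = a) (x : Gu K) : om4 (om4 x) = x := by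
  have := h x.a
  ext <;> simp only [om4_a, om4_t, om4_b, om4_c, om4_s, om4_z] <;> grind

theorem piso_om4 (h : ∀ a : K, a ^ 4 = a) : PIso (om4 (K := K)) ⊤ ⊤ :=
  piso_self_of_maps (fun x _ y _ => by
    have := h x.a
    ext <;> simp only [om4_a, om4_t, om4_b, om4_c, om4_s, om4_z, mul_a, mul_t, mul_b, mul_c, mul_s, mul_z] <;> grind)
    (fun _ _ _ _ e => LeftInverse.injective (om4_om4 q h) e) fun _ _ => trivial

theorem nB3 (t : Gu K) : t ∈ normalizer (B3 K : Set (Gu K)) :=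
  nrm (P := B3 K) (fun x h y => ⟨cm_a x y, cm_t x y, by rw [cm_c4 ⟨h.1, h.2.1⟩, q, zero_mul, zero_mul]⟩) t

theorem cZ (h : u ∈ Z3 K) (n : u ∉ Z2 K) (hy : y ∈ Q2 K) : u * y = y * u ↔ y ∈ Z3 K := by
  have c : u.c ≠ 0 := fun c => n (of3 h c)
  simp [comm_iff q h.2.1 hy, h.1, h.2.2, c, mem_Z3, mem_Q2.1 hy]

theorem cB (h : u ∈ B3 K) (n : u ∉ Z2 K) (hy : y ∈ Q2 K) : u * y = y * u ↔ y ∈ B3 K := by
  have c : u.b ≠ 0 := fun c => n ⟨h.1, h.2.1, c, h.2.2⟩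
  simp +contextual [comm_iff q h.2.1 hy, h.1, h.2.2, c, mem_B3, mem_Q2.1 hy]

theorem cR (h : u ∈ Q2 K) (a0 : u.a ≠ 0) (b0 : u.b = 0) (c0 : u.c = 0) (hy : y ∈ Q2 K) :
    u * y = y * u ↔ y.b = 0 ∧ y.c = 0 := by
  rw [comm_iff q h hy, b0, c0]
  grind

theorem orb (hφ : φ ∈ F.autGroup (Q2 K)) (hx : x ∈ Q2 K) (e : x * x = 1) (n : x ∉ Z2 K) :
    (fn φ x ∈ Z3 K ∧ ∀ y ∈ Q2 K, x * y = y * x ↔ fn φ y ∈ Z3 K) ∨
      (fn φ x ∈ B3 K ∧ ∀ y ∈ Q2 K, x * y = y * x ↔ fn φ y ∈ B3 K) ∨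
        ∃ ψ ∈ F.autGroup (Q2 K), ∀ y ∈ Q2 K, x * y = y * x ↔ (fn ψ y).b = 0 ∧ (fn ψ y).c = 0 := by
  haveI : NeZero (3 : K) := ⟨three q⟩
  have m := fn_mem φ hx
  have n' : fn φ x ∉ Z2 K := mt (QB.stab_Z2 φ x).1 n
  have s := (sq_iff q m).1 (sq_fn φ hx e)
  by_cases a0 : (fn φ x).a = 0
  · rcases mul_eq_zero.1 s.2 with c | c
    · exact .inl ⟨⟨a0, m, c⟩, fun y hy => (comm_fn_iff φ hx hy).trans (cZ q ⟨a0, m, c⟩ n' (fn_mem φ hy))⟩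
    · rw [a0, zero_mul, add_zero] at c
      exact .inr (.inl ⟨⟨a0, m, c⟩, fun y hy => (comm_fn_iff φ hx hy).trans (cB q ⟨a0, m, c⟩ n' (fn_mem φ hy))⟩)
  · refine .inr (.inr ⟨cA (Q2 K) (xt ((fn φ x).b / (fn φ x).a)) * φ, mul_mem (cA_mem_autGroup F le_top trivial) hφ,
      fun y hy => (comm_fn_iff _ hx hy).trans (cR q (fn_mem _ hx) ?_ ?_ ?_ (fn_mem _ hy))⟩) <;>
      rw [fn_mul, fn_cA (nQ2 _) m]
    · simpa using a0
    · simp [mem_Q2.1 m]; field_simp; ring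
    · have := (mul_eq_zero.1 s.1).resolve_left a0
      simp [mem_Q2.1 m]; field_simp; grind

theorem no_swap (hF : Sat F p) (hg : g ∈ F.autGroup (Q2 K)) (e : ∀ y ∈ Q2 K, y ∈ Z3 K ↔ fn g y ∈ B3 K) : False := by
  haveI : NeZero (3 : K) := ⟨three q⟩
  have sy : SylIn p (autInducedBy ⊤ (Q2 K)) (F.autGroup (Q2 K)) := hF.syl_of_fn (fn_of_norm F le_top fun t _ => nQ2 t)
  obtain ⟨b, hb, c⟩ := (sy.mono (le_inf sy.le (ind_stab lB (nB3 q))) inf_le_left).exists_conj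
    (C := (autInducedBy ⊤ (Q2 K)).map (MulAut.conj g).toMonoidHom) (by
      rintro _ ⟨τ, hτ, rfl⟩
      refine ⟨mul_mem (mul_mem hg (sy.le hτ)) (Subgroup.inv_mem _ hg), mem_stab_of_maps lB fun y hy => ?_⟩
      have m := fn_mem g⁻¹ (lB hy)
      show fn (g * τ * g⁻¹) y ∈ _
      rw [fn_mul, fn_mul]
      exact (e _ (fn_mem τ m)).1 (stab_maps (ind_stab (l34.trans l42) nZ3 hτ) ((e _ m).2 (by rwa [fn_fn_inv]))))
    (sy.pg.map _)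
  obtain ⟨f, hf, e1⟩ := ext_top hF le_top (fun s _ => nQ2 s) (mul_mem hb.1 hg) (mem_normalizer_fintype fun τ hτ => by
    simpa [mul_assoc] using c _ ⟨τ, hτ, rfl⟩)
  have e2 : ∀ y ∈ Q2 K, y ∈ Z3 K ↔ f y ∈ B3 K := fun y hy => by rw [e1 y hy, fn_mul, hb.2, e y hy]
  have e3 : ∀ y ∈ B3 K, f y ∈ Z3 K := fun y hy => by
    have a0 := mem_Q1.1 (map_Q1 (three q) hf.iso_top.piso y hy.1)
    have m := fn_mem (b * g) (lB hy)
    have s := (sq_iff q m).1 (sq_fn _ (lB hy) ((sq_iff q (lB hy)).2 (by simp [hy.1, hy.2.2])))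
    rw [← e1 y (lB hy)] at m s
    rcases mul_eq_zero.1 s.2 with c | c
    · exact ⟨a0, m, c⟩
    · rw [a0, zero_mul, add_zero] at c
      exact e1 y (lB hy) ▸ l23 (stab_maps (QB.stab_Z2 _) (of3 ((e2 y (lB hy)).2 ⟨a0, m, c⟩) hy.2.2))
  obtain ⟨m, m1, s, -, m2⟩ := exists_pow_inn hF hf
  obtain rfl : p = 2 := (Nat.prime_dvd_prime_iff_eq Fact.out Nat.prime_two).1
    ((CharP.cast_eq_zero_iff K p 2).1 (by exact_mod_cast q))
  obtain ⟨k, rfl⟩ := Nat.not_even_iff_odd.1 (mt even_iff_two_dvd.1 m1)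
  have e4 : ∀ k, f^[2 * k] (xc 1) ∈ Z3 K := fun k => by
    induction k with
    | zero => exact xc_mem 1
    | succ k ih =>
      rw [mul_add, mul_one, iterate_succ_apply', iterate_succ_apply']
      exact e3 _ ((e2 _ ih.2.1).1 ih)
  have := ((e2 _ (e4 k).2.1).1 (e4 k)).2.2
  rw [← iterate_succ_apply' f, Nat.succ_eq_add_one, m2 _ trivial, QB.cj_c (xc_mem 1)] at this
  exact one_ne_zero this

theorem zb (hF : Sat F p) : F.autGroup (Q2 K) ≤ stab (Q2 K) (Z3 K) ∨ F.autGroup (Q2 K) ≤ stab (Q2 K) (B3 K) := by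
  haveI : NeZero (3 : K) := ⟨three q⟩
  by_contra c
  simp only [not_or, SetLike.not_le_iff_exists] at c
  obtain ⟨⟨φ, hφ, n1⟩, ψ, hψ, n2⟩ := c
  obtain ⟨x, hx, n1⟩ : ∃ x ∈ Z3 K, fn φ x ∉ Z3 K := by
    by_contra c; push Not at c; exact n1 (mem_stab_of_maps (l34.trans l42) c)
  obtain ⟨y, hy, n2⟩ : ∃ x ∈ B3 K, fn ψ x ∉ B3 K := by
    by_contra c; push Not at c; exact n2 (mem_stab_of_maps lB c)
  have x2 : x ∉ Z2 K := fun c => n1 (l23 (stab_maps (QB.stab_Z2 φ) c))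
  have y2 : y ∉ Z2 K := fun c => n2 (let m := stab_maps (QB.stab_Z2 ψ) c; ⟨m.1, m.2.1, m.2.2.2⟩)
  rcases orb q hφ hx.2.1 ((sq_iff q hx.2.1).2 (by simp [hx.1, hx.2.2])) x2 with a | a | ⟨φ', a1, a⟩
  · exact n1 a.1
  · exact no_swap q hF hφ fun u hu => (cZ q hx x2 hu).symm.trans (a.2 u hu)
  rcases orb q hψ (lB hy) ((sq_iff q (lB hy)).2 (by simp [hy.1, hy.2.2])) y2 with b | b | ⟨ψ', b1, b⟩
  · exact no_swap q hF (inv_mem hψ) fun u hu => by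
      rw [← cB q hy y2 (fn_mem _ hu), b.2 _ (fn_mem _ hu), fn_fn_inv]
  · exact n2 b.1
  · exact no_swap q hF (mul_mem (inv_mem b1) a1) fun u hu => by
      rw [← cB q hy y2 (fn_mem _ hu), b _ (fn_mem _ hu), fn_mul, fn_fn_inv, ← a u hu, cZ q hx x2 hu]

omit q in
theorem exists_s3 (hF : Sat F p) (h2 : Nat.card K ≠ 2) : ∃ (E : FusionSystem (⊤ : Subgroup (Gu K))) (f : Gu K → Gu K),
    FIso F f E ∧ (∀ x ∈ Q1 K, f x ∈ Q1 K) ∧ (∀ x ∈ Q2 K, f x ∈ Q2 K) ∧ E.autGroup (Q2 K) ≤ stab (Q2 K) (Z3 K) := by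
  have k : F.autGroup (Q2 K) ≤ stab (Q2 K) (Z3 K) → ∃ (E : FusionSystem (⊤ : Subgroup (Gu K))) (f : Gu K → Gu K),
      FIso F f E ∧ (∀ x ∈ Q1 K, f x ∈ Q1 K) ∧ (∀ x ∈ Q2 K, f x ∈ Q2 K) ∧ E.autGroup (Q2 K) ≤ stab (Q2 K) (Z3 K) :=
    fun s => ⟨F, id, fiso_id F, fun _ => id, fun _ => id, s⟩
  by_cases h4 : Nat.card K = 4
  · haveI := Fintype.ofFinite K
    rw [Nat.card_eq_fintype_card] at h4
    have h : ∀ a : K, a ^ 4 = a := fun a => h4 ▸ FiniteField.pow_card a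
    have q : (2 : K) = 0 := pow_eq_zero_iff two_ne_zero |>.1 (by
      have := FiniteField.cast_card_eq_zero K
      rw [h4] at this
      exact_mod_cast this)
    refine (zb q hF).elim k fun s => ?_
    obtain ⟨E, i⟩ := exists_fiso F (piso_om4 q h)
    exact ⟨E, _, i, fun x hx => by simp [mem_Q1, mem_Q1.1 hx], fun _ => id, s3_fiso i (fun _ => id) lB s
      (fun x hx => ⟨by simp [hx.1], hx.2.1, hx.2.2⟩) fun y hy => ⟨om4 y, ⟨by simp [hy.1], hy.2.1, hy.2.2⟩, om4_om4 q h y⟩⟩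
  · exact k fun φ _ => s3_all h2 h4 φ

end NM

end CF.FusG
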