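import Cfsg.Agent.FusG.RZ0

/-! Fusion systems on a Sylow `p`-subgroup of `G₂(q)`: the standard form for `p ≠ 3`. -/

set_option autoImplicit false
set_option linter.style.haveILetI false
set_option linter.unusedSimpArgs false
set_option linter.unusedSectionVars false

namespace CF.FusG

open Cfsg Cfsg.FusionSystem Subgroup CF.Fus CF.FusD CF.FusU Function Gu Matrix

variable {K : Type} [Field K] [Finite K] {p : ℕ} [Fact p.Prime] [CharP K p]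
  {E F : FusionSystem (⊤ : Subgroup (Gu K))} {f e : Gu K → Gu K} {P : Subgroup (Gu K)} {α β μ κ k : K}

namespace SG

/-- the diagonal automorphisms -/
def Ht (P : Subgroup (Gu K)) : Subgroup (MulAut P) where
  carrier := {φ | ∃ α β, α ≠ 0 ∧ β ≠ 0 ∧ ∀ x ∈ P, fn φ x = dg α β 1 x}
  one_mem' := ⟨1, 1, one_ne_zero, one_ne_zero, fun x _ => by rw [fn_one, dg_one]⟩
  mul_mem' := by
    rintro φ ψ ⟨α, β, a0, b0, e⟩ ⟨γ, δ, c0, d0, e'⟩
    exact ⟨_, _, mul_ne_zero a0 c0, mul_ne_zero b0 d0, fun x hx => by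
      rw [fn_mul, e _ (fn_mem ψ hx), e' x hx, dg_dg]; rfl⟩
  inv_mem' := by
    rintro φ ⟨α, β, a0, b0, e⟩
    exact ⟨_, _, inv_ne_zero a0, inv_ne_zero b0, fun x hx => by
      rw [← dg_inv (τ := 1) a0 b0 (fn φ⁻¹ x), ← e _ (fn_mem _ hx), fn_fn_inv]; rfl⟩

theorem exists_kappa (h : 3 ≤ Nat.card K) : ∃ κ : K, κ ≠ 0 ∧ κ ≠ 1 := by
  haveI := Fintype.ofFinite K
  classical
  obtain ⟨κ, -, e⟩ := Finset.exists_mem_notMem_of_card_lt_card (s := {0, 1}) (t := (Finset.univ : Finset K))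
    (Finset.card_le_two.trans_lt (by rwa [Finset.card_univ, ← Nat.card_eq_fintype_card]))
  exact ⟨κ, by simpa using e⟩

theorem fixZ {φ : MulAut (Q1 K)} (e : ∀ x ∈ Q1 K, p1 (fn φ x) = p1 x) {z : Gu K} (hz : z ∈ Z1 K) : fn φ z = z := by
  have a : xs z.z ∈ Q1 K := rfl
  have b : xt 1 ∈ Q1 K := rfl
  rw [Z1_ext hz (cmQ1 a b) (by simp [cm_z1 a b]), fn_cm φ a b]
  exact Z1_ext (cmQ1 (fn_mem φ a) (fn_mem φ b)) (cmQ1 a b) (by
    rw [cm_om (fn_mem φ a) (fn_mem φ b), cm_om a b, e _ a, e _ b])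

theorem cent {φ : MulAut (Q1 K)} (k0 : κ ≠ 0) (k1 : κ ≠ 1) (e : ∀ x ∈ Q1 K, p1 (fn φ x) = p1 x)
    (c : ∀ α ≠ 0, ∀ β ≠ 0, ∀ x ∈ Q1 K, fn φ (dg α β 1 x) = dg α β 1 (fn φ x)) : ∃ k l : K, 2 * k = 0 ∧
      (∀ α ≠ 0, α ^ 3 * k = k) ∧ ∀ x ∈ Q1 K, fn φ x = x * xz (k * x.t ^ 2 + l * x.s ^ 2) := by
  obtain ⟨d, hd⟩ : ∃ d : Gu K → K, ∀ x, d x = (fn φ x).z - x.z := ⟨_, fun _ => rfl⟩
  have d1 : ∀ x ∈ Q1 K, ∀ y ∈ Q1 K, d (x * y) = d x + d y := fun x hx y hy => by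
    simp [hd, mulOn_fn φ hx hy, p1_ext_iff.1 (e x hx), p1_ext_iff.1 (e y hy), mem_Q1.1 hx, mem_Q1.1 (fn_mem φ hx)]
    ring
  have d2 : ∀ α ≠ 0, ∀ β ≠ 0, ∀ x ∈ Q1 K, ∀ y, dg α β 1 x = y → d y = α ^ 3 * β ^ 2 * d x := by
    rintro α a0 β b0 x hx _ rfl
    simp [hd, c α a0 β b0 x hx, mul_sub]
  have d5 : ∀ z ∈ Z1 K, d z = 0 := fun z hz => by rw [hd, fixZ e hz, sub_self]
  have z : ∀ u : K, u = κ * u → u = 0 := fun u q =>
    (mul_eq_zero.1 (show (κ - 1) * u = 0 by linear_combination -q)).resolve_left (sub_ne_zero.2 k1)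
  have d3 : ∀ b, d (xb b) = 0 := fun b => z _ ((d2 κ k0 _ (inv_ne_zero k0) (xb b) rfl _ (by
    ext <;> simp [k0])).trans (by field_simp))
  have d4 : ∀ b, d (xc b) = 0 := fun b => z _ ((d2 _ (inv_ne_zero k0) _ (pow_ne_zero 2 k0) (xc b) rfl _ (by
    ext <;> simp [k0])).trans (by field_simp))
  have d6 : ∀ t, d (xt t) = d (xt 1) * t ^ 2 ∧ d (xs t) = d (xs 1) * t ^ 2 := fun t => by
    rcases eq_or_ne t 0 with rfl | t0
    · exact ⟨by rw [d5 _ (by simp [mem_Z1])]; simp, by rw [d5 _ (by simp [mem_Z1])]; simp⟩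
    exact ⟨(d2 1 one_ne_zero t t0 (xt 1) rfl _ (by ext <;> simp)).trans (by ring),
      (d2 1 one_ne_zero t t0 (xs 1) rfl _ (by ext <;> simp)).trans (by ring)⟩
  refine ⟨d (xt 1), d (xs 1), ?_, fun α a0 => ?_, fun x hx => ?_⟩
  · have := d1 (xt 1) rfl (xt 1) rfl
    rw [show xt (1 : K) * xt 1 = xt 2 by ext <;> simp; norm_num, (d6 2).1] at this
    linear_combination this
  · simpa using (d2 α a0 1 one_ne_zero (xt 1) rfl (xt 1) (by ext <;> simp)).symm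
  have e1 := congrArg d (prod_x x)
  rw [mem_Q1.1 hx, show xa (0 : K) = 1 from rfl, mul_one, d1 _ (mul_mem (mul_mem (mul_mem rfl rfl) rfl) rfl) _ rfl,
    d1 _ (mul_mem (mul_mem rfl rfl) rfl) _ rfl, d1 _ (mul_mem rfl rfl) _ rfl, d1 _ rfl _ rfl, d3, d4, d5 _ (xz_mem _),
    (d6 x.t).1, (d6 x.s).2, hd] at e1
  ext <;> simp [p1_ext_iff.1 (e x hx), mem_Q1.1 hx, mem_Q1.1 (fn_mem φ hx)]
  linear_combination e1

theorem top_iff (i : FIso F e E) (c : ∀ f, Mor F ⊤ f → ∀ x, f (e x) = e (f x)) (g : Gu K → Gu K) :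
    Mor E ⊤ g ↔ Mor F ⊤ g := by
  refine ⟨fun h => ?_, fun h => ?_⟩
  · obtain ⟨f, f1, f2⟩ := i.pull (f' := g) le_rfl (by rwa [i.piso.img_eq])
    exact f1.congr fun x _ => by rw [← i.piso.apply_pinv (mem_top x), f2 _ trivial, c f f1]
  · obtain ⟨f, f1, f2⟩ := i.mph.push h
    rw [i.piso.img_eq] at f1
    exact f1.congr fun x _ => by rw [← i.piso.apply_pinv (mem_top x), f2 _ trivial, c g h]

theorem gn_tr (hF : Sat F p) (hP : ∀ t, t ∈ normalizer (P : Set (Gu K))) (i : FIso F e E) (hp : PIso e P P)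
    (c : ∀ f, Mor F ⊤ f → ∀ x, f (e x) = e (f x)) {m : MulAut P} (g : Gn F P m) : Gn E P (hp.autCongr m) := by
  refine ⟨(i.autCongr_mem_iff le_top hp).2 g.1, fun H m1 l ψ hψ => ?_⟩
  obtain ⟨φ, hφ, rfl⟩ := (i.map_autGroup le_top hp).ge hψ
  refine g.2 (H.comap hp.autCongr.toMonoidHom) m1 (fun φ ⟨a, b⟩ => l ⟨(i.autCongr_mem_iff le_top hp).2 a, ?_⟩) hφ
  obtain ⟨g, g1, g2⟩ := ext_top hF le_top (fun s _ => hP s) a b
  rwa [show hp.autCongr.toMonoidHom φ = φ from hp.autCongr_eq fun x hx => by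
    rw [← g2 _ (hp.maps hx), ← g2 x hx, c g g1]]

/-- central automorphisms -/
def ph (k : K) (x : Gu K) : Gu K := x * xz (k * x.t ^ 2)

theorem piso_ph (h : 2 * k = 0) : PIso (ph k) ⊤ ⊤ :=
  piso_self_of_maps (fun x _ y _ => by ext <;> simp [ph]; linear_combination x.t * y.t * h)
    (fun x _ y _ e => by
      simp only [ph, Gu.ext_iff, mul_a, mul_t, mul_b, mul_c, mul_s, mul_z, xz] at e ⊢
      simp at e
      exact ⟨e.1, e.2.1, e.2.2.1, e.2.2.2.1, e.2.2.2.2.1, by simpa [e.2.1] using e.2.2.2.2.2⟩) fun _ _ => trivial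

theorem tau (hF : Sat F p) (tor : Tor F) (h2 : 2 * k = 0) (h3 : ∀ α ≠ 0, α ^ 3 * k = k) {τ : K ≃+* K} (a0 : α ≠ 0)
    (b0 : β ≠ 0) (m : Mor F ⊤ (dg α β τ)) : τ k = k := by
  rcases eq_or_ne k 0 with rfl | k0
  · simp
  have m1 := mor_dg_mul (tor _ _ (inv_ne_zero a0) (inv_ne_zero b0)) m
  simp only [RingAut.one_apply, inv_mul_cancel₀ a0, inv_mul_cancel₀ b0, one_mul] at m1
  obtain ⟨ψ, h1, e⟩ := m1.iso_top.exists_aut
  obtain rfl : p = 2 := (Nat.prime_dvd_prime_iff_eq Fact.out Nat.prime_two).1 ((CharP.cast_eq_zero_iff K p 2).1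
    (by exact_mod_cast (mul_eq_zero.1 h2).resolve_right k0))
  have tt : τ * τ = 1 := RingEquiv.ext fun x => by
    show τ (τ x) = x
    rcases eq_or_ne x 0 with rfl | x0
    · simp
    rcases eq_or_ne x 1 with rfl | x1
    · simp
    have q : x ^ 2 + x + 1 = 0 := mul_left_cancel₀ (mul_ne_zero k0 (sub_ne_zero.2 x1)) (by linear_combination h3 x x0)
    have q' := congrArg τ q
    simp only [map_add, map_pow, map_one, map_zero] at q'
    rcases mul_eq_zero.1 (show (τ x - x) * (τ x + x + 1) = 0 by linear_combination q' - q) with r | r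
    · rw [sub_eq_zero.1 r, sub_eq_zero.1 r]
    · have r' := congrArg τ r
      simp only [map_add, map_one, map_zero] at r'
      linear_combination r' - r
  obtain ⟨t, -, rfl⟩ := mem_Inn.1 (hF.mem_Inn_top h1 (k := 1) (aut_ext fun x _ => by
    rw [pow_one, pow_two, fn_mul, e _ trivial, e _ trivial, dg_dg, tt, fn_one]; simp [dg_one]))
  simpa using congrArg Gu.a (RZ.eq_self (RZ.dh_dg one_ne_zero one_ne_zero) (t := t)
    (fun x => by rw [← e x trivial, fn_cA (le_normalizer (mem_top t)) trivial]) (xa k))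

end SG

open SG in
theorem stdg0 (h : Nm F p) (h3 : (3 : K) ≠ 0) (h4 : 3 ≤ Nat.card K) (tor : Tor F) {m : MulAut (Q1 K)}
    (g : Gn F (Q1 K) m) (hm : ∀ x ∈ Q1 K, p1 (fn m x) = wM K *ᵥ p1 x)
    (inn : ∀ φ ∈ F.autGroup (Q1 K), (∀ x ∈ Q1 K, p1 (fn φ x) = p1 x) → φ ∈ Inn (Q1 K))
    (g2 : ∀ E : FusionSystem (⊤ : Subgroup (Gu K)), Nm E p → Tor E → Gn E (Q2 K) (w2 K)) :
    ∃ (E : FusionSystem (⊤ : Subgroup (Gu K))) (f : Gu K → Gu K), FIso F f E ∧ Sd E p ∧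
      ∀ g, Mor E ⊤ g ↔ Mor F ⊤ g := by
  obtain ⟨κ, k0, k1⟩ := exists_kappa h4
  obtain ⟨u, hu, cu⟩ := lift (H := Ht (Q1 K)) (fun _ a => a) (m := m) (n := w1 K) fun φ ⟨α, β, a0, b0, q⟩ => by
    obtain ⟨ψ, s1, s2⟩ := aut_Q1 (tor _ _ (inv_ne_zero a0) (mul_ne_zero (pow_ne_zero 3 a0) b0))
    refine ⟨ψ, inn _ (mul_mem (mul_mem (mul_mem g.1 (((tor α β a0 b0).mono le_top).aut_mem' q)) (inv_mem g.1))
      (inv_mem s1)) fun x hx => ?_, ?_⟩
    · obtain ⟨y, hy, rfl⟩ : ∃ y ∈ Q1 K, fn (ψ * m) y = x := ⟨_, fn_mem _ hx, fn_fn_inv _ x⟩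
      rw [mul_assoc, ← _root_.mul_inv_rev, fn_mul, fn_inv_fn, fn_mul, fn_mul, s2 _ (fn_mem _ hy), hm _ (fn_mem _ hy),
        q y hy, ← p1_W1, W1_dg a0, p1_dg, p1_dg, p1_W1, hm y hy]
    · rw [show w1 K * φ = ψ * w1 K from aut_ext fun x hx => by
        rw [fn_mul, fn_mul, fn_w1 (fn_mem _ hx), q x hx, s2 _ (fn_mem _ hx), fn_w1 hx, W1_dg a0]]
      simpa using one_mem _
  obtain ⟨k, l, c2, c3, c⟩ := cent (φ := u * ((w1 K)⁻¹ * m)) k0 k1 (fun x hx => by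
      obtain ⟨t, ht, rfl⟩ := mem_Inn.1 hu
      have a := fn_mem ((w1 K)⁻¹ * m) hx
      have b := p1_W1 (fn ((w1 K)⁻¹ * m) x)
      rw [← fn_w1 a, ← fn_mul, mul_inv_cancel_left, hm x hx] at b
      rw [fn_mul, fn_cA (nQ1 t) a, p1_cj a, mem_Q1.1 ht, uM_zero, one_mulVec]
      simpa [wM_wM, neg_mulVec] using congrArg (wM K *ᵥ ·) b.symm) fun α a0 β b0 x hx => by
    obtain ⟨φ, -, q⟩ := aut_Q1 (tor α β a0 b0)
    rw [← q x hx, ← cu φ ⟨α, β, a0, b0, q⟩, q _ (fn_mem _ hx)]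
  obtain ⟨n, hn, gn⟩ : ∃ n, (∀ x ∈ Q1 K, fn n x = W1 x * xz (k * x.t ^ 2 + l * x.s ^ 2)) ∧ Gn F (Q1 K) n := by
    have v := conj_mem_of_norm (Inn_norm ⊤ (mem_top (w1 K))) hu
    have q : w1 K * (u * ((w1 K)⁻¹ * m)) = w1 K * u * (w1 K)⁻¹ * m := by group
    refine ⟨w1 K * (u * ((w1 K)⁻¹ * m)), fun x hx => ?_, by rw [q]; exact mul_mem (Inn_le_autGroup F le_top v) g.1,
      fun H a b => g.2 H ?_ b⟩
    · rw [fn_mul, fn_w1 (fn_mem _ hx), c x hx]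
      ext <;> simp; ring
    · exact (H.mul_mem_cancel_left (b ⟨Inn_le_autGroup F le_top v, le_normalizer (Inn_le_autInducedBy le_top v)⟩)).1
        (q ▸ a)
  obtain rfl : l = -k := by
    obtain ⟨φ, s1, s2⟩ := aut_Q1 (tor 1 (-1) one_ne_zero (by simp))
    have q : ∀ x ∈ Q1 K, fn (φ * (n * n)) x = x * xz ((k + l) * (x.t ^ 2 + x.s ^ 2)) := fun x hx => by
      rw [fn_mul, s2 _ (fn_mem _ hx), fn_mul, hn _ (fn_mem _ hx), hn x hx]
      ext <;> simp [mem_Q1.1 hx]; ring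
    obtain ⟨t, ht, e⟩ := mem_Inn.1 (inn _ (mul_mem s1 (mul_mem gn.1 gn.1)) fun x hx => by
      rw [q x hx]; simp [p1_ext_iff])
    have r : ∀ b : K, b * t.s + (k + l) * b ^ 2 = 0 := fun b => by
      have := congrArg Gu.z (q (xt b) rfl)
      rw [← e, fn_cA (nQ1 t) rfl] at this
      simp [mem_Q1.1 ht] at this
      linear_combination -this
    exact mul_left_cancel₀ (mul_ne_zero k0 (sub_ne_zero.2 k1)) (by linear_combination r κ - κ * r 1)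
  have j := piso_ph c2
  obtain ⟨E, i⟩ := exists_fiso F j
  have cm : ∀ f, Mor F ⊤ f → ∀ x, f (ph k x) = ph k (f x) := fun f hf x => by
    obtain ⟨t, d, ⟨α, β, τ, a0, b0, e | ⟨e, -⟩⟩, m, q⟩ := h.top f hf
    · have := tau h.sat tor c2 c3 a0 b0 (m.congr fun x _ => (e x).symm)
      rw [q, q, e, e]
      ext <;> simp [ph, this]
      linear_combination β ^ 2 * τ x.t ^ 2 * c3 α a0
    · exact (h3 e).elim
  have top := top_iff i cm
  have j1 := CH.piso_of j (map_Q1 h3 j)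
  have j2 := CH.piso_of j (map_Q2 h3 j)
  have nE : Nm E p := ⟨i.sat' h.sat, es_fiso h.sat i h.es, j1.img_eq ▸ i.ess h.sat h.e1, j2.img_eq ▸ i.ess h.sat h.e2,
    fun f hf => let ⟨t, d, a, m, q⟩ := h.top f ((top f).1 hf); ⟨t, d, a, (top d).2 m, q⟩, fun ψ hψ => by
      obtain ⟨φ, hφ, rfl⟩ := (i.map_autGroup le_top j2).ge hψ
      rw [show j2.autCongr.toMonoidHom φ = φ from j2.autCongr_eq fun x hx => by
        simp [ph, mem_Q2.1 hx, mem_Q2.1 (fn_mem φ hx), show xz (0 : K) = 1 from rfl]]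
      exact h.s3 hφ⟩
  have tE : Tor E := fun α β a0 b0 => (top _).2 (tor α β a0 b0)
  refine ⟨E, _, i, ⟨nE, tE, ?_, g2 E nE tE⟩, top⟩
  rw [← j1.autCongr_eq (α := n) (β := w1 K) fun x hx => by
    rw [fn_w1 (j1.maps hx), hn x hx]
    ext <;> simp [ph]; ring]
  exact gn_tr h.sat nQ1 i j1 cm gn

end CF.FusG
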