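import Cfsg.Agent.FusG.L5a

/-! Matrices over the field with two elements as numbers. -/

set_option autoImplicit false
set_option maxRecDepth 100000

namespace CF.FusG.T1

open Subgroup Matrix
open L5 (fc fc_eq pk pm cs)

abbrev F2 := ZMod 2
abbrev G4 := GL (Fin 4) F2

def ev (v : Fin 4 → F2) : ℕ := pk (v 0).val (v 1).val (v 2).val (v 3).val
def en (m : Matrix (Fin 4) (Fin 4) F2) : ℕ := pm (ev (m · 0)) (ev (m · 1)) (ev (m · 2)) (ev (m · 3))

def m4 (a b c d v : ℕ) : ℕ := fc (v % 8) fun x => fc (v / 8 % 8) fun y => fc (v / 64 % 8) fun z =>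
  fc (v / 512 % 8) fun t => pk ((a % 8 * x + b % 8 * y + c % 8 * z + d % 8 * t) % 2)
    ((a / 8 % 8 * x + b / 8 % 8 * y + c / 8 % 8 * z + d / 8 % 8 * t) % 2)
    ((a / 64 % 8 * x + b / 64 % 8 * y + c / 64 % 8 * z + d / 64 % 8 * t) % 2)
    ((a / 512 % 8 * x + b / 512 % 8 * y + c / 512 % 8 * z + d / 512 % 8 * t) % 2)

def mm (m n : ℕ) : ℕ := cs m fun a b c d => cs n fun x y z t =>
  pm (m4 a b c d x) (m4 a b c d y) (m4 a b c d z) (m4 a b c d t)

theorem ev_lt (v : Fin 4 → F2) : ev v < 4096 := by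
  have := ZMod.val_lt (v 0); have := ZMod.val_lt (v 1); have := ZMod.val_lt (v 2); have := ZMod.val_lt (v 3)
  simp only [ev, pk]; omega

theorem ev_dig (v : Fin 4 → F2) : ev v % 8 = (v 0).val ∧ ev v / 8 % 8 = (v 1).val ∧ ev v / 64 % 8 = (v 2).val ∧
    ev v / 512 % 8 = (v 3).val := by
  have := ZMod.val_lt (v 0); have := ZMod.val_lt (v 1); have := ZMod.val_lt (v 2); have := ZMod.val_lt (v 3)
  simp only [ev, pk]; omega

theorem ev_inj {v w : Fin 4 → F2} (h : ev v = ev w) : v = w := by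
  have a := ev_dig v
  have b := ev_dig w
  rw [h] at a
  ext i; fin_cases i <;> apply ZMod.val_injective
  exacts [a.1.symm.trans b.1, a.2.1.symm.trans b.2.1, a.2.2.1.symm.trans b.2.2.1, a.2.2.2.symm.trans b.2.2.2]

theorem cs_en {α : Type} (m : Matrix (Fin 4) (Fin 4) F2) (f : ℕ → ℕ → ℕ → ℕ → α) :
    cs (en m) f = f (ev (m · 0)) (ev (m · 1)) (ev (m · 2)) (ev (m · 3)) := by
  have := ev_lt (m · 0); have := ev_lt (m · 1); have := ev_lt (m · 2); have := ev_lt (m · 3)
  simp only [cs, fc_eq, en, pm]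
  congr 1 <;> omega

theorem val4 (a b c d x y z t : F2) : (a * x + b * y + c * z + d * t).val =
    (a.val * x.val + b.val * y.val + c.val * z.val + d.val * t.val) % 2 := by
  rw [← ZMod.val_natCast]; congr 1; simp

theorem m4_ev (m : Matrix (Fin 4) (Fin 4) F2) (v : Fin 4 → F2) :
    m4 (ev (m · 0)) (ev (m · 1)) (ev (m · 2)) (ev (m · 3)) (ev v) = ev (m *ᵥ v) := by
  simp only [m4, fc_eq, ev_dig, ← val4]
  simp only [ev, mulVec, dotProduct, Fin.sum_univ_four]

theorem mm_en (m n : Matrix (Fin 4) (Fin 4) F2) : mm (en m) (en n) = en (m * n) := by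
  simp only [mm, cs_en, m4_ev]
  rfl

theorem en_inj {m n : Matrix (Fin 4) (Fin 4) F2} (h : en m = en n) : m = n := by
  have a := cs_en m fun a b c d => (a, b, c, d)
  rw [h, cs_en] at a
  simp only [Prod.mk.injEq] at a
  ext i j; fin_cases j
  exacts [congrFun (ev_inj a.1.symm) i, congrFun (ev_inj a.2.1.symm) i, congrFun (ev_inj a.2.2.1.symm) i,
    congrFun (ev_inj a.2.2.2.symm) i]

/-- the code of an invertible matrix -/
def eg (g : G4) : ℕ := en g.1

theorem eg_inj {g h : G4} (e : eg g = eg h) : g = h := Units.ext (en_inj e)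
theorem eg_iff {g h : G4} : eg g = eg h ↔ g = h := ⟨eg_inj, fun e => e ▸ rfl⟩
theorem eg_mul (g h : G4) : mm (eg g) (eg h) = eg (g * h) := mm_en _ _

def cU : ℕ := 35194037895753
def c1 : ℕ := 35185445863425
def XL : List ℕ := [35185445863425, 68853957120, 4475490144264, 35735220518976, 39591008571400]

theorem eg_u : eg (uG 1) = cU := by decide +kernel
theorem eg_1 : eg 1 = c1 := by decide +kernel
theorem eg_X : XL = [1, wG F2, rW, rM, rL].map eg := by decide +kernel

def ck (g : ℕ) : Bool := fc g fun g => (XL.any fun x => g == x || g == mm cU x || g == mm x cU || g == mm (mm cU x) cU) ||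
  fc (mm cU (mm g (mm g g))) fun h => fc (mm h (mm h h)) fun k => fc (mm k k) fun l =>
    l == c1 && mm k cU == mm cU k && k != c1 && k != cU || mm l l == c1 && l != c1

set_option synthInstance.maxSize 100000 in
theorem all : ∀ a0 a1 a2 a3 : F2, qf ![a0, a1, a2, a3] = 0 → ∀ b0 b1 b2 b3 : F2, qf ![b0, b1, b2, b3] = 0 →
    om ![a0, a1, a2, a3] ![b0, b1, b2, b3] = 0 → ∀ c0 c1 c2 c3 : F2, qf ![c0, c1, c2, c3] = 0 →
    om ![a0, a1, a2, a3] ![c0, c1, c2, c3] = 0 → om ![b0, b1, b2, b3] ![c0, c1, c2, c3] = 1 →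
    ∀ d0 d1 d2 d3 : F2, qf ![d0, d1, d2, d3] = 0 → om ![a0, a1, a2, a3] ![d0, d1, d2, d3] = 1 →
    om ![b0, b1, b2, b3] ![d0, d1, d2, d3] = 0 → om ![c0, c1, c2, c3] ![d0, d1, d2, d3] = 0 →
    ck (pm (pk a0.val a1.val a2.val a3.val) (pk b0.val b1.val b2.val b3.val) (pk c0.val c1.val c2.val c3.val)
      (pk d0.val d1.val d2.val d3.val)) = true := by decide +kernel

end CF.FusG.T1
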