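import Cfsg.Agent.FusG.B

/-! An element of order three acting on an extraspecial group of order `5 ^ 3`. -/

set_option autoImplicit false
set_option linter.style.haveILetI false

namespace CF.FusG.WB

open Cfsg Subgroup CF.Fus CF.FusU Function

variable {G H : Type*} [Group G] [Group H] {P : Subgroup G} {u v w x : G}

/-- `x` acts on the `5`-group `P` with order three and centralizes a central commutator -/
structure Wt (P : Subgroup G) (u x : G) : Prop where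
  pg : IsPGroup 5 P
  mu : u ∈ P
  nx : x ∈ normalizer (P : Set G)
  ne : cm u (x * u * x⁻¹) ≠ 1
  cp : ∀ a ∈ P, a * cm u (x * u * x⁻¹) = cm u (x * u * x⁻¹) * a
  cx : x * cm u (x * u * x⁻¹) = cm u (x * u * x⁻¹) * x
  x3 : ∀ a ∈ P, x ^ 3 * a = a * x ^ 3

theorem nrm [Finite G] {g : G} (h : P ≤ P.comap (MulAut.conj g).toMonoidHom) : g ∈ normalizer (P : Set G) :=
  mem_normalizer_fintype fun _ a => h a

theorem hom_cm (f : G →* H) (a b : G) : f (cm a b) = cm (f a) (f b) := by simp [cm]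

theorem of_rel [Finite G] (hv : x * u = v * x) (hw : u * w * v = v * u) (h1 : u ^ 5 = 1) (h2 : x ^ 3 = 1)
    (h3 : u * v * x * v = x) (h4 : w ≠ 1) (h5 : w ^ 5 = 1) (h6 : u * w = w * u) (h7 : x * w = w * x) :
    ∃ P, Wt P u x := by
  have ev : x * u * x⁻¹ = v := mul_inv_eq_iff_eq_mul.2 hv
  have ew : cm u v = w := mul_left_cancel (a := u) (by rw [mul_cm, ← hw, mul_inv_cancel_right])
  have e1 : x * v * x⁻¹ = (u * v)⁻¹ := by
    rw [eq_inv_iff_mul_eq_one, mul_eq_one_comm, ← mul_assoc, ← mul_assoc, h3, mul_inv_cancel]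
  have v5 : v ^ 5 = 1 := by rw [← ev, conj_pow, h1]; simp
  have h8 : v * w = w * v := by
    have a : Commute x w := h7
    exact ev ▸ ((a.mul_left h6).mul_left a.inv_left).eq
  have e2 : u * v * u⁻¹ = w⁻¹ * v := by
    rw [eq_inv_mul_iff_mul_eq, ← mul_assoc, ← mul_assoc, ← h6, hw, mul_inv_cancel_right]
  have c : ∀ {a : G}, a * w = w * a → a * w * a⁻¹ = w := fun e => mul_inv_eq_iff_eq_mul.2 e
  have mv : v ∈ zpowers v ⊔ zpowers w := mem_sup_left (mem_zpowers v)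
  have mw : w ∈ zpowers v ⊔ zpowers w := mem_sup_right (mem_zpowers w)
  have mu : u ∈ zpowers u ⊔ (zpowers v ⊔ zpowers w) := mem_sup_left (mem_zpowers u)
  have k : ∀ {a b c : G} {A : Subgroup G}, a * b * a⁻¹ = c → c ∈ A →
      zpowers b ≤ A.comap (MulAut.conj a).toMonoidHom := fun e m => zpowers_le.2 (by rw [← e] at m; exact m)
  have p1 : IsPGroup 5 (zpowers v ⊔ zpowers w :) :=
    isPGroup_sup_of_norm (isPGroup_zpowers (k := 1) v5) (isPGroup_zpowers (k := 1) h5)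
      (zpowers_le.2 (nrm (k (c h8) (mem_zpowers w))))
  refine ⟨zpowers u ⊔ (zpowers v ⊔ zpowers w), isPGroup_sup_of_norm (isPGroup_zpowers (k := 1) h1) p1
    (zpowers_le.2 (nrm (sup_le (k e2 (mul_mem (inv_mem mw) mv)) (k (c h6) mw)))), mu,
    nrm (sup_le (k ev (mem_sup_right mv)) (sup_le (k e1 (inv_mem (mul_mem mu (mem_sup_right mv))))
      (k (c h7) (mem_sup_right mw)))), ?_, ?_, ?_, ?_⟩
  · rwa [ev, ew]
  · rw [ev, ew]
    exact fun a ha => mem_centralizer_singleton_iff.1 ((sup_le (zpowers_le.2 (mem_centralizer_singleton_iff.2 h6))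
      (sup_le (zpowers_le.2 (mem_centralizer_singleton_iff.2 h8))
        (zpowers_le.2 (mem_centralizer_singleton_iff.2 rfl))) : _ ≤ centralizer {w}) ha)
  · rwa [ev, ew]
  · simp [h2]

theorem eq_one (hP : IsPGroup 5 P) {a : G} (ha : a ∈ P) (h : a ^ 4 = 1) : a = 1 := by
  obtain ⟨k, e⟩ := isPGroup_iff_mem.1 hP a ha
  exact orderOf_eq_one_iff.1 (Nat.eq_one_of_dvd_coprimes (Nat.Coprime.pow_right k (by norm_num : Nat.Coprime 4 5))
    (orderOf_dvd_of_pow_eq_one h) (orderOf_dvd_of_pow_eq_one e))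

theorem Wt.mv (h : Wt P u x) : x * u * x⁻¹ ∈ P := (mem_normalizer_iff.1 h.nx u).1 h.mu
theorem Wt.mw (h : Wt P u x) : cm u (x * u * x⁻¹) ∈ P := cm_mem' h.mu h.mv

theorem Wt.down (h : Wt P u x) (f : G →* H) (hf : ∀ a, f a = 1 → a ^ 4 = 1) : Wt (P.map f) (f u) (f x) := by
  have e : cm (f u) (f x * f u * (f x)⁻¹) = f (cm u (x * u * x⁻¹)) := by simp [hom_cm]
  refine ⟨h.pg.map f, mem_map_of_mem f h.mu, le_normalizer_map f (mem_map_of_mem f h.nx), ?_, ?_, ?_, ?_⟩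
  · rw [e]; exact fun q => h.ne (eq_one h.pg h.mw (hf _ q))
  · rintro _ ⟨a, ha, rfl⟩
    rw [e, ← map_mul, h.cp a ha, map_mul]
  · rw [e, ← map_mul, h.cx, map_mul]
  · rintro _ ⟨a, ha, rfl⟩
    rw [← map_pow, ← map_mul, h.x3 a ha, map_mul]

theorem Wt.up [Finite H] (h : Wt P u x) (f : H →* G) (hs : Surjective f) (hf : ∀ a, f a = 1 → a ^ 4 = 1) :
    ∃ (Q : Subgroup H) (u x : H), Wt Q u x := by
  obtain ⟨Q, hQ⟩ := exists_sylIn 5 (P.comap f)
  have e : Q.map f = P := by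
    have := hQ.map f
    rw [map_comap_eq_self_of_surjective hs] at this
    exact this.eq_of_isPGroup h.pg
  obtain ⟨y, rfl⟩ := hs x
  obtain ⟨b, hb, n⟩ := hQ.frattini (g := y) (le_normalizer_comap f h.nx)
  obtain ⟨c, hc, ec⟩ := e.ge hb
  obtain ⟨a, ha, rfl⟩ := e.ge h.mu
  have nz : c⁻¹ * (b * y) ∈ normalizer (Q : Set H) := mul_mem (le_normalizer (inv_mem hc)) n
  have ez : f y = f (c⁻¹ * (b * y)) := by simp [ec]
  generalize c⁻¹ * (b * y) = z at nz ez
  rw [ez] at h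
  have i : ∀ {r s : H}, r ∈ Q → s ∈ Q → f r = f s → r = s := fun {r s} a b e =>
    mul_inv_eq_one.1 (eq_one hQ.pg (mul_mem a (inv_mem b)) (hf _ (by simp [e])))
  have m : cm a (z * a * z⁻¹) ∈ Q := cm_mem' ha ((mem_normalizer_iff.1 nz a).1 ha)
  have e' : cm (f a) (f z * f a * (f z)⁻¹) = f (cm a (z * a * z⁻¹)) := by simp [hom_cm]
  refine ⟨Q, a, z, hQ.pg, ha, nz, fun q => h.ne (by rw [e', q, map_one]), fun r hr => i (mul_mem hr m) (mul_mem m hr) ?_,
    mul_inv_eq_iff_eq_mul.1 (i ((mem_normalizer_iff.1 nz _).1 m) m ?_), fun r hr =>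
    mul_inv_eq_iff_eq_mul.1 (i ((mem_normalizer_iff.1 (pow_mem nz 3) _).1 hr) hr ?_)⟩
  · rw [map_mul, map_mul, ← e', h.cp _ (e.le (mem_map_of_mem f hr))]
  · rw [map_mul, map_mul, ← e', h.cx, map_inv, mul_inv_cancel_right]
  · rw [map_mul, map_mul, map_inv, map_pow, h.x3 _ (e.le (mem_map_of_mem f hr)), mul_inv_cancel_right]

end CF.FusG.WB
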