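import Cfsg.Agent.FusG.WB0
import Cfsg.Agent.Mon.hnC
import Cfsg.Agent.Mon.Cert
import Cfsg.Agent.Comp.HN.Main

/-! Subgroups of the Baby Monster that determine its `5`-fusion. -/

set_option autoImplicit false
set_option maxRecDepth 100000
set_option linter.style.haveILetI false

namespace CF.FusG.WB

open Cfsg Cfsg.Spor Subgroup Function

section co
open CF.Leech CF.Comp CF.Known.Mon CF.Mon CF.Mon.G

def yU : List ℕ := [
  0x9421084a0e84210841d094210741d2, 0x842108424e8424e94210842107424e, 0x74210839d0841ce7425074210a4210,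
  0x8c5ef8c62f8c62f8c5ef8be2f6c631, 0x8bdef7c62f7c62f8bdef8c6316c5ef, 0x942108420e84250941d083a1274210,
  0x8be2f8c62f8c62f8bdf18bdef6bdef, 0x8c5f18c62f8be2f8c5f18c6316bdef, 0x942128424e84a10942109421074210,
  0x841d084a0e8425094210941d074210, 0x8c62f7c62f7c62f8c5f18c5f16be31, 0x8bdf17c62f7be2f8bdf18be2f6be31,
  0x9421084a508424e941d09421084210, 0x742508425284212841d0841d074210, 0x84a108425083a12841d094210741d0,
  0x84a1084a5284210949d08421074210, 0x83a1084a5284210939d08421074210, 0x8be2f8c5f18c6338c5ef7be2f7be2f,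
  0x9420e84a508421283a1084210741d0, 0x83a0e84a108421294210942107420e, 0x8be2f8c6337c6317bdef8c5f17bdf1,
  0x842108421284212741d29421073a10, 0x93a10842128425283a107421074210, 0x8c5ef8c6338c6318bdef7be317bdef]

def aU : List ℕ := [
  7326627, 13042842, 11064609, 3047286, 5473876, 13125818, 13522383, 9582468, 9558034, 13562745, 11773070, 15715660,
  11066081, 6694480, 5426520, 13305602, 13306248, 15631948, 530648, 11327819, 6347167, 2285211, 6544035, 11341877]

def yX : List ℕ := [
  0x7be318bdef8c5ef7bdef7be2f7bdb1, 0x7be318c5ef8c62f8bdef8c6317be6f, 0x8c5ef7c6317be358c6318c5f18c5ef,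
  0x73a10941d09420e839d08421084210, 0x842129420e9420e841d08425083a10, 0x7be318bdef8c5ef7bdef7be337be31,
  0x84252941d08420e83a0e8425084210, 0x84210941ce84a0e83a108421073a10, 0x7be318bdef8c5ef7bdef9be2f7be31,
  0x7be318bdef8c5ef9bdef7be2f7be31, 0x7be318cdef8c5ef7bdef7be2f7be31, 0x7be318bdef8c66f7bdef7be2f7be31,
  0x83a108420e84a0e839ce8425084210, 0x7c6317c6317bded7be2f7c5ef8be31, 0x7c5f17bdef8c5ed7be2f7c5ef7bdf1,
  0x7bdef8c5ef7c5ed7bdef7c5ef8be31, 0x8be318be2f7be2d7bdef7c62f8be31, 0x7be2f8bdf17bded7c6317be318c62f,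
  0x8c6318bdef8bded7c5ef7c62f7c5f1, 0x8be318bdef8bded8c62f7be2f8be2f, 0x8c6317c62f7bded7bdf17be2f8c5f1,
  0x84a10842108420e73a5073a0e84210, 0x8c6318be317be2d7c5f17be317c631, 0x8c5ef8bdef7bded7bdf17c6318c631]

def aX : List ℕ := [
  2201757, 8787567, 2196717, 7512082, 11779242, 2202229, 7752706, 10708160, 2201205, 2203221, 2202741, 2201535,
  7474554, 4508709, 3809407, 4233887, 2074006, 9632413, 16740157, 14126159, 15219599, 11242736, 9893623, 14558127]

theorem u_ok : isCo yU aU = true := by decide +kernel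
theorem x_ok : isCo yX aX = true := by decide +kernel

/-- words in two elements -/
def wg {G : Type*} [Group G] (a b : G) : List Bool → G
  | [] => 1
  | c :: l => (bif c then a else b) * wg a b l

theorem map_wg {G H : Type*} [Group G] [Group H] (f : G →* H) (a b : G) (l : List Bool) :
    f (wg a b l) = wg (f a) (f b) l := by
  induction l with
  | nil => exact map_one f
  | cons c l ih => cases c <;> exact (map_mul f _ _).trans (congrArg _ ih)

/-- the matrices of the words -/
noncomputable def wA (l : List Bool) : List ℕ :=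
  List.rec ((List.range 24).map (2 ^ ·)) (fun c _ B => forceL B (lmap (xorSel (bif c then aU else aX)))) l

theorem rep (l : List Bool) : RepM (wg (coOf yU) (coOf yX) l) (wA l) := by
  induction l with
  | nil =>
    have : ∀ q < 24, nth 0 ((List.range 24).map (2 ^ ·)) q = 2 ^ q := by decide +kernel
    exact ⟨by simp [wA], fun q hq => (one_smul _ _).trans (congrArg Leech.wd (this q hq).symm)⟩
  | cons c l ih =>
    have e : wA (c :: l) = lmap (xorSel (bif c then aU else aX)) (wA l) := forceL_eq _ _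
    rw [e]
    cases c
    exacts [(coOf_spec x_ok).2.mul ih, (coOf_spec u_ok).2.mul ih]

/-- the conjugate -/
def VV : List Bool := [false, true, false, false]
/-- the commutator -/
def WW : List Bool := [true, true, true, true, false, true, false, false, true, false, true, true, true, true, false, false]

/-- the action modulo the centre -/
noncomputable def pr : PA →* Co0 ⧸ center Co0 := (QuotientGroup.mk' _).comp (gOf.comp PA.subtype)

theorem wt_PA : ∃ (Q : Subgroup PA) (u x : PA), Wt Q u x := by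
  obtain ⟨a, ha, ea⟩ := exists_PA (g := coOf yU) (by
    rw [O.red_uA, (coOf_spec u_ok).2.smul_wd]; exact congrArg Leech.wd (by decide +kernel))
  obtain ⟨b, hb, eb⟩ := exists_PA (g := coOf yX) (by
    rw [O.red_uA, (coOf_spec x_ok).2.smul_wd]; exact congrArg Leech.wd (by decide +kernel))
  have v : ∀ l, ((wg (pr.rangeRestrict ⟨a, ha⟩) (pr.rangeRestrict ⟨b, hb⟩) l : pr.range) : Co0 ⧸ center Co0) =
      QuotientGroup.mk' _ (wg (coOf yU) (coOf yX) l) := fun l => by
    rw [← map_wg, ← ea, ← eb]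
    exact congrArg (QuotientGroup.mk' _) (map_wg (gOf.comp PA.subtype) ⟨a, ha⟩ ⟨b, hb⟩ l)
  have k : ∀ l m, leq (wA l) (wA m) = true → wg (pr.rangeRestrict ⟨a, ha⟩) (pr.rangeRestrict ⟨b, hb⟩) l =
      wg (pr.rangeRestrict ⟨a, ha⟩) (pr.rangeRestrict ⟨b, hb⟩) m := fun l m e => Subtype.ext (by
    rw [v, v]
    rcases repM_eq (rep l) (Comp.leq_iff.1 e ▸ rep m) with e | e <;> rw [e]
    rw [map_mul, QuotientGroup.mk'_apply _ negCo,
      (QuotientGroup.eq_one_iff _).2 (Leech.mem_center_iff.2 (.inr rfl)), one_mul])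
  have n : wg (pr.rangeRestrict ⟨a, ha⟩) (pr.rangeRestrict ⟨b, hb⟩) WW ≠ 1 := fun e => by
    have := congrArg Subtype.val e
    rw [v] at this
    have c : wg (coOf yU) (coOf yX) WW • Leech.wd (2 ^ 0) = Leech.wd (2 ^ 0) := by
      rcases Leech.mem_center_iff.1 ((QuotientGroup.eq_one_iff _).1 this) with e | e <;> rw [e]
      exacts [one_smul _ _, negCo_red _]
    rw [(rep _).2 0 (by norm_num)] at c
    have d : (Leech.wd (nth 0 (wA WW) 0) (pt 1) : ZMod 2) = Leech.wd (2 ^ 0) (pt 1) := congrFun c _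
    exact absurd d (by unfold Leech.wd; decide +kernel)
  generalize eu : pr.rangeRestrict ⟨a, ha⟩ = u at k n
  generalize ex : pr.rangeRestrict ⟨b, hb⟩ = x at k n
  have s : ∀ l m, wg u x (l ++ m) = wg u x l * wg u x m := fun l m => by
    induction l with
    | nil => exact (one_mul _).symm
    | cons c l ih => exact (congrArg _ ih).trans (mul_assoc _ _ _).symm
  obtain ⟨P, h⟩ := of_rel (u := wg u x [true]) (x := wg u x [false]) (v := wg u x VV) (w := wg u x WW)
    (by simp only [← s]; exact k _ _ (by decide +kernel)) (by simp only [← s]; exact k _ _ (by decide +kernel))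
    (by simp only [pow_succ, pow_zero, one_mul, ← s]; exact k _ [] (by decide +kernel))
    (by simp only [pow_succ, pow_zero, one_mul, ← s]; exact k _ [] (by decide +kernel))
    (by simp only [← s]; exact k _ _ (by decide +kernel)) n
    (by simp only [pow_succ, pow_zero, one_mul, ← s]; exact k _ [] (by decide +kernel))
    (by simp only [← s]; exact k _ _ (by decide +kernel)) (by simp only [← s]; exact k _ _ (by decide +kernel))
  exact h.up _ pr.rangeRestrict_surjective fun c e => Subtype.ext (O.PM.pow (O.pm_iff.2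
    ((QuotientGroup.eq_one_iff _).1 (congrArg Subtype.val e))))

theorem wt_baby : ∃ (Q : Subgroup BabyMonster) (u x : BabyMonster), Wt Q u x := by
  obtain ⟨ρ, τ, h⟩ := certs.outM
  obtain ⟨e⟩ := certs.equivB h
  obtain ⟨Q, u, x, w⟩ := wt_PA
  refine ⟨_, _, _, w.down (e.toMonoidHom.comp ((QuotientGroup.mk' _).comp
    ((ρ.comp PA.subtype).codRestrict (AA ρ τ) fun a => mem_AA ρ τ a.2))) fun a q => Subtype.ext ?_⟩
  have := (QuotientGroup.eq_one_iff _).1 ((map_eq_one_iff _ e.injective).1 q)
  rw [h.center_A, mem_subgroupOf] at this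
  obtain ⟨k, c⟩ := this
  have d : ρ (a.1 ^ 2) = 1 := by
    rw [map_pow, show ρ a.1 = _ from c.symm, ← zpow_natCast, ← zpow_mul, mul_comm, zpow_mul, zpow_natCast,
      ← h.orderOf_t, pow_orderOf_eq_one, one_zpow]
  show a.1 ^ (2 * 2) = 1
  rcases (rho_eq_one_iff h.kap h.x_ne).1 d with d | d <;> rw [pow_mul, d]
  exacts [one_pow _, (sq _).trans kap_mul_self]

end co

section hn
open CF.Comp CF.MonY CF.Mon CF.Mon.Tr
open Lab hiding induction

theorem inj_of {S K : Type*} [Group S] [Group K] [IsSimpleGroup S] {φ : S →* K} {s : S}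
    (h : φ s ≠ 1) : Injective φ :=
  (MonoidHom.ker_eq_bot_iff φ).1 ((IsSimpleGroup.eq_bot_or_eq_top_of_normal φ.ker
    inferInstance).resolve_right fun e => h (show s ∈ φ.ker from e ▸ mem_top s))

theorem baby : IsB BabyMonster :=
  let ⟨_, _, h⟩ := certs.outM; let ⟨e⟩ := certs.equivB h; G.isB_of_equiv e h.isB_quot

theorem hn_le : ∃ ψ : HN →* BabyMonster, Injective ψ := by
  obtain ⟨ρ, τ, h⟩ := certs.outM
  obtain ⟨e⟩ := certs.equivB h
  haveI := Comp.HN.isHN.1
  have hr := rels_of h hnT_base (P := hnP) (m := 4) (rels := Comp.HN.rels) rfl rfl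
    (by decide +kernel) hnI_chk (by decide +kernel) hnW_chk
  have a : Comp.HN.cox.lift hr (.of .x) ^ 2 = ρ (pauli tA) := by
    have := eqW_map h.kap (AllOk.cons (hnT_base.okT 10) (.cons (hnT_base.okT 10) .nil))
      (AllOk.cons tAE_ok .nil) (by decide +kernel)
    simp only [prodE_cons, prodE_nil, mul_one, map_mul, tAE_val] at this
    rw [CoxOK.lift, PresentedGroup.toGroup.of, ← this, pow_two]
    exact congrArg₂ _ (one_mul _) (one_mul _)
  have hφ := inj_of (φ := Comp.HN.cox.lift hr) (s := .of .x ^ 2) (by rw [map_pow, a]; exact h.t_ne)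
  obtain ⟨V, eV⟩ : ∃ V, ρ ((hnT.get 4).val * iY.val * (hnT.get 4).val⁻¹) = V * ρ (pauli tA) * V⁻¹ :=
    ⟨ρ (hnT.get 4).val * τ * ρ iG.val, by
      rw [map_mul, map_mul, iY_val h, ← iG_tA, ← G.rho_conj, map_inv]; group⟩
  have hc : ∀ s, Commute (Comp.HN.cox.lift hr s) (V * ρ (pauli tA) * V⁻¹) := fun s =>
    mem_centralizer_singleton_iff.1 (PresentedGroup.generated_by _
      ((centralizer {_}).comap (Comp.HN.cox.lift hr)) (fun j => mem_centralizer_singleton_iff.2 (by
        rw [CoxOK.lift, PresentedGroup.toGroup.of, ← eV]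
        exact (hn_fix _ (List.idxOf_lt_length_of_mem (Comp.HN.cox.mem j))).1.comm h hnT_base
          (by decide +kernel))) s)
  generalize Comp.HN.cox.lift hr = φ at hφ hc
  let χ := ((MulAut.conj V⁻¹).toMonoidHom.comp φ).codRestrict (G.AA ρ τ) fun s => by
    rw [← h.cA, mem_centralizer_singleton_iff]
    change V⁻¹ * φ s * V⁻¹⁻¹ * _ = _ * (V⁻¹ * φ s * V⁻¹⁻¹)
    calc _ = V⁻¹ * (φ s * (V * ρ (pauli tA) * V⁻¹)) * V := by group
      _ = _ := by rw [(hc s).eq]; group
  have iχ : Injective χ := fun a b e => hφ ((MulAut.conj V⁻¹).injective (congrArg Subtype.val e))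
  by_contra! n
  have k : ∀ s, χ s ∈ center _ := fun s => by
    by_contra q
    exact n (e.toMonoidHom.comp ((QuotientGroup.mk' _).comp χ)) (inj_of (s := s) (by simpa using q))
  have := perfect_of_card (G := HN) (by rw [Comp.HN.isHN.2]; norm_num)
  rw [(commutator_eq_bot_iff_center_eq_top HN).2 (eq_top_iff.2 fun s _ => mem_center_iff.2 fun g =>
    iχ (by rw [map_mul, map_mul, mem_center_iff.1 (k s)]))] at this
  exact bot_ne_top this

end hn

end CF.FusG.WB
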