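import Cfsg.Agent.FusG.WB1
import Cfsg.Agent.FusG.NM1

/-! The model inside the Baby Monster. -/

set_option autoImplicit false
set_option linter.style.haveILetI false
set_option linter.unusedSimpArgs false

namespace CF.FusG

open Cfsg Cfsg.FusionSystem Subgroup CF.Fus CF.FusD CF.FusU Function Gu QB

namespace WB

variable {G : Type} [Group G] {ι : Gu (ZMod 5) →* G} {E F : FusionSystem (⊤ : Subgroup (Gu (ZMod 5)))}
  {P H : Subgroup G} {u x : G} {z : Gu (ZMod 5)}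

instance nz3 : NeZero (3 : ZMod 5) := ⟨by decide⟩

theorem na (h : Gs 5 ι) (r : Real E 5 ι ⊤) : Na E := fun N n l => by
  have k : ∀ x ∈ N, ∀ y g, g * ι x * g⁻¹ = ι y → y ∈ N := fun x hx y g q => by
    obtain ⟨f, f1, rfl⟩ := (cj_real r).2 ⟨g, q⟩
    exact sc_maps (sc_of_normal n) f1 (mem_zpowers x) hx
  obtain ⟨z, hz, z', hz', g, g', x, y, e1, e2, c⟩ := h.nc
  exact ⟨x, k z (l hz) x g e1, y, k z' (l hz') y g' e2, c⟩

theorem Wt.cj (h : Wt P u x) (b : G) : ∃ (Q : Subgroup G) (v y : G), Wt Q v y ∧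
    cm v (y * v * y⁻¹) = b * cm u (x * u * x⁻¹) * b⁻¹ ∧ ∀ A : Subgroup G, (∀ a ∈ P, b * a * b⁻¹ ∈ A) → Q ≤ A :=
  ⟨_, _, _, h.down (MulAut.conj b).toMonoidHom fun a e => by
    rw [(map_eq_one_iff _ (MulAut.conj b).injective).1 e, one_pow], by simp [cm, mul_assoc],
    fun _ k => map_le_iff_le_comap.2 k⟩

theorem Z2_of {a b : Gu (ZMod 5)} (ha : cm (cm a b) a = 1) (hb : cm (cm a b) b = 1) : cm a b ∈ Z2 _ := by
  have k : ∀ y : Gu (ZMod 5), y.a ≠ 0 → cm (cm a b) y = 1 → cm a b ∈ Z2 _ := fun y y0 e => by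
    have m := of4 (cm4 a b) ((mul_eq_zero.1 ((cm_c4 (cm4 a b) y).symm.trans (congrArg Gu.c e))).resolve_left
      (mul_ne_zero (by decide) y0))
    exact of3 m ((mul_eq_zero.1 ((cm_s3 m y).symm.trans (congrArg Gu.s e))).resolve_left (mul_ne_zero (by decide) y0))
  by_cases a0 : a.a = 0
  · by_cases b0 : b.a = 0
    exacts [l12 (cmQ1 a0 b0), k b b0 hb]
  · exact k a a0 ha

theorem fuse (r : Real E 5 ι ⊤) (e2 : E.IsEssential 5 (Q2 _)) (hz : z ∈ Z2 _) :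
    ∃ g, ∃ y ∈ Z1 _, g * ι z * g⁻¹ = ι y := by
  by_cases s : z.s = 0
  · exact ⟨1, z, of2 hz s, by simp⟩
  obtain ⟨m, m1, m2, -⟩ := bar r.sat (fun φ _ => NM.s3_odd (by decide) φ) e2
  obtain ⟨g, e⟩ := (aut_real r).1 (mul_mem m1.1 (cA_mem_autGroup E le_top (mem_top (xt (-z.z / z.s)))))
  refine ⟨g, _, of2 (stab_maps (stab_Z2 _) hz) ?_, e z hz.2.1⟩
  have := congrArg Prod.snd (r2_app (m * cA _ (xt (-z.z / z.s))) hz)
  rw [(rp_r2 ⊤).mul _ trivial _ trivial, r2_cA, m2] at this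
  exact this.symm.trans (by simp [p2, s])

theorem normal (r : Real F 5 ι (centralizer {ι z})) (es : Es F 5) (hz : z ∈ Z1 _) (z1 : z ≠ 1) :
    F.IsNormal (Q1 _) := r.sat.normal_of_ess fun P hP => by
  rcases hP with rfl | hP
  · exact ⟨le_top, fun α _ => mem_stab_of_maps le_top (map_Q1 nz3.out (piso_fn α))⟩
  rcases es P hP with rfl | rfl
  · exact ⟨le_rfl, stab_self.ge.trans' le_top⟩
  obtain ⟨m, m1, m2, -⟩ := bar r.sat (fun φ _ => NM.s3_odd (by decide) φ) hP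
  obtain ⟨g, hg, e⟩ := r.real (mor_fn le_top m1.1)
  have := congrArg Prod.fst (r2_app m (l12 hz))
  rw [m2, r.inj' trivial trivial ((e z hz.2.1).symm.trans
    (mul_inv_eq_iff_eq_mul.2 (mem_centralizer_singleton_iff.1 hg)))] at this
  exact (z1 (of1 hz (this.symm.trans hz.2.2.2.2))).elim

theorem three_of (r : Real E 5 ι ⊤) (r' : Real F 5 ι H) (n : F.IsNormal (Q1 _)) (h : Wt P u x) (l : P ≤ ι.range)
    (hx : x ∈ H) : 3 ∣ nn E := by
  by_contra c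
  have nx := fun a => (mem_normalizer_iff.1 h.nx a).1
  obtain ⟨f, f1, f2⟩ := r'.mor (P := P.comap ι) le_top hx fun y hy => by
    obtain ⟨a, e⟩ := l (nx _ hy)
    exact e ▸ mem_img_of_mem trivial
  obtain ⟨g, g1, g2, g3⟩ := normal_ext n f1
  obtain ⟨k, -, e⟩ := r'.real g1
  obtain ⟨φ, -, q⟩ := (Iso.mk (g1.mono le_sup_right) g3).exists_aut
  have e1 : ∀ y ∈ Q1 _, k * ι y * k⁻¹ = ι (fn φ y) := fun y hy => by rw [q y hy, e y (mem_sup_right hy)]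
  have e2 : ∀ a ∈ P, k * a * k⁻¹ = x * a * x⁻¹ := fun a ha => by
    obtain ⟨y, rfl⟩ := l ha
    rw [e y (mem_sup_left ha), g2 y ha, f2 y ha]
  have e3 : ∀ j : ℕ, ∀ y ∈ Q1 _, k ^ j * ι y * (k ^ j)⁻¹ = ι (fn (φ ^ j) y) := fun j y hy => by
    induction j with
    | zero => simp
    | succ j ih => rw [fn_pow_succ, ← e1 _ (fn_mem _ hy), ← ih]; group
  have e4 : ∀ j : ℕ, k ^ j * u * (k ^ j)⁻¹ = x ^ j * u * (x ^ j)⁻¹ := fun j => by
    induction j with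
    | zero => simp
    | succ j ih =>
      have := e2 _ ((mem_normalizer_iff.1 (pow_mem h.nx j) u).1 h.mu)
      nth_rw 1 [← ih] at this
      simpa only [pow_succ', mul_inv_rev, mul_assoc] using this
  obtain ⟨i, j, ej⟩ : ∃ i j, nn E * i = 3 * j + 1 :=
    if d : nn E % 3 = 1 then ⟨1, nn E / 3, by omega⟩ else ⟨2, nn E * 2 / 3, by omega⟩
  have e5 : φ ^ (3 * j + 1) = 1 := by
    have : φ ^ nn E = 1 := congrArg Subtype.val (pow_card_eq_one' (x := (⟨φ, (aut_real r).2 ⟨k, e1⟩⟩ : E.autGroup _)))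
    rw [← ej, pow_mul, this, one_pow]
  have e6 := e4 (3 * j + 1)
  have e7 := e3 (3 * j + 1)
  simp only [e5, fn_one] at e7
  rw [pow_succ' x, pow_mul x, mul_inv_rev, mul_assoc x, ((show Commute _ _ from h.x3 u h.mu).pow_left j).eq,
    ← mul_assoc, ← mul_assoc, mul_inv_cancel_right] at e6
  generalize k ^ (3 * j + 1) = c at e6 e7
  obtain ⟨a, rfl⟩ := l h.mu
  obtain ⟨b, eb⟩ := l h.mv
  have m : a⁻¹ * b ∈ Z1 _ := CH.cen1 nz3.out fun y hy => cm_eq_one.2 (r.inj' trivial trivial (by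
    have e8 : Commute c (ι y) := mul_inv_eq_iff_eq_mul.1 (e7 y hy)
    have e9 := mul_inv_eq_iff_eq_mul.1 (e7 _ ((mem_normalizer_iff.1 (nQ1 a) y).1 hy))
    simp only [map_mul, map_inv, eb, ← e6] at e9 ⊢
    calc _ = (ι a)⁻¹ * c * ι a * (c⁻¹ * ι y) := by group
      _ = (ι a)⁻¹ * (c * (ι a * ι y * (ι a)⁻¹)) * ι a * c⁻¹ := by rw [e8.inv_left.eq]; group
      _ = _ := by rw [e9]; group))
  refine h.ne ?_
  rw [← eb, ← hom_cm, cm_eq_one.2, map_one]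
  rw [← mul_inv_cancel_left a b, mul_assoc, Z1_comm m]

theorem three (es : ∀ F : FusionSystem (⊤ : Subgroup (Gu (ZMod 5))), Sat F 5 → Es F 5) (s : Gs 5 ι)
    (r : Real E 5 ι ⊤) (h : Wt P u x) : 3 ∣ nn E := by
  haveI := s.fin
  obtain ⟨b, -, hb⟩ := s.syl.exists_conj le_top h.pg
  obtain ⟨P, u, x, h, -, l⟩ := h.cj b
  obtain ⟨a, rfl⟩ := l _ hb h.mu
  obtain ⟨v, ev⟩ := l _ hb h.mv
  have k : ∀ y, ι y ∈ P → cm (cm a v) y = 1 := fun y hy => cm_eq_one.2 (s.inj (by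
    rw [map_mul, map_mul, hom_cm, ev, h.cp _ hy]))
  obtain ⟨g, z, hz, e⟩ := fuse r (both r.sat (es _ r.sat) (na s r)).2 (Z2_of (k a h.mu) (k v (ev ▸ h.mv)))
  obtain ⟨P, u, x, h, e1, -⟩ := h.cj g
  rw [← ev, ← hom_cm, e] at e1
  have l : ι.range ≤ centralizer {ι z} := by
    rintro _ ⟨y, rfl⟩
    rw [mem_centralizer_singleton_iff, ← map_mul, Z1_comm hz, map_mul]
  have sy := s.syl.mono l le_top
  obtain ⟨b, m, hb⟩ := sy.exists_conj (fun a ha => mem_centralizer_singleton_iff.2 (e1 ▸ h.cp a ha)) h.pg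
  obtain ⟨P, u, x, h, e2, l'⟩ := h.cj b
  rw [e1, mem_centralizer_singleton_iff.1 m, mul_inv_cancel_right] at e2
  have i : PIso ι ⊤ ι.range := ι.range_eq_map ▸ piso_hom ι s.inj ⊤
  obtain ⟨F, e⟩ := exists_fiso (FG _ ι.range l) i.symm
  have r' := (e.symm' fun x hx => i.apply_pinv hx).toReal (p := 5) sy
  exact three_of r r' (normal r' (es _ r'.sat) hz fun q => h.ne (by rw [e2, q, map_one])) h (l' _ hb)
    (mem_centralizer_singleton_iff.2 (e2 ▸ h.cx))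

end WB

open WB

theorem wB0 (es : ∀ F : FusionSystem (⊤ : Subgroup (Gu (ZMod 5))), Sat F 5 → Es F 5)
    (cls : ∀ F : FusionSystem (⊤ : Subgroup (Gu (ZMod 5))), Sat F 5 → Na F →
      nn F = 480 * 625 ∧ (∀ z ∈ Z1 _, ∀ x ∈ Z4 _, Cj F z x → x ∈ Z2 _) ∨
      nn F = 2880 * 625 ∨ nn F = 640 * 625 ∧ Nat.card (F.autGroup ⊤) = 8 * 5 ^ 5 ∨ nn F = 1280 * 625 ∨
      nn F = 7680 * 625)
    (hn : ∃ ι : Gu (ZMod 5) →* Spor.HN, Gs 5 ι ∧ ∀ E, Real E 5 ι ⊤ → nn E = 640 * 625) :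
    ∃ (G : Type) (_ : Group G) (ι : Gu (ZMod 5) →* G), Gs 5 ι ∧ ∀ E, Real E 5 ι ⊤ → nn E = 7680 * 625 := by
  obtain ⟨ι, s, n⟩ := hn
  obtain ⟨j, hj⟩ := hn_le
  obtain ⟨P, u, x, w⟩ := wt_baby
  have i := hj.comp s.inj
  have s' : Gs 5 (j.comp ι) := by
    have c : Nat.card (j.comp ι).range = 5 ^ 6 := by
      rw [← Nat.card_congr (MonoidHom.ofInjective (f := j.comp ι) i).toEquiv, card, Nat.card_zmod]
    obtain ⟨z, hz, z', hz', g, g', x, y, a, b, n⟩ := s.nc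
    refine ⟨Nat.finite_of_card_ne_zero (by rw [baby.2]; decide), i, .of_not_dvd le_top (.of_card c) fun d => ?_,
      z, hz, z', hz', j g, j g', x, y, by simp [← a], by simp [← b], n⟩
    have := (j.comp ι).range.card_mul_index
    rw [c, baby.2] at this
    rw [relIndex_top_right] at d
    omega
  refine ⟨_, _, j.comp ι, s', fun E r => ?_⟩
  obtain ⟨F, r', -⟩ := s.real
  have d : nn F ∣ nn E := card_dvd_of_le (le_real r' r _)
  have d3 := three es s' r w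
  rw [n F r'] at d
  rcases cls E r.sat (na s' r) with ⟨h, -⟩ | h | ⟨h, -⟩ | h | h <;> omega

end CF.FusG
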