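import Cfsg.Agent.HNR.KB

/-! A Sylow `5`-subgroup of the Harada–Norton group: data. -/

set_option autoImplicit false
set_option maxRecDepth 1000000
set_option Elab.async false

namespace CF.FusG.WH

open CF.Comp CF.Comp.HN CF.Bt CF.Dce CF.HNR

/-- the straight line program -/
def sl : List (List ℕ) := [[4, 5, 3, 1, 3, 1, 3, 5, 4], [1, 3, 5, 3, 1, 3, 1, 3, 1, 3, 3], [1, 4, 5, 4, 1, 4, 1, 4, 4, 8, 5, 7, 7, 3, 1, 3, 5, 1, 3, 3, 5, 3, 1, 3, 1, 3, 6, 4, 6], [13, 12, 13, 9], [15, 15], [17, 17], [19, 19], [21, 21, 17, 15], [9, 9, 11, 9, 12, 10, 11, 11], [15, 25, 23], [27, 27, 27, 27], [4, 1, 4, 5, 4, 5, 3, 3, 3, 5, 4, 4, 1, 4, 1, 6], [27, 31, 29, 31], [33, 33, 33, 33], [27, 33, 27, 35, 29, 29, 33, 29, 35, 35, 27, 33], [37, 37, 37, 37], [27, 27, 37, 29, 37, 29, 39, 39], [41, 41, 41, 41], [27, 27, 41, 29, 29, 43], [45, 45, 45, 45], [33, 45, 35, 47]]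
/-- two elements of order five -/
def uw : List ℕ := [4, 1, 4, 5, 4, 5, 3, 3, 3, 5, 4, 4, 1, 4, 1, 6]
/-- two elements of order five -/
def vw : List ℕ := [2, 3, 5, 1, 3, 3, 1, 3, 1, 4, 5, 4, 5, 4, 6, 3]
/-- a generator of the centre -/
def zw : List ℕ := [2, 3, 1, 4, 1, 4, 1, 4, 4, 1, 3, 3, 5, 1, 3, 2, 4, 6]
/-- the letters of the first three generators -/
def sg : List (List ℕ) := [[21], [23], [15]]
/-- the root elements -/
def qs : List (List ℕ) := [[33], [37], [41], [45], [49]]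
/-- the relations -/
def pe : List (List ℕ × List ℕ) := [([27, 27, 27, 27, 27], []), ([33, 33, 33, 33, 33], []), ([37, 37, 37, 37, 37], []), ([41, 41, 41, 41, 41], []), ([45, 45, 45, 45, 45], []), ([49, 49, 49, 49, 49], []), ([33, 27], [37, 37, 37, 37, 41, 41, 41, 41, 45, 45, 45, 45, 49, 27, 33]), ([37, 27], [41, 41, 41, 45, 45, 49, 49, 49, 27, 37]), ([41, 27], [45, 45, 27, 41]), ([45, 27], [27, 45]), ([49, 27], [27, 49]), ([37, 33], [33, 37]), ([41, 33], [33, 41]), ([45, 33], [49, 49, 49, 49, 33, 45]), ([49, 33], [33, 49]), ([41, 37], [49, 49, 49, 37, 41]), ([45, 37], [37, 45]), ([49, 37], [37, 49]), ([45, 41], [41, 45]), ([49, 41], [41, 49]), ([49, 45], [45, 49])]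
/-- further equations -/
def es : List (List ℕ × List ℕ) := [([15, 49, 49, 49], [27, 15]), (uw, [33, 33, 37, 45, 33, 45]), (vw, [33, 33, 37, 37, 37, 41, 41, 41, 45, 45, 45, 45])]
/-- conjugation by the involution -/
def us : List (List ℕ) := [[1, 1, 1, 3, 3, 3, 3, 5, 5], [1, 1, 1, 3, 3, 7, 1], [1, 1, 1, 5, 5, 7, 7, 7], [5, 3, 5, 7, 7, 7], [9]]

theorem rq1 : rn 48 sl (fun E => lall (fun p => eq' E p.1 p.2) pe) = true := by decide +kernel

theorem rq2 : rn 48 sl (fun E => Bool.rec false (ne' E [49] []) (lall (fun p => eq' E p.1 p.2) es)) = true := by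
  decide +kernel

theorem rq3 : rn 48 sl (fun E => nrmW (eq' E) qs [1, 1] us) = true := by decide +kernel

end CF.FusG.WH
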