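import Cfsg.Agent.FusG.WHD

/-! The centraliser of a Sylow `5`-subgroup of `2.HS.2`. -/

set_option autoImplicit false
set_option maxRecDepth 1000000
set_option Elab.async false

namespace CF.FusG.WH

open CF.Comp CF.Comp.HN CF.Bt CF.Dce CF.HNR

noncomputable def B0 : Nat := nat_lit 0x4040000000000000000000000000500000000000000000000000000000012000000000000000000040000000000000000000c1800000000000800000000000000080000040800001000010000000000001802000000000000048000260008000000000010000000c01200000000008000000000008000000824010c0000000000000202200040011110188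
noncomputable def B1 : Nat := nat_lit 0xf0c070001b026004067cd087801830c022021b403f028888038514056c8030008000000315b3b840008ff905c2400303001000020200801540000c00030204018030000a0081020008037f801b10c0400300d4006c006d224301b51ffc800d80000028008800000351100d9fc870e00000234000601a418040000300000000c1e09053000001a9bf2861b66c935a1105af002000602008300840cf00031586092bf23014e00a0018155c380000220000
noncomputable def B2 : Nat := nat_lit 0x8040000000000000000000000002800000000000000000000000000000090000000000000000000200000000000000000001830000000000100000100000000080000040000000008000100000000000030100000000000002400010c004000000000100000006020020000000004000000000004002400080026000800000000004048a0000022c00200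
noncomputable def B3 : Nat := nat_lit 0x10000000040000000000000000001000000000000000000c18000000000800000000000002800000000000000000000000000100000012000000000000003004000000000002400130010000000000004000001000000000004000008000000000080000000000080024000000100000006020020000000000000000400130000008002024044088c20
noncomputable def B4 : Nat := nat_lit 0x404000000000000000000000000050000000000000000000000000000001200000000000000000004000000000000000000041000000000000800000000000000080000040000001000010000000000001802000000000000048000260008000000000010000000c0120000000000800000000000800000002001040000000000000202000040011110180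
noncomputable def B5 : Nat := nat_lit 0x4000000000000000000000000010000000000000000000000000000001200000000000000000000000000000000000000040000000000000800000000000000080000040000000000010000000000000802000000000000008000260008000000000010000000c0100000000000800000000000800000002001040000000000000200000040000110100
noncomputable def B6 : Nat := nat_lit 0x800000000000000000000000000000000000000000000000000000000000000000000000000000000000010000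
noncomputable def qT_1 : Tr := (.cons [6, 16, 1, 6, 1] 4 0 (.op 7 0 (.op 14 0 (.and 1 0 (.dead0 0)))) (.cons [12, 15, 6, 1, 3] 4 0 (.op 4 0 (.op 14 0 (.and 1 0 (.dead0 0)))) (.cons [18, 6, 1, 6, 1] 4 0 (.base B0 (.op 14 0 (.and 1 0 (.dead 0)))) (.cons [6, 14, 1, 5, 1] 4 0 (.base B1 (.op 4 1 (.and 1 0 (.dead0 0)))) (.cons [16, 6, 1, 5, 1] 4 0 (.op 7 0 (.op 7 0 (.op 14 0 (.and 1 0 (.dead0 0))))) (.cons [16, 7, 1, 6, 1] 4 0 (.base B0 (.op 8 0 (.and 1 0 (.dead 0)))) (.cons [15, 5, 3, 5, 1] 4 0 (.op 8 0 (.and 1 0 (.dead0 0))) (.cons [13, 5, 3, 5, 1] 4 0 (.op 7 0 (.op 7 0 (.op 14 0 (.and 1 0 (.dead0 0))))) (.cons [13, 15, 1, 6, 1] 4 0 (.base B1 (.op 4 1 (.and 1 0 (.dead0 0)))) (.cons [16, 13, 1, 5, 1] 4 0 (.base B1 (.op 4 1 (.op 4 0 (.and 2 0 (.dead0 0))))) (.cons [1, 6, 12, 5, 1] 4 0 (.op 7 0 (.op 7 0 (.op 14 0 (.and 1 0 (.dead0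 0))))) (.cons [14, 5, 1, 5, 1] 4 0 (.op 4 0 (.op 8 0 (.and 1 0 (.dead0 0)))) (.cons [6, 18, 1, 6, 1] 4 0 (.base B1 (.op 10 1 (.and 1 0 (.dead0 0)))) (.cons [13, 5, 1, 5, 1] 1 0 (.op 5 0 (.and 1 0 (.dead0 0))) (.cons [18, 7, 1, 6, 1] 4 0 (.base B1 (.op 4 1 (.op 4 0 (.and 2 0 (.dead0 0))))) (.cons [5, 1, 5, 3, 5, 1] 4 0 (.base B0 (.op 14 0 (.and 1 0 (.dead 0)))) (.cons [5, 1, 5, 5, 5, 1] 4 0 (.base B1 (.op 4 1 (.and 1 0 (.dead0 0)))) (.cons [1, 5, 1, 5, 5, 1] 4 0 (.base B1 (.op 4 1 (.and 1 0 (.dead0 0)))) (.cons [8, 5, 1, 4, 5, 1] 4 0 (.op 7 0 (.op 14 0 (.and 1 0 (.dead0 0)))) (.cons [3, 5, 5, 1, 6, 1] 4 0 (.base B1 (.op 4 1 (.and 1 0 (.dead0 0)))) (.cons [6, 1, 6, 1, 6, 1] 1 0 (.op 5 0 (.and 1 0 (.dead0 0))) (.cons [8, 6, 1, 5, 1, 3] 4 0 (.op 8 0 (.and 1 0 (.dead0 0))) (.cons [6, 19, 13, 1, 5, 1] 4 0 (.base B1 (.op 4 1 (.and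 1 0 (.dead0 0)))) (.cons [1, 5, 7, 1, 5, 1] 4 0 (.base B1 (.op 4 1 (.and 1 0 (.dead0 0)))) (.cons [1, 6, 8, 1, 6, 1] 4 0 (.base B1 (.op 10 1 (.and 1 0 (.dead0 0)))) (.cons [1, 5, 15, 1, 6, 1] 4 0 (.base B0 (.op 14 0 (.and 1 0 (.dead 0)))) (.cons [15, 1, 5, 1, 5, 1] 4 0 (.base B1 (.op 10 1 (.and 1 0 (.dead0 0)))) (.cons [1, 5, 16, 1, 6, 1] 4 0 (.base B0 (.op 8 0 (.and 1 0 (.dead 0)))) (.cons [1, 6, 11, 1, 6, 1] 4 0 (.base B1 (.op 4 1 (.and 1 0 (.dead0 0)))) (.cons [13, 5, 1, 5, 1, 4] 1 0 (.op 5 0 (.and 1 0 (.dead0 0))) (.cons [7, 1, 5, 1, 5, 1] 4 0 (.base B1 (.op 4 1 (.op 4 0 (.and 2 0 (.dead0 0))))) (.cons [1, 6, 18, 1, 6, 1] 4 0 (.base B1 (.op 4 1 (.and 1 0 (.dead0 0)))) (.cons [1, 5, 1, 5, 5, 1, 3] 4 0 (.base B1 (.op 4 1 (.and 1 0 (.dead0 0)))) (.cons [6, 1, 6, 1, 6, 1, 3] 1 0 (.op 5 0 (.and 1 0 (.dead0 0))) (.cons [1, 5,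 3, 5, 1, 5, 1] 4 0 (.base B1 (.op 4 1 (.op 4 0 (.and 2 0 (.dead0 0))))) (.cons [1, 6, 8, 1, 6, 1, 4] 4 0 (.base B1 (.op 10 1 (.and 1 0 (.dead0 0)))) (.cons [16, 1, 3, 5, 1, 5, 1] 4 0 (.base B0 (.op 14 0 (.and 1 0 (.dead 0)))) (.cons [15, 1, 5, 1, 5, 1, 3] 4 0 (.base B1 (.op 10 1 (.and 1 0 (.dead0 0)))) (.cons [1, 5, 16, 1, 6, 1, 3] 4 0 (.base B0 (.op 8 0 (.and 1 0 (.dead 0)))) (.cons [17, 1, 3, 6, 1, 6, 1] 4 0 (.base B1 (.op 4 1 (.and 1 0 (.dead0 0)))) .nil))))))))))))))))))))))))))))))))))))))))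
noncomputable def qT_2 : Tr := (.cons [17, 8, 6, 1] 4 0 (.base B1 (.op 4 1 (.and 1 0 (.dead0 0)))) (.cons [11, 1, 6, 1] 4 0 (.op 4 0 (.op 8 0 (.and 1 0 (.dead0 0)))) (.cons [12, 1, 5, 1] 4 0 (.base B0 (.op 8 0 (.and 1 0 (.dead 0)))) (.cons [1, 5, 5, 1, 3] 4 0 (.base B1 (.op 10 1 (.and 1 0 (.dead0 0)))) (.cons [5, 1, 5, 1, 3] 4 0 (.base B1 (.op 4 1 (.op 4 0 (.and 2 0 (.dead0 0))))) (.cons [6, 1, 5, 1, 3] 4 0 (.base B1 (.op 10 1 (.and 1 0 (.dead0 0)))) (.cons [13, 1, 5, 1, 3] 4 0 (.base B1 (.op 4 1 (.and 1 0 (.dead0 0)))) (.cons [5, 1, 6, 1, 3] 4 0 (.base B0 (.op 14 0 (.and 1 0 (.dead 0)))) (.cons [6, 1, 6, 1, 3] 4 0 (.op 7 0 (.op 7 0 (.op 8 0 (.and 1 0 (.dead0 0))))) (.cons [1, 5, 3, 5, 1] 4 0 (.base B1 (.op 4 1 (.op 10 0 (.and 2 0 (.dead0 0))))) (.cons [7, 5, 3, 5, 1] 4 0 (.base B0 (.op 8 0 (.and 1 0 (.dead 0)))) (.cons [15,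 5, 5, 1, 4] 4 0 (.op 4 0 (.op 8 0 (.and 1 0 (.dead0 0)))) (.cons [1, 5, 5, 5, 1] 4 0 (.base B1 (.op 4 1 (.op 4 0 (.and 2 0 (.dead0 0))))) (.cons [5, 1, 5, 5, 1] 4 0 (.op 4 0 (.op 4 0 (.op 14 0 (.and 1 0 (.dead0 0))))) (.cons [5, 5, 1, 5, 1] 4 0 (.base B0 (.op 8 0 (.and 1 0 (.dead 0)))) (.cons [6, 1, 3, 6, 1] 4 0 (.op 14 0 (.and 1 0 (.dead0 0))) (.cons [8, 1, 6, 1, 4] 4 0 (.base B0 (.op 14 0 (.and 1 0 (.dead 0)))) (.cons [5, 5, 1, 6, 1] 4 0 (.base B0 (.op 8 0 (.and 1 0 (.dead 0)))) (.cons [3, 6, 1, 6, 1] 4 0 (.base B1 (.op 10 1 (.and 1 0 (.dead0 0)))) (.cons [1, 5, 7, 6, 1] 4 0 (.base B1 (.op 4 1 (.op 10 0 (.and 2 0 (.dead0 0))))) (.cons [19, 5, 1, 5, 1] 4 0 (.base B1 (.op 4 1 (.and 1 0 (.dead0 0)))) (.cons [6, 8, 1, 5, 1] 4 0 (.op 14 0 (.and 1 0 (.dead0 0))) (.cons [19, 6, 1, 6, 1] 4 0 (.base B1 (.op 10 1 (.and 1 0 (.dead0 0))))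 (.cons [19, 1, 5, 5, 1] 4 0 (.op 4 0 (.op 14 0 (.and 1 0 (.dead0 0)))) (.cons [18, 6, 1, 5, 1] 4 0 (.base B0 (.op 8 0 (.and 1 0 (.dead 0)))) (.cons [8, 6, 1, 5, 1] 4 0 (.op 8 0 (.and 1 0 (.dead0 0))) (.cons [1, 6, 7, 5, 1] 4 0 (.base B0 (.op 8 0 (.and 1 0 (.dead 0)))) (.cons [5, 7, 1, 5, 1] 4 0 (.base B1 (.op 10 1 (.and 1 0 (.dead0 0)))) (.cons [15, 1, 5, 5, 1] 4 0 (.base B1 (.op 4 1 (.op 4 0 (.and 2 0 (.dead0 0))))) (.cons [8, 5, 1, 5, 1] 4 0 (.base B1 (.op 4 1 (.and 1 0 (.dead0 0)))) (.cons [7, 6, 1, 6, 1] 4 0 (.base B0 (.op 14 0 (.and 1 0 (.dead 0)))) (.cons [1, 5, 18, 6, 1] 4 0 (.op 4 0 (.op 14 0 (.and 1 0 (.dead0 0)))) (.cons [15, 6, 1, 6, 1] 4 0 (.base B0 (.op 8 0 (.and 1 0 (.dead 0)))) (.cons [16, 8, 1, 6, 1] 4 0 (.base B0 (.op 8 0 (.and 1 0 (.dead 0)))) (.cons [18, 5, 5, 1, 4] 4 0 (.op 4 0 (.op 4 0 (.op 8 0 (.and 1 0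 (.dead0 0))))) (.cons [5, 15, 1, 6, 1] 4 0 (.base B1 (.op 4 1 (.and 1 0 (.dead0 0)))) (.cons [6, 15, 1, 6, 1] 4 0 (.base B1 (.op 4 1 (.and 1 0 (.dead0 0)))) (.cons [12, 7, 1, 6, 1] 4 0 (.base B0 (.op 14 0 (.and 1 0 (.dead 0)))) (.cons [8, 15, 7, 5, 1] 4 0 (.base B1 (.op 4 1 (.and 1 0 (.dead0 0)))) (.cons [5, 16, 1, 6, 1] 4 0 (.op 4 0 (.op 4 0 (.op 14 0 (.and 1 0 (.dead0 0))))) qT_1))))))))))))))))))))))))))))))))))))))))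
noncomputable def qT_3 : Tr := (.cons [13, 5, 1, 3] 4 0 (.op 14 0 (.and 1 0 (.dead0 0))) (.cons [1, 6, 1, 3] 4 0 (.base B1 (.op 4 1 (.and 1 0 (.dead0 0)))) (.cons [5, 3, 5, 1] 4 0 (.base B0 (.op 14 0 (.and 1 0 (.dead 0)))) (.cons [7, 5, 1, 4] 4 0 (.base B0 (.op 8 0 (.and 1 0 (.dead 0)))) (.cons [1, 5, 5, 1] 4 0 (.base B1 (.op 10 1 (.and 1 0 (.dead0 0)))) (.cons [5, 1, 5, 1] 4 0 (.base B1 (.op 4 1 (.op 4 0 (.and 2 0 (.dead0 0))))) (.cons [6, 1, 5, 1] 4 0 (.base B1 (.op 10 1 (.and 1 0 (.dead0 0)))) (.cons [1, 3, 6, 1] 4 0 (.base B0 (.op 8 0 (.and 1 0 (.dead 0)))) (.cons [13, 1, 5, 1] 4 0 (.base B1 (.op 4 1 (.and 1 0 (.dead0 0)))) (.cons [5, 1, 6, 1] 4 0 (.base B0 (.op 14 0 (.and 1 0 (.dead 0)))) (.cons [6, 1, 6, 1] 4 0 (.op 7 0 (.op 7 0 (.op 8 0 (.and 1 0 (.dead0 0))))) (.cons [5, 7, 6, 1] 4 0 (.base B0 (.op 14 0 (.and 1 0 (.dead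 0)))) (.cons [8, 1, 5, 1] 4 0 (.base B0 (.op 8 0 (.and 1 0 (.dead 0)))) (.cons [15, 6, 1, 4] 4 0 (.base B0 (.op 14 0 (.and 1 0 (.dead 0)))) (.cons [16, 6, 1, 4] 4 0 (.base B1 (.op 4 1 (.op 10 0 (.and 2 0 (.dead0 0))))) (.cons [6, 7, 5, 1] 4 0 (.base B0 (.op 8 0 (.and 1 0 (.dead 0)))) (.cons [7, 1, 5, 1] 4 0 (.op 4 0 (.op 4 0 (.op 8 0 (.and 1 0 (.dead0 0))))) (.cons [15, 5, 5, 1] 4 0 (.op 4 0 (.op 8 0 (.and 1 0 (.dead0 0)))) (.cons [8, 1, 6, 1] 4 0 (.base B0 (.op 14 0 (.and 1 0 (.dead 0)))) (.cons [11, 3, 6, 1] 4 0 (.base B1 (.op 4 1 (.and 1 0 (.dead0 0)))) (.cons [12, 3, 5, 1] 4 0 (.base B1 (.op 4 1 (.and 1 0 (.dead0 0)))) (.cons [16, 8, 6, 1] 4 0 (.base B1 (.op 4 1 (.op 4 0 (.and 2 0 (.dead0 0))))) (.cons [15, 7, 5, 1] 4 0 (.base B0 (.op 14 0 (.and 1 0 (.dead 0)))) (.cons [5, 15, 6, 1] 4 0 (.base B0 (.op 8 0 (.and 1 0 (.dead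 0)))) (.cons [15, 1, 6, 1] 4 0 (.op 4 0 (.op 4 0 (.op 8 0 (.and 1 0 (.dead0 0))))) (.cons [3, 16, 6, 1] 4 0 (.base B1 (.op 4 1 (.op 4 0 (.and 2 0 (.dead0 0))))) (.cons [19, 5, 5, 1] 4 0 (.base B0 (.op 8 0 (.and 1 0 (.dead 0)))) (.cons [14, 5, 1, 3] 4 0 (.base B1 (.op 10 1 (.and 1 0 (.dead0 0)))) (.cons [18, 5, 5, 1] 4 0 (.op 4 0 (.op 4 0 (.op 8 0 (.and 1 0 (.dead0 0))))) (.cons [15, 8, 5, 1] 4 0 (.base B1 (.op 10 1 (.and 1 0 (.dead0 0)))) (.cons [18, 6, 1, 4] 4 0 (.op 7 0 (.op 14 0 (.and 1 0 (.dead0 0)))) (.cons [15, 3, 6, 1] 4 0 (.base B1 (.op 10 1 (.and 1 0 (.dead0 0)))) (.cons [4, 18, 6, 1] 4 0 (.op 7 0 (.op 7 0 (.op 8 0 (.and 1 0 (.dead0 0))))) (.cons [6, 12, 5, 1] 4 0 (.op 8 0 (.and 1 0 (.dead0 0))) (.cons [14, 5, 5, 1] 4 0 (.base B0 (.op 8 0 (.and 1 0 (.dead 0)))) (.cons [7, 5, 5, 1] 4 0 (.base B0 (.op 8 0 (.and 1 0 (.dead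 0)))) (.cons [5, 11, 6, 1] 4 0 (.op 7 0 (.op 7 0 (.op 14 0 (.and 1 0 (.dead0 0))))) (.cons [14, 1, 5, 1] 4 0 (.base B1 (.op 4 1 (.and 1 0 (.dead0 0)))) (.cons [12, 15, 6, 1] 4 0 (.op 4 0 (.op 14 0 (.and 1 0 (.dead0 0)))) (.cons [13, 15, 6, 1] 4 0 (.op 7 0 (.op 7 0 (.op 8 0 (.and 1 0 (.dead0 0))))) qT_2))))))))))))))))))))))))))))))))))))))))
noncomputable def qT_4 : Tr := (.base B0 (.focus 0 (.op 2 0 (.op 4 1 (.xor 1 0 (.focus 0 (.op 10 3 (.xor 3 0 (.focus 0 (.op 13 5 (.xor 5 0 (.focus 0 (.base B2 (.op 13 0 (.xor 8 0 (.focus 0 (.op 4 2 (.xor 10 0 (.focus 0 (.op 10 4 (.xor 12 0 (.focus 0 (.op 4 3 (.xor 14 0 (.focus 0 (.base B3 (.op 4 0 (.op 10 0 (.xor 18 0 (.focus 0 (.cons [] 0 0 (.focus 21 (.focus 12 (.focus 1 (.xor 20 3 (.focus 0 (.base B4 (.focus 0 (.cons [9, 3] 0 0 (.op 4 0 (.op 4 0 (.op 14 0 (.and 1 0 (.dead0 0))))) (.cons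 [2, 8, 3] 0 0 (.focus 1 (.focus 21 (.focus 12 (.focus 19 (.focus 14 (.focus 10 (.focus 17 (.focus 8 (.focus 4 (.base B5 (.focus 0 (.op 7 0 (.xor 25 0 (.focus 0 (.cons [1, 1] 0 0 (.base B6 (.op 4 0 (.base (nat_lit 0x20000000080000000000000000000800000000000000000082000000001000000000000005000000000000000000000000000000000024000000000000000602000000000001200086008000000000000400000100000000200000200000000000040000000000040000000000010000000c01200000000000000000100082004000001010500047000) (.and 1 0 (.dead0 0))))) (.cons [4, 2, 2] 0 0 (.base (nat_lit 512) (.op 4 1 (.op 4 0 (.op 13 0 (.and 3 0 (.dead0 0)))))) (.cons [3, 2, 4] 0 0 (.base B6 (.op 10 1 (.op 4 0 (.op 13 0 (.and 3 0 (.dead0 0)))))) (.cons [1, 3, 1] 0 0 (.base B6 (.op 4 1 (.op 10 0 (.op 4 0 (.and 3 0 (.dead0 0)))))) (.cons [4, 1, 3] 0 0 (.op 4 0 (.op 13 0 (.op 4 9 (.op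 10 0 (.and 2 0 (.dead0 0)))))) .nil))))))))))))))))))) (.cons [5, 7, 3] 0 0 (.op 4 0 (.op 4 0 (.op 14 0 (.and 1 0 (.dead0 0))))) .nil)))))))))) (.cons [2, 3] 0 0 (.base B4 (.op 7 1 (.op 10 0 (.and 2 0 (.dead0 0))))) (.cons [2, 4] 0 0 (.op 14 0 (.and 1 0 (.dead0 0))) (.cons [3, 3] 0 0 (.base B4 (.op 7 1 (.op 7 0 (.op 10 0 (.and 3 0 (.dead0 0)))))) (.cons [9, 4] 0 0 (.base B4 (.op 7 1 (.op 10 0 (.and 2 0 (.dead0 0))))) (.cons [10, 4] 0 0 (.base B4 (.op 7 1 (.op 10 0 (.and 2 0 (.dead0 0))))) (.cons [8, 1, 4] 0 0 (.base B4 (.op 7 1 (.op 10 0 (.and 2 0 (.dead0 0))))) (.cons [9, 2, 3] 0 0 (.base B4 (.op 7 1 (.op 10 0 (.and 2 0 (.dead0 0))))) (.cons [12, 1, 4] 0 0 (.base B4 (.op 7 1 (.op 10 0 (.and 2 0 (.dead0 0))))) (.cons [10, 7, 3] 0 0 (.op 7 0 (.op 8 0 (.and 1 0 (.dead0 0)))) (.cons [4, 9, 1, 3] 0 0 (.base B4 (.op 4 1 (.op 4 0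 (.and 2 0 (.dead0 0))))) .nil)))))))))))))))))))))))))))))))))))))))))
noncomputable def qT_5 : Tr := (.base B0 (.focus 0 (.op 2 0 (.op 4 1 (.xor 1 0 (.focus 0 (.op 10 3 (.xor 3 0 (.focus 0 (.op 13 5 (.xor 5 0 (.focus 0 (.base B2 (.op 13 0 (.xor 8 0 (.focus 0 (.op 4 2 (.xor 10 0 (.focus 0 (.op 10 4 (.xor 12 0 (.focus 0 (.op 4 3 (.xor 14 0 (.focus 0 (.base B3 (.op 4 0 (.op 10 0 (.xor 18 0 (.focus 0 (.cons [] 0 1 (.focus 21 (.focus 12 (.focus 1 (.xor 20 3 (.focus 0 (.base B4 (.focus 0 (.cons [] 0 1 (.focus 1 (.focus 21 (.focus 12 (.focus 19 (.focus 14 (.focus 10 (.focus 17 (.focus 8 (.focus 4 (.base B5 (.focus 0 (.cons [] 0 1 (.focus 3 (.focus 22 (.base B6 (.focus 0 (.cons [] 0 1 .triv .nil))))) (.cons [3] 0 0 (.op 14 0 (.and 1 0 (.dead0 0))) (.cons [4, 2, 2] 0 0 (.base (nat_lit 512) (.op 4 1 (.op 4 0 (.op 13 0 (.and 3 0 (.dead0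 0)))))) (.cons [3, 2, 2] 0 0 (.base B6 (.op 13 3 (.op 4 0 (.and 2 0 (.dead0 0))))) (.cons [1, 5, 3] 0 0 (.base (nat_lit 512) (.op 4 1 (.op 4 0 (.op 13 0 (.and 3 0 (.dead0 0)))))) (.cons [2, 5, 1, 3] 0 0 (.op 4 0 (.op 13 0 (.op 4 7 (.op 10 0 (.and 2 0 (.dead0 0)))))) .nil))))))))))))))))) (.cons [5, 3] 0 0 (.op 4 0 (.op 4 0 (.op 14 0 (.and 1 0 (.dead0 0))))) (.cons [7, 4, 2] 0 0 (.op 4 0 (.op 4 0 (.op 14 0 (.and 1 0 (.dead0 0))))) .nil)))))))))) (.cons [4] 0 0 (.base B4 (.op 7 1 (.op 10 0 (.and 2 0 (.dead0 0))))) (.cons [7, 3] 0 0 (.op 14 0 (.and 1 0 (.dead0 0))) (.cons [1, 3] 0 0 (.base B4 (.op 7 1 (.op 7 0 (.op 10 0 (.and 3 0 (.dead0 0)))))) (.cons [6, 3] 0 0 (.op 7 0 (.op 8 0 (.and 1 0 (.dead0 0)))) (.cons [3, 12, 4] 0 0 (.base B4 (.op 7 1 (.op 10 0 (.and 2 0 (.dead0 0))))) (.cons [10, 2, 4] 0 0 (.base B4 (.op 7 1 (.op 10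 0 (.and 2 0 (.dead0 0))))) (.cons [5, 2, 3] 0 0 (.base B4 (.op 7 1 (.op 10 0 (.and 2 0 (.dead0 0))))) (.cons [6, 1, 4] 0 0 (.base B4 (.op 7 1 (.op 10 0 (.and 2 0 (.dead0 0))))) (.cons [10, 1, 4] 0 0 (.base B4 (.op 7 1 (.op 10 0 (.and 2 0 (.dead0 0))))) (.cons [4, 9, 1, 3] 0 0 (.base B4 (.op 4 1 (.op 4 0 (.and 2 0 (.dead0 0))))) .nil)))))))))))))))))))))))))))))))))))))))))
noncomputable def qT : Tr := (.sym [[1], [3]] (.cons [] 4 1 qT_5 (.cons [3] 4 0 qT_4 (.cons [1] 4 0 (.base B1 (.op 4 1 (.op 4 0 (.and 2 0 (.dead0 0))))) (.cons [1, 3] 4 0 (.base B1 (.op 4 1 (.op 4 0 (.and 2 0 (.dead0 0))))) (.cons [5, 1] 4 0 (.op 4 0 (.op 4 0 (.op 14 0 (.and 1 0 (.dead0 0))))) (.cons [6, 1] 4 0 (.base B1 (.op 10 1 (.and 1 0 (.dead0 0)))) (.cons [5, 1, 3] 4 0 (.op 4 0 (.op 4 0 (.op 14 0 (.and 1 0 (.dead0 0))))) (.cons [6, 1, 3] 4 0 (.base B1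 (.op 10 1 (.and 1 0 (.dead0 0)))) (.cons [3, 5, 1] 4 0 (.op 7 0 (.op 8 0 (.and 1 0 (.dead0 0)))) (.cons [5, 5, 1] 4 0 (.base B1 (.op 4 1 (.and 1 0 (.dead0 0)))) (.cons [1, 5, 1] 4 0 (.op 7 0 (.op 8 0 (.and 1 0 (.dead0 0)))) (.cons [3, 6, 1] 4 0 (.base B1 (.op 4 1 (.and 1 0 (.dead0 0)))) (.cons [13, 5, 1] 4 0 (.op 14 0 (.and 1 0 (.dead0 0))) (.cons [1, 6, 1] 4 0 (.base B1 (.op 4 1 (.and 1 0 (.dead0 0)))) (.cons [7, 6, 1] 4 0 (.op 7 0 (.op 8 0 (.and 1 0 (.dead0 0)))) (.cons [8, 5, 1] 4 0 (.base B1 (.op 4 1 (.and 1 0 (.dead0 0)))) (.cons [7, 5, 1] 4 0 (.base B0 (.op 8 0 (.and 1 0 (.dead 0)))) (.cons [15, 6, 1] 4 0 (.base B0 (.op 14 0 (.and 1 0 (.dead 0)))) (.cons [16, 6, 1] 4 0 (.base B1 (.op 4 1 (.op 10 0 (.and 2 0 (.dead0 0))))) (.cons [18, 6, 1] 4 0 (.op 7 0 (.op 14 0 (.and 1 0 (.dead0 0)))) (.cons [14, 5, 1] 4 0 (.base B1 (.op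 10 1 (.and 1 0 (.dead0 0)))) (.cons [11, 6, 1] 4 0 (.base B0 (.op 14 0 (.and 1 0 (.dead 0)))) (.cons [5, 5, 1, 3] 4 0 (.base B1 (.op 4 1 (.and 1 0 (.dead0 0)))) (.cons [1, 5, 1, 3] 4 0 (.op 7 0 (.op 8 0 (.and 1 0 (.dead0 0)))) qT_3)))))))))))))))))))))))))
noncomputable def qTK : List (List ℕ) := [[22, 23, 21, 24, 21, 24, 21, 24, 24, 21, 23, 23, 15, 21, 23, 22, 24, 16], [13]]
noncomputable def qTF : List (List ℕ) := [[], [1], [3], [1, 3], [1, 4], [1, 3, 2, 4]]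

theorem cq : cenκ [subst sg uw, subst sg vw] qTF qTK qT [⟨0, [subst sg zw, [13]], 4⟩] [subst sg zw, [13]] [[1], [3]] 10 = true := by
  decide +kernel

end CF.FusG.WH
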