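import Cfsg.Agent.FusG.C
import Cfsg.Agent.FusC.M

/-! Embeddings of the model over the field with five elements from power-commutator relations. -/

set_option autoImplicit false
set_option linter.style.haveILetI false
set_option linter.unusedSimpArgs false

namespace CF.FusG.WP

open Cfsg Subgroup CF.Fus CF.FusD CF.FusU Function Gu CF.FusC

/-- the root elements `a t b c s z` -/
def gg (K : Type) [Field K] (i : ℕ) : Gu K := [xa 1, xt 1, xb 1, xc 1, xs 1, xz 1].getD i 1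

theorem mem_of {p : ℕ} [Fact p.Prime] {H : Subgroup (Gu (ZMod p))} (f : ZMod p → Gu (ZMod p))
    (hf : ∀ a b, f (a + b) = f a * f b) (h : f 1 ∈ H) (a : ZMod p) : f a ∈ H := by
  obtain ⟨n, rfl⟩ := ZMod.natCast_zmod_surjective a
  induction n with
  | zero =>
    have := hf 0 0
    rw [add_zero, left_eq_mul] at this
    rw [Nat.cast_zero, this]; exact one_mem _
  | succ n ih => rw [Nat.cast_succ, hf]; exact mul_mem ih h

theorem KK_top {p : ℕ} [Fact p.Prime] : KK (gg (ZMod p)) 6 0 = ⊤ := eq_top_iff.2 fun x _ => by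
  have m : ∀ i < 6, gg (ZMod p) i ∈ KK (gg (ZMod p)) 6 0 := fun i => mem_KK i.zero_le
  rw [prod_x x]
  refine mul_mem (mul_mem (mul_mem (mul_mem (mul_mem ?_ ?_) ?_) ?_) ?_) ?_
  exacts [mem_of xt (fun a b => by ext <;> simp) (m 1 (by omega)) _,
    mem_of xb (fun a b => by ext <;> simp) (m 2 (by omega)) _,
    mem_of xc (fun a b => by ext <;> simp) (m 3 (by omega)) _,
    mem_of xs (fun a b => by ext <;> simp) (m 4 (by omega)) _,
    mem_of xz (fun a b => by ext <;> simp) (m 5 (by omega)) _,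
    mem_of xa (fun a b => by ext <;> simp) (m 0 (by omega)) _]

theorem exists_hom {p : ℕ} [Fact p.Prime] {G : Type} [Group G] [Finite G] {w : ℕ → ℕ → List ℕ}
    (hw : ∀ i < 6, ∀ j < 6, ∀ k ∈ w i j, i < k ∧ k < 6) (hg : PC p 6 w (gg (ZMod p))) {h : ℕ → G}
    (hh : PC p 6 w h) : ∃ ι : Gu (ZMod p) →* G, ∀ i < 6, ι (gg _ i) = h i := by
  set g := gg (ZMod p)
  have e1 : (KK (fun i => (g i, h i)) 6 0).map (MonoidHom.fst _ G) = ⊤ := (map_KK _ _ _ _).trans KK_top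
  obtain ⟨-, b⟩ := PC.card_le (g := fun i => (g i, h i)) (w := w) (fun i hi => ⟨Prod.ext (hg i hi).1 (hh i hi).1,
    fun j hj hij => Prod.ext (((hg i hi).2 j hj hij).trans (congrArg (· * _)
      (map_evw (MonoidHom.fst (Gu (ZMod p)) G) (fun i => (g i, h i)) _).symm)) (((hh i hi).2 j hj hij).trans (congrArg (· * _)
      (map_evw (MonoidHom.snd (Gu (ZMod p)) G) (fun i => (g i, h i)) _).symm))⟩) hw 6 0 rfl
  have c : ∀ m < 6, (g m, h m) ∈ KK (fun i => (g i, h i)) 6 0 := fun m => mem_KK m.zero_le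
  generalize KK (fun i => (g i, h i)) 6 0 = D at *
  have f : Bijective ((MonoidHom.fst _ G).comp D.subtype) := Surjective.bijective_of_nat_card_le
    (fun x => let ⟨y, hy, e⟩ := e1.ge (mem_top x); ⟨⟨y, hy⟩, e⟩) (by rwa [card, Nat.card_zmod])
  exact ⟨((MonoidHom.snd _ G).comp D.subtype).comp (MulEquiv.ofBijective _ f).symm.toMonoidHom, fun m hm =>
    congrArg (fun y : D => y.1.2) ((MulEquiv.ofBijective _ f).symm_apply_apply ⟨_, c m hm⟩)⟩

theorem inj_of {p : ℕ} [Fact p.Prime] (h3 : (3 : ZMod p) ≠ 0) {G : Type} [Group G] {ι : Gu (ZMod p) →* G}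
    (h : ι (xz 1) ≠ 1) : Injective ι := by
  have n : ∀ x ∈ ι.ker, ∀ y, cm x y ∈ ι.ker := fun x hx y => cm_mem hx (le_normalizer_of_normal (mem_top y))
  have k1 : ∀ x ∈ ι.ker, x ∈ Z1 _ → x.z = 0 := fun x hx e => by_contra fun c => h (by
    have := mem_of (H := ι.ker) (fun a => xz (a * x.z)) (fun a b => by ext <;> simp [add_mul])
      (Z1_ext e (xz_mem _) (one_mul _).symm ▸ hx) (x.z)⁻¹
    rwa [inv_mul_cancel₀ c] at this)
  have k2 : ∀ x ∈ ι.ker, x ∈ Z2 _ → x.s = 0 := fun x hx e => by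
    simpa [cm_z2 e] using k1 _ (n x hx (xt 1)) (cm1 e _)
  refine (injective_iff_map_eq_one ι).2 fun x hx => ?_
  have a : x.a = 0 := by simpa [cm_s3' x (xc_mem 1), h3] using k2 _ (n x hx (xc 1)) (cm2' x (xc_mem 1))
  have t : x.t = 0 := by simpa [cm_z2' x (xs_mem 1)] using k1 _ (n x hx (xs 1)) (cm1' x (xs_mem 1))
  have b : x.b = 0 := by simpa [cm_z1 a (xc_mem 1).1, h3] using k1 _ (n x hx (xc 1)) (cmQ1 a rfl)
  have c : x.c = 0 := by simpa [cm_z1 a (xb_mem 1).1, h3] using k1 _ (n x hx (xb 1)) (cmQ1 a rfl)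
  have s := of2 ⟨a, t, b, c⟩ (k2 x hx ⟨a, t, b, c⟩)
  exact of1 s (k1 x hx s)

/-- the relations for `q = 5` -/
def w5 (i j : ℕ) : List ℕ := ([[[], [2, 2, 2, 2, 3, 3, 3, 3, 4, 4, 4, 4, 5], [3, 3, 3, 4, 4, 5, 5, 5], [4, 4]],
  [[], [], [], [], [5, 5, 5, 5]], [[], [], [], [5, 5, 5]]].getD i []).getD j []

theorem pc5 : PC 5 6 w5 (gg (ZMod 5)) := by unfold PC; decide +kernel

/-- Six elements with the relations `w5` in a group whose order is not divisible by `5 ^ 7`. -/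
theorem exists5 {G : Type} [Group G] [Finite G] {h : ℕ → G} (hh : PC 5 6 w5 h) (h5 : h 5 ≠ 1)
    (hc : ¬ 5 ^ 7 ∣ Nat.card G) : ∃ ι : Gu (ZMod 5) →* G, Injective ι ∧ SylIn 5 ι.range ⊤ ∧
      ι (xa 1) = h 0 ∧ ι (xt 1) = h 1 ∧ ι (xb 1) = h 2 ∧ ι (xc 1) = h 3 ∧ ι (xs 1) = h 4 ∧ ι (xz 1) = h 5 := by
  obtain ⟨ι, e⟩ := exists_hom (by decide) pc5 hh
  have i : Injective ι := inj_of (by decide) ((e 5 (by omega)).trans_ne h5)
  have c : Nat.card ι.range = 5 ^ 6 := by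
    rw [← Nat.card_congr (MonoidHom.ofInjective i).toEquiv, card, Nat.card_zmod]
  refine ⟨ι, i, .of_not_dvd le_top (.of_card c) fun d => hc ?_, e 0 (by omega), e 1 (by omega), e 2 (by omega),
    e 3 (by omega), e 4 (by omega), e 5 (by omega)⟩
  rw [← ι.range.card_mul_index, c, pow_succ]
  exact Nat.mul_dvd_mul_left _ (ι.range.relIndex_top_right ▸ d)

end CF.FusG.WP
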